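import Groth.Agent.SymAlg.AmpleR

/-!
An everywhere defined `r_{L,ψ}` inducing the topology forces relative ampleness.
-/

set_option autoImplicit false
set_option backward.isDefEq.respectTransparency false
set_option linter.style.haveILetI false

universe u

open CategoryTheory CategoryTheory.Limits AlgebraicGeometry TopologicalSpace Opposite
open Groth.Agent.QC (res resO res_res res_self res_smul)

noncomputable section

namespace Groth.Agent.SymAlg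

open Groth.Agent
open TMul (IsGen pw)

variable {X : Scheme.{u}} {L : X.Modules} {𝒮L : RelProj.QCGrAlg X} {j : L ⟶ 𝒮L.toModule}
  (hL : PicF.IsInvertible L) (hLq : Coh.IsQCoh L) (hj : RelProj.IsGrSymAlg L 𝒮L j)

include hL hLq hj in
/-- Sections of a tensor power are determined by their image in the algebra. -/
lemma theta_injective (n : ℕ) (O : X.Opens) : Function.Injective (theta j n O) := by
  intro t t' h
  refine Groth.Agent.QC.section_eq_of_locally fun x hx => ?_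
  obtain ⟨V, hV, e, hxV, hVO, he⟩ := exists_triv hL (O := O) hx
  refine ⟨V, hVO, hxV, ?_⟩
  obtain ⟨c, hc⟩ := (TMul.isGen_pw he n V le_rfl).2 (res _ hVO t)
  obtain ⟨c', hc'⟩ := (TMul.isGen_pw he n V le_rfl).2 (res _ hVO t')
  simp only [res_self] at hc hc'
  have h' := congrArg (resL 𝒮L hVO) h
  rw [theta_res, theta_res, ← hc, ← hc', theta_smul, theta_smul, theta_pw] at h'
  rw [← hc, ← hc', coeff_inj hLq hj hV he h']

include hL hLq hj in
/-- Every section of degree `n` comes from the tensor power. -/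
lemma exists_theta_eq (n : ℕ) {O : X.Opens} (a : 𝒮L.presheaf.obj (op O))
    (ha : ∀ (V : X.Opens) (hV : IsAffineOpen V) (h : V ≤ O), resL 𝒮L h a ∈ 𝒮L.deg V hV n) :
    ∃ t, theta j n O t = a := by
  choose V hV e hxV hVO he using fun x : O => exists_triv hL (O := O) (x := x.1) x.2
  choose c hc using fun x : O => exists_coeff hLq hj (hV x) (he x) (ha _ (hV x) (hVO x))
  let s : ∀ x : O, Γ(CohB1.tensorPow L n, V x) := fun x => c x • pw (e x) n
  have hs : ∀ x, theta j n (V x) (s x) = resL 𝒮L (hVO x) a := fun x => by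
    rw [theta_smul, theta_pw, hc x]
  obtain ⟨t, ht, -⟩ := TopCat.Sheaf.existsUnique_gluing' (Groth.Agent.QC.abSheaf (CohB1.tensorPow L n))
    V O (fun x => homOfLE (hVO x)) (fun x hx => Opens.mem_iSup.mpr ⟨⟨x, hx⟩, hxV _⟩) s (fun x y => by
      refine theta_injective hL hLq hj n _ ?_
      change theta j n _ (res _ inf_le_left (s x)) = theta j n _ (res _ inf_le_right (s y))
      rw [← theta_res, ← theta_res, hs, hs, resL_resL, resL_resL])
  refine ⟨t, eq_of_locally fun x hx => ⟨V ⟨x, hx⟩, hVO _, hxV _, ?_⟩⟩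
  rw [theta_res, show res _ (hVO ⟨x, hx⟩) t = s ⟨x, hx⟩ from ht ⟨x, hx⟩, hs]

/-- The generating locus of a section over an open subscheme. -/
lemma mem_image_genLocus_iff {M : X.Modules} (Z : X.Opens)
    (s : Coh.structureModule (Z : Scheme.{u}) ⟶ M.restrict Z.ι) (t : Γ(M, Z.ι ''ᵁ ⊤))
    (ht : t = TMul.val s ⊤) (y : X) :
    y ∈ Z.ι ''ᵁ CohB1.genLocus _ s ↔
      ∃ (W : X.Opens) (h : W ≤ Z) (h' : W ≤ Z.ι ''ᵁ ⊤), y ∈ W ∧ IsGen (res M h' t) := by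
  subst ht
  constructor
  · rintro ⟨y', hy', rfl⟩
    obtain ⟨W, hyW, hW⟩ := (TMul.mem_genLocus_iff s).mp hy'
    rw [TMul.isGen_restrict_iff] at hW
    exact ⟨Z.ι ''ᵁ W, Z.ι_image_le W, Z.ι.image_mono le_top, ⟨y', hyW, rfl⟩, hW⟩
  · rintro ⟨W, hWZ, hW', hyW, hW⟩
    refine ⟨⟨y, hWZ hyW⟩, (TMul.mem_genLocus_iff s).mpr ⟨Z.ι ⁻¹ᵁ W, hyW, ?_⟩, rfl⟩
    rw [TMul.isGen_restrict_iff]
    have hle : Z.ι ''ᵁ (Z.ι ⁻¹ᵁ W) ≤ W := by
      rw [Scheme.Hom.image_preimage_eq_opensRange_inf]; exact inf_le_right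
    have := TMul.IsGen.res hW hle
    rw [res_res] at this
    exact this

variable {Y P PL : Scheme.{u}} {f : X ⟶ Y} {𝒜 : RelProj.QCGrAlg Y} (u : RelProj.QGrHom f 𝒜 𝒮L)
  {p : P ⟶ Y}
  {chart : ∀ (U : Y.Opens) (hU : IsAffineOpen U), ((p ⁻¹ᵁ U : P.Opens) : Scheme.{u}) ≅ Proj (𝒜.deg U hU)}
  {pL : PL ⟶ X}
  {chartL : ∀ (U : X.Opens) (hU : IsAffineOpen U), ((pL ⁻¹ᵁ U : PL.Opens) : Scheme.{u}) ≅ Proj (𝒮L.deg U hU)}
  (hPL : RelProj.IsRelProj 𝒮L pL chartL) (hP : RelProj.IsRelProj 𝒜 p chart)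
  {r : ((RelProj.domQ u pL chartL : PL.Opens) : Scheme.{u}) ⟶ P}
  (hr : RelProj.IsProjQMapOn u p chart pL chartL (RelProj.domQ u pL chartL) r)

include hL hLq hj hPL hP hr in
theorem isRelAmple_of_inducing [QuasiCompact f] (htop : RelProj.domQ u pL chartL = ⊤)
    (hind : Topology.IsInducing r.base) : RelAmple.IsRelAmple f L := by
  refine ⟨inferInstance, fun ⟨U, hU⟩ => ?_⟩
  let Z := f ⁻¹ᵁ U
  haveI : CompactSpace (Z : Scheme.{u}) :=
    isCompact_iff_compactSpace.mp (f.isCompact_preimage hU.isCompact)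
  refine ⟨TMul.isInvertible_restrict Z.ι hL, inferInstance, fun x => ?_⟩
  obtain ⟨V, hV, hxV, hVZ⟩ := exists_isAffineOpen_mem_and_subset (U := Z) (x := x.1) x.2
  haveI := isIso_pL hL hLq hj hPL
  obtain ⟨z, hz⟩ : ∃ z, pL z = x.1 := ⟨inv pL x.1, by rw [← Scheme.Hom.comp_apply, IsIso.inv_hom_id]; rfl⟩
  obtain ⟨w, rfl⟩ : ∃ w, (RelProj.domQ u pL chartL).ι w = z := ⟨⟨z, htop ▸ trivial⟩, rfl⟩
  obtain ⟨O, hO, hOV⟩ := hind.isOpen_iff.mp
    ((RelProj.domQ u pL chartL).ι ⁻¹ᵁ (pL ⁻¹ᵁ V)).2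
  have hwO : r w ∈ O := by
    rw [← Set.mem_preimage, hOV]
    show pL ((RelProj.domQ u pL chartL).ι w) ∈ V
    rw [hz]
    exact hxV
  have hover : ∀ w', p (r w') = f (pL ((RelProj.domQ u pL chartL).ι w')) := fun w' =>
    congrArg (fun k : _ ⟶ Y => k w') (RelProjLib.qmap_over u hP hPL hr)
  have hwU : r w ∈ (RelProj.emb p chart U hU).opensRange := by
    rw [RelProjLib.opensRange_emb]
    show p (r w) ∈ U
    rw [hover, hz]
    exact x.2
  obtain ⟨y, hy⟩ := hwU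
  obtain ⟨n, a, hn, ha, hya, haO⟩ :=
    exists_basicOpen_le (O := RelProj.emb p chart U hU ⁻¹ᵁ ⟨O, hO⟩) (y := y) (by
      show RelProj.emb p chart U hU y ∈ O
      rw [hy]; exact hwO)
  obtain ⟨m, rfl⟩ : ∃ m, n = m + 1 := ⟨n - 1, by omega⟩
  obtain ⟨t, ht⟩ := exists_theta_eq hL hLq hj (m + 1) ((u.app U).hom a)
    (fun W hW h => resL_uapp_mem u hU ha W hW h)
  obtain ⟨e⟩ := TMul.nonempty_restrictPowIso Z.ι L (m + 1)
  let t' : Γ(CohB1.tensorPow L (m + 1), Z.ι ''ᵁ ⊤) := res _ (Z.ι_image_le ⊤) t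
  let s : Coh.structureModule (Z : Scheme.{u}) ⟶ (CohB1.tensorPow L (m + 1)).restrict Z.ι :=
    TMul.homOf (L := (CohB1.tensorPow L (m + 1)).restrict Z.ι) t'
  have hs : t' = TMul.val s ⊤ :=
    ((TMul.val_homOf (L := (CohB1.tensorPow L (m + 1)).restrict Z.ι) t' ⊤).trans
      (Groth.Agent.QC.res_self _ _ _)).symm
  have hgl : ∀ y : X, y ∈ Z.ι ''ᵁ CohB1.genLocus _ s ↔ y ∈ Rel.NV u hU (m + 1) a := fun y => by
    rw [mem_image_genLocus_iff Z s t' hs, mem_NV_iff, ← ht, ← exists_isGen_iff hL hLq hj (m + 1) t y]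
    exact ⟨fun ⟨W, h, h', hy, hg⟩ => ⟨W, h, hy, by rwa [show res _ h t = res _ h' t' from
        (res_res _ _ _ _).symm]⟩,
      fun ⟨W, h, hy, hg⟩ => by
        have h' : W ≤ Z.ι ''ᵁ ⊤ := fun y hy => ⟨⟨y, h hy⟩, trivial, rfl⟩
        exact ⟨W, h, h', hy, by rwa [show res _ h' t' = res _ h t from res_res _ _ _ _]⟩⟩
  have hle : ∀ y, y ∈ Rel.NV u hU (m + 1) a → y ∈ V := fun y hy => by
    obtain ⟨⟨W, hW⟩, hyW⟩ := Opens.mem_iSup.mp hy
    obtain ⟨z', rfl⟩ : ∃ z', pL z' = y := ⟨inv pL y, by rw [← Scheme.Hom.comp_apply, IsIso.inv_hom_id]; rfl⟩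
    obtain ⟨w', ⟨b, hb, hbw⟩, rfl⟩ :=
      (Rel.mem_preimage_basicOpen_iff hL hLq hj u hPL hr hU hP hn ha z').mpr ⟨W, hyW, hW⟩
    have : r w' ∈ O := by
      rw [← hbw]
      exact haO hb
    rw [← Set.mem_preimage, hOV] at this
    exact this
  obtain ⟨Wn, hxW, hWn⟩ := (Rel.mem_preimage_basicOpen_iff hL hLq hj u hPL hr hU hP hn ha
    ((RelProj.domQ u pL chartL).ι w)).mp ⟨w, ⟨y, hya, hy⟩, rfl⟩
  have hxNV : x.1 ∈ Rel.NV u hU (m + 1) a := Opens.mem_iSup.mpr ⟨⟨Wn, hWn⟩, hz ▸ hxW⟩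
  refine ⟨m, s ≫ e.inv, ?_⟩
  rw [TMul.genLocus_comp]
  refine ⟨?_, ?_⟩
  · obtain ⟨x', hx', he⟩ := (hgl x.1).mpr hxNV
    exact Z.ι.isOpenEmbedding.injective he ▸ hx'
  · have hVaff : IsAffineOpen (Z.ι ⁻¹ᵁ V) := by
      rw [← Z.ι.isAffineOpen_iff_of_isOpenImmersion, Scheme.Hom.image_preimage_eq_opensRange_inf,
        Scheme.Opens.opensRange_ι, inf_eq_right.mpr (show V ≤ Z from hVZ)]
      exact hV
    refine TMul.isAffineOpen_genLocus_of_le ?_ s hVaff fun y hy => hle _ ((hgl _).mp ⟨y, hy, rfl⟩)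
    exact TMul.isInvertible_restrict Z.ι (TMul.isInvertible_tensorPow hL (m + 1))

end Groth.Agent.SymAlg
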