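import Groth.Agent.SymAlg.VAmple
import Groth.Agent.RelTilde.BaseChange
import Groth.Agent.InvGen.Basic
import Groth.Agent.TMul.GenLocus
import Groth.Agent.RelTilde.BaseVal

/-!
The fundamental map `E ⟶ p_* O(1)` of a projective bundle.
-/

set_option autoImplicit false
set_option backward.isDefEq.respectTransparency false
set_option linter.style.haveILetI false

universe u

open CategoryTheory CategoryTheory.Limits DirectSum AlgebraicGeometry TopologicalSpace Opposite
open scoped HomogeneousIdeal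
open Groth.Agent.QC (res res_res)
open Groth.Agent.RelTilde (Datum fracSect til_ext fr IsB)

noncomputable section

namespace Groth.Agent.SymAlg

variable {S P : Scheme.{u}} {E : S.Modules} {𝒮 : RelProj.QCGrAlg S} {j : E ⟶ 𝒮.toModule}
  (hj : RelProj.IsGrSymAlg E 𝒮 j) {p : P ⟶ S}
  {ch : ∀ (U : S.Opens) (hU : IsAffineOpen U), ((p ⁻¹ᵁ U : P.Opens) : Scheme.{u}) ≅ Proj (𝒮.deg U hU)}

/-- `j e` in the algebra. -/
abbrev jE (j : E ⟶ 𝒮.toModule) (U : S.Opens) (e : Γ(E, U)) : 𝒮.presheaf.obj (op U) := j.app U e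

/-- The section `j e / 1`. -/
def fundSect (U : S.Opens) (hU : IsAffineOpen U) (e : Γ(E, U)) (W : (Proj (𝒮.deg U hU)).Opens) :
    Γ((Datum.self 𝒮).til 1 U hU, W) :=
  fracSect (𝒮.deg U hU) (𝒮.deg U hU) 1 (a := jE j U e) (g := 1) (hj.2 U hU e)
    SetLike.GradedOne.one_mem (by simp) W
    fun y => GrMod.one_nin y.1

lemma fundSect_add (U : S.Opens) (hU : IsAffineOpen U) (e e' : Γ(E, U))
    (W : (Proj (𝒮.deg U hU)).Opens) :
    fundSect hj U hU (e + e') W = fundSect hj U hU e W + fundSect hj U hU e' W := by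
  refine til_ext fun y => ?_
  refine Eq.trans ?_ (RelTilde.fr_add (𝒮.deg U hU) y.1 (GrMod.one_nin y.1) (GrMod.one_nin y.1)).symm
  refine RelTilde.fr_congr (𝒮.deg U hU) y.1 _ _ ?_
  have h : jE j U (e + e') = jE j U e + jE j U e' := map_add (j.app U).hom e e'
  simp only [smul_eq_mul, one_mul]
  exact h

lemma fundSect_smul (U : S.Opens) (hU : IsAffineOpen U) (c : Γ(S, U)) (e : Γ(E, U))
    (W : (Proj (𝒮.deg U hU)).Opens) (y : W) :
    GrMod.val (fundSect hj U hU (c • e) W) y =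
      fr (𝒮.deg U hU) y.1 ((𝒮.str.app (op U)).hom c * jE j U e) 1 (GrMod.one_nin y.1) :=
  RelTilde.fr_congr (𝒮.deg U hU) y.1 _ _ (congrArg ((1 : 𝒮.presheaf.obj (op U)) • ·)
    (Scheme.Modules.Hom.app_smul j c e))

variable (hP : RelProj.IsRelProj 𝒮 p ch) {O1 : P.Modules}
  {lam : ∀ (U : S.Opens) (hU : IsAffineOpen U), O1 ⟶ (Datum.self 𝒮).E p ch 1 U hU}
  (hO1 : (Datum.self 𝒮).IsTilde p ch 1 O1 lam)

variable (j lam) in
/-- `φ` is the fundamental map: on charts a section `e` goes to `j e / 1`. -/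
def IsFund (φ : E ⟶ (Scheme.Modules.pushforward p).obj O1) : Prop :=
  ∀ (U : S.Opens) (hU : IsAffineOpen U) (e : Γ(E, U))
    (y : ↥(RelProj.emb p ch U hU ⁻¹ᵁ (p ⁻¹ᵁ U))),
    GrMod.val (V := RelProj.emb p ch U hU ⁻¹ᵁ (p ⁻¹ᵁ U)) ((lam U hU).app (p ⁻¹ᵁ U) ((φ.app U) e)) y =
      fr (𝒮.deg U hU) y.1 (jE j U e) 1 (GrMod.one_nin y.1)

include hj hP hO1

set_option maxHeartbeats 1600000 in
set_option synthInstance.maxHeartbeats 200000 in
/-- The fundamental map exists. -/
theorem exists_isFund : ∃ φ : E ⟶ (Scheme.Modules.pushforward p).obj O1, IsFund j lam φ := by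
  let I : S.Opens → Type u := fun W => {V : S.affineOpens // V.1 ≤ W}
  have hex : ∀ (W : S.Opens) (e : Γ(E, W)), ∃! r : Γ(O1, p ⁻¹ᵁ W), ∀ i : I W,
      (lam i.1.1 i.1.2).app (p ⁻¹ᵁ W) r = fundSect hj i.1.1 i.1.2 (res E i.2 e) _ := by
    intro W e
    refine hO1.existsUnique_section' hP (fun i : I W => i.1.1) (fun i => i.1.2) (fun x hx => ?_) _ ?_
    · obtain ⟨V, hV, hxV, hle⟩ := exists_isAffineOpen_mem_and_subset (x := p.base x) (U := W) hx
      exact Opens.mem_iSup.mpr ⟨⟨⟨V, hV⟩, hle⟩, hxV⟩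
    · intro i k O hO bi bk z y y' hi hk hy hy'
      have hres : ∀ (i : I W) (b : IsB O i.1.1), 𝒮.res i.1.2 hO b.le (jE j i.1.1 (res E i.2 e)) =
          jE j O (res E (b.le.trans i.2) e) := fun i b => by
        refine (QC.app_res j b.le (res E i.2 e)).trans ?_
        exact congrArg (j.app O) (res_res E b.le i.2 e)
      refine ((Datum.self 𝒮).tr_mk i.1.2 hO bi z y hi (jE j i.1.1 (res E i.2 e)) 1 _).trans ?_
      refine Eq.trans ?_ ((Datum.self 𝒮).tr_mk k.1.2 hO bk z y' hk (jE j k.1.1 (res E k.2 e)) 1 _).symm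
      exact congrArg₂ LocalizedModule.mk ((hres i bi).trans (hres k bk).symm)
        (Subtype.ext ((map_one (𝒮.res i.1.2 hO bi.le)).trans (map_one (𝒮.res k.1.2 hO bk.le)).symm))
  choose r hr hru using hex
  have hext : ∀ (W : S.Opens) (a b : Γ(O1, p ⁻¹ᵁ W)),
      (∀ i : I W, (lam i.1.1 i.1.2).app _ a = (lam i.1.1 i.1.2).app _ b) → a = b :=
    fun W a b hab => QC.section_eq_of_locally fun x hx => by
      obtain ⟨V, hV, hxV, hle⟩ := exists_isAffineOpen_mem_and_subset (x := p.base x) (U := W) hx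
      refine ⟨p ⁻¹ᵁ V, p.preimage_mono hle, hxV, (hO1.bijective V hV _ le_rfl).1 ?_⟩
      rw [← QC.app_res, ← QC.app_res, hab ⟨⟨V, hV⟩, hle⟩]
  let φ : E ⟶ (Scheme.Modules.pushforward p).obj O1 := ⟨PresheafOfModules.homMk
    { app := fun W => AddCommGrpCat.ofHom (X := Γ(E, W.unop)) (Y := Γ(O1, p ⁻¹ᵁ W.unop))
        (AddMonoidHom.mk' (r W.unop) fun a b => hext _ _ _ fun i => by
          refine (hr W.unop (a + b) i).trans ?_
          rw [map_add, fundSect_add, map_add]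
          exact congrArg₂ (· + ·) (hr W.unop a i).symm (hr W.unop b i).symm)
      naturality := fun W W' f => by
        ext e
        change r W'.unop (res E (leOfHom f.unop) e) =
          res O1 (p.preimage_mono (leOfHom f.unop)) (r W.unop e)
        refine hext _ _ _ fun i => ?_
        rw [hr, res_res, ← QC.app_res, hr W.unop e ⟨i.1, i.2.trans (leOfHom f.unop)⟩]
        rfl }
    fun W (c : Γ(S, W.unop)) (e : Γ(E, W.unop)) => by
      change r W.unop (c • e) = (p.app W.unop).hom c • r W.unop e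
      refine hext _ _ _ fun i => ?_
      refine (hr W.unop (c • e) i).trans ?_
      refine Eq.trans ?_ ((lam i.1.1 i.1.2).app_smul ((p.app W.unop).hom c) (r W.unop e)).symm
      rw [hr W.unop e i, QC.res_smul]
      refine til_ext fun y => ?_
      refine (fundSect_smul hj i.1.1 i.1.2 _ _ _ y).trans ?_
      refine Eq.trans ?_ (GrMod.coe_smul_val 1 y.1 _ _).symm
      refine Eq.trans ?_ (congrArg (fun t : GrTwist.Loc (𝒮.deg i.1.1 i.1.2) y.1 => t • ((fundSect hj i.1.1 i.1.2 (res E i.2 e) _).1 y).1)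
        (RelTilde.val_base_app hP i.1.2 i.2 c y.1 y.2)).symm
      change _ = (Localization.mk _ (1 : y.1.asHomogeneousIdeal.toIdeal.primeCompl) :
          GrTwist.Loc (𝒮.deg i.1.1 i.1.2) y.1) •
        LocalizedModule.mk (jE j i.1.1 (res E i.2 e))
          (⟨1, GrMod.one_nin y.1⟩ : y.1.asHomogeneousIdeal.toIdeal.primeCompl)
      rw [LocalizedModule.mk_smul_mk, smul_eq_mul]
      exact congrArg₂ LocalizedModule.mk rfl (Subtype.ext (one_mul 1).symm)⟩
  refine ⟨φ, fun U hU e y => ?_⟩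
  refine (congrArg (fun t => GrMod.val (V := RelProj.emb p ch U hU ⁻¹ᵁ (p ⁻¹ᵁ U)) t y)
    (hr U e ⟨⟨U, hU⟩, le_rfl⟩)).trans ?_
  rw [QC.res_self]
  rfl

omit hP hO1

include hj in
/-- The degree-one generators `j e` have no common zero. -/
lemma exists_jE_not_mem [E.IsQuasicoherent] (U : S.Opens) (hU : IsAffineOpen U) (y : ProjectiveSpectrum (𝒮.deg U hU)) :
    ∃ e : Γ(E, U), jE j U e ∉ y.asHomogeneousIdeal := by
  by_contra H
  push Not at H
  refine y.not_irrelevant_le ?_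
  let A := 𝒮.presheaf.obj (op U)
  let I : Ideal A := Ideal.span (Set.range (jE j U))
  let π : A →+* A := GradedRing.projZeroRingHom (𝒮.deg U hU)
  have hgen : ∀ z : A, Ideal.Quotient.mk I (π z) = Ideal.Quotient.mk I z := fun z => by
    have hz : z ∈ Subring.closure (Set.range (SymAlgGen.strS 𝒮.toQCAlg U) ∪
        Set.range (SymAlgGen.jsec j U)) := (SymAlgGen.gen_eq_top hj.1 hU).ge (Subring.mem_top z)
    refine RingHom.eqOn_set_closure (f := (Ideal.Quotient.mk I).comp π) (g := Ideal.Quotient.mk I)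
      ?_ hz
    rintro _ (⟨r, rfl⟩ | ⟨m, rfl⟩)
    · exact congrArg (Ideal.Quotient.mk I) (decompose_of_mem_same _ (𝒮.str_mem U hU r))
    · have h0 : π (jE j U m) = 0 := decompose_of_mem_ne _ (hj.2 U hU m) one_ne_zero
      change Ideal.Quotient.mk I (π (jE j U m)) = Ideal.Quotient.mk I (jE j U m)
      rw [h0, map_zero, Ideal.Quotient.eq_zero_iff_mem.mpr (Ideal.subset_span (show jE j U m ∈ Set.range (jE j U) from ⟨m, rfl⟩))]
  rw [HomogeneousIdeal.irrelevant_le]
  intro i hi b hb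
  have hb' : b ∈ I := by
    rw [← Ideal.Quotient.eq_zero_iff_mem, ← hgen, show π b = 0 from
      decompose_of_mem_ne _ hb (Nat.pos_iff_ne_zero.mp hi), map_zero]
  exact (show I ≤ y.asHomogeneousIdeal.toIdeal from
    Ideal.span_le.mpr (by rintro _ ⟨e, rfl⟩; exact H e)) hb'

include hO1 in
/-- `φ e` generates `O(1)` where `j e` does not vanish. -/
lemma isGen_fund {φ : E ⟶ (Scheme.Modules.pushforward p).obj O1} (hφ : IsFund j lam φ)
    (U : S.Opens) (hU : IsAffineOpen U) (e : Γ(E, U)) {V : P.Opens} (hV : V ≤ p ⁻¹ᵁ U)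
    (hVe : RelProj.emb p ch U hU ⁻¹ᵁ V ≤ Proj.basicOpen (𝒮.deg U hU) (jE j U e)) :
    TMul.IsGen (res O1 hV (φ.app U e : Γ(O1, p ⁻¹ᵁ U))) := by
  have hV' : V ≤ (RelProj.emb p ch U hU).opensRange :=
    hV.trans (RelProjLib.opensRange_emb (𝒮 := 𝒮) (q := p) (ch := ch) U hU).ge
  refine RelTilde.isGen_of_app (RelProj.emb p ch U hU) (lam U hU) (hO1.bijective' U hU) hV' _ ?_
  suffices key : (lam U hU).app V (res O1 hV (φ.app U e : Γ(O1, p ⁻¹ᵁ U))) =
      RelTilde.powGen (f := jE j U e) (hj.2 U hU e) 1 hVe from key.symm ▸ RelTilde.isGen_powGen (f := jE j U e) (hj.2 U hU e) 1 hVe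
  refine til_ext fun z => ?_
  refine (RelTilde.Datum.IsTilde.app_res (lam := lam) hV (φ.app U e) U hU z.1 z.2).trans ?_
  refine (hφ U hU e ⟨z.1, hV z.2⟩).trans ?_
  refine Eq.trans ?_ (RelTilde.val_powGen (f := jE j U e) (hj.2 U hU e) 1 hVe z).symm
  exact congrArg₂ LocalizedModule.mk (pow_one _).symm (Subtype.ext (pow_zero _).symm)

set_option maxHeartbeats 1600000 in
set_option synthInstance.maxHeartbeats 200000 in
include hj hO1 in
/-- The adjunct of the fundamental map is an epimorphism. -/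
theorem epi_fund [E.IsQuasicoherent] {φ : E ⟶ (Scheme.Modules.pushforward p).obj O1} (hφ : IsFund j lam φ) :
    Epi (((Scheme.Modules.pullbackPushforwardAdjunction p).homEquiv E O1).symm φ) := by
  let ν := ((Scheme.Modules.pullbackPushforwardAdjunction p).homEquiv E O1).symm φ
  have hν : ∀ (W : S.Opens) (m : Γ(E, W)),
      ν.app (p ⁻¹ᵁ W) (OmegaSh.pullSect p E W m) = φ.app W m := fun W m => by
    have h1 : ((Scheme.Modules.pullbackPushforwardAdjunction p).unit.app E ≫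
        (Scheme.Modules.pushforward p).map ν) = φ :=
      ((Scheme.Modules.pullbackPushforwardAdjunction p).homEquiv_unit E O1 ν).symm.trans
        (Equiv.apply_symm_apply _ φ)
    exact congr(($h1).app W m)
  refine InvGen.epi_of_locally _ fun W t x hx => ?_
  obtain ⟨U, hU, hxU, -⟩ := exists_isAffineOpen_mem_and_subset (x := p.base x) (U := ⊤) trivial
  obtain ⟨y, rfl⟩ := RelTilde.exists_point (q := p) (ch := ch) U hU hxU
  obtain ⟨e, he⟩ := exists_jE_not_mem hj U hU y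
  let V : P.Opens := W ⊓ (RelProj.emb p ch U hU ''ᵁ Proj.basicOpen (𝒮.deg U hU) (jE j U e))
  have hV : V ≤ p ⁻¹ᵁ U := inf_le_right.trans (((RelProj.emb p ch U hU).image_le_opensRange _).trans
    (RelProjLib.opensRange_emb (𝒮 := 𝒮) (q := p) (ch := ch) U hU).le)
  have hVe : RelProj.emb p ch U hU ⁻¹ᵁ V ≤ Proj.basicOpen (𝒮.deg U hU) (jE j U e) :=
    ((RelProj.emb p ch U hU).preimage_mono inf_le_right).trans
      ((RelProj.emb p ch U hU).preimage_image_eq _).le
  obtain ⟨c, hc⟩ := (isGen_fund hj hO1 hφ U hU e hV hVe V le_rfl).2 (res O1 inf_le_left t)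
  simp only [QC.res_self] at hc
  refine ⟨V, inf_le_left, ⟨hx, y, (ProjectiveSpectrum.mem_basicOpen _ _ _).mpr he, rfl⟩,
    c • res _ hV (OmegaSh.pullSect p E U e), ?_⟩
  rw [Scheme.Modules.Hom.app_smul, ← QC.app_res, hν]
  exact hc

end Groth.Agent.SymAlg
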