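import Mathlib.LinearAlgebra.SymmetricAlgebra.Basic
import Mathlib.RingTheory.Localization.Away.Basic

/-!
Ring maps out of symmetric algebras along a change of rings, and localization.
-/

set_option autoImplicit false
set_option linter.style.haveILetI false

universe u v w

noncomputable section

namespace Groth.Agent.SymAlg

variable {R : Type u} [CommRing R] {M : Type v} [AddCommGroup M] [Module R M]
  {T : Type w} [CommRing T]

/-- The ring map out of a symmetric algebra given by a ring map and a compatible additive map. -/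
def symLift (σ : R →+* T) (g : M →+ T) (hg : ∀ (r : R) (m : M), g (r • m) = σ r * g m) :
    SymmetricAlgebra R M →+* T :=
  letI := σ.toAlgebra
  (SymmetricAlgebra.lift (A := T)
    { toFun := g, map_add' := g.map_add, map_smul' := hg }).toRingHom

@[simp]
lemma symLift_algebraMap (σ : R →+* T) (g : M →+ T) (hg) (r : R) :
    symLift σ g hg (algebraMap R (SymmetricAlgebra R M) r) = σ r :=
  letI := σ.toAlgebra
  AlgHom.commutes (SymmetricAlgebra.lift (A := T)
    { toFun := g, map_add' := g.map_add, map_smul' := hg }) r

@[simp]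
lemma symLift_ι (σ : R →+* T) (g : M →+ T) (hg) (m : M) :
    symLift σ g hg (SymmetricAlgebra.ι R M m) = g m :=
  letI := σ.toAlgebra
  SymmetricAlgebra.lift_ι_apply (A := T) { toFun := g, map_add' := g.map_add, map_smul' := hg } m

lemma symHom_ext {p q : SymmetricAlgebra R M →+* T}
    (h₁ : ∀ r, p (algebraMap R (SymmetricAlgebra R M) r) = q (algebraMap R (SymmetricAlgebra R M) r))
    (h₂ : ∀ m, p (SymmetricAlgebra.ι R M m) = q (SymmetricAlgebra.ι R M m)) : p = q := by
  refine RingHom.ext fun x => ?_
  induction x using SymmetricAlgebra.induction with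
  | algebraMap r => exact h₁ r
  | ι m => exact h₂ m
  | mul a b ha hb => rw [map_mul, map_mul, ha, hb]
  | add a b ha hb => rw [map_add, map_add, ha, hb]

variable {R' : Type u} [CommRing R'] {M' : Type v} [AddCommGroup M'] [Module R' M']

/-- Functoriality in the ring and the module. -/
def symMap (f : R →+* R') (g : M →+ M') (hg : ∀ (r : R) (m : M), g (r • m) = f r • g m) :
    SymmetricAlgebra R M →+* SymmetricAlgebra R' M' :=
  symLift ((algebraMap R' (SymmetricAlgebra R' M')).comp f)
    ((SymmetricAlgebra.ι R' M').toAddMonoidHom.comp g) (fun r m => by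
      simp [hg, Algebra.smul_def])

@[simp]
lemma symMap_algebraMap (f : R →+* R') (g : M →+ M') (hg) (r : R) :
    symMap f g hg (algebraMap R (SymmetricAlgebra R M) r) = algebraMap R' _ (f r) := by
  simp [symMap]

@[simp]
lemma symMap_ι (f : R →+* R') (g : M →+ M') (hg) (m : M) :
    symMap f g hg (SymmetricAlgebra.ι R M m) = SymmetricAlgebra.ι R' M' (g m) := by
  simp [symMap]

section loc

variable (f : R →+* R') (g : M →+ M') (hg : ∀ (r : R) (m : M), g (r • m) = f r • g m) (r : R)
  (hf : letI := f.toAlgebra; IsLocalization.Away r R')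
  (hext : ∀ m' : M', ∃ (n : ℕ) (s : M), g s = f r ^ n • m')
  (hker : ∀ s : M, g s = 0 → ∃ n : ℕ, r ^ n • s = 0)

/-- The localized symmetric algebra. -/
abbrev LocSym (R : Type u) [CommRing R] (M : Type v) [AddCommGroup M] [Module R M] (r : R) :=
  Localization.Away (algebraMap R (SymmetricAlgebra R M) r)

/-- The map of `R` into the localization. -/
abbrev locR : R →+* LocSym R M r :=
  (algebraMap (SymmetricAlgebra R M) (LocSym R M r)).comp (algebraMap R _)

/-- The map of `M` into the localization. -/
abbrev locM : M →+ LocSym R M r :=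
  (algebraMap (SymmetricAlgebra R M) (LocSym R M r)).toAddMonoidHom.comp
    (SymmetricAlgebra.ι R M).toAddMonoidHom

lemma locM_smul (c : R) (m : M) :
    locM (M := M) r (c • m) = locR (M := M) r c * locM r m := by
  simp [locM, locR, Algebra.smul_def]

lemma isUnit_locR : IsUnit (locR (M := M) r r) :=
  IsLocalization.Away.algebraMap_isUnit (S := LocSym R M r)
    (algebraMap R (SymmetricAlgebra R M) r)

include hg hker in
lemma locM_eq {n k : ℕ} {s t : M} (m' : M') (hs : g s = f r ^ n • m') (ht : g t = f r ^ k • m') :
    locR (M := M) r r ^ k * locM r s = locR (M := M) r r ^ n * locM r t := by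
  have h0 : g (r ^ k • s - r ^ n • t) = 0 := by
    rw [map_sub, hg, hg, hs, ht, map_pow, map_pow, ← mul_smul, ← mul_smul, mul_comm, sub_self]
  obtain ⟨N, hN⟩ := hker _ h0
  have h1 := congrArg (locM (M := M) r) hN
  rw [map_zero, locM_smul, map_sub, locM_smul, locM_smul, map_pow, map_pow, map_pow] at h1
  exact sub_eq_zero.1 (((isUnit_locR (M := M) r).pow N).mul_right_eq_zero.1 h1)

/-- The extension to the localized module. -/
def extM (m' : M') : LocSym R M r :=
  locM r (hext m').choose_spec.choose *
    (((isUnit_locR (M := M) r).pow (hext m').choose).unit⁻¹ : (LocSym R M r)ˣ)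

include hg hker in
lemma extM_spec {n : ℕ} {s : M} {m' : M'} (hs : g s = f r ^ n • m') :
    extM f g r hext m' * locR (M := M) r r ^ n = locM r s := by
  have h := locM_eq f g hg r hker m' (hext m').choose_spec.choose_spec hs
  refine ((isUnit_locR (M := M) r).pow (hext m').choose).mul_right_cancel ?_
  rw [extM, mul_right_comm, mul_assoc _ _ (locR (M := M) r r ^ (hext m').choose),
    IsUnit.val_inv_mul, mul_one, mul_comm _ (locR (M := M) r r ^ n), h]
  ring

include hg hker in
lemma extM_add (a b : M') :
    extM f g r hext (a + b) = extM f g r hext a + extM f g r hext b := by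
  obtain ⟨n, s, hs⟩ := hext a
  obtain ⟨k, t, ht⟩ := hext b
  have h : g (r ^ k • s + r ^ n • t) = f r ^ (n + k) • (a + b) := by
    rw [map_add, hg, hg, hs, ht, map_pow, map_pow, ← mul_smul, ← mul_smul, smul_add, pow_add,
      mul_comm]
  have e := extM_spec f g hg r hext hker h
  rw [map_add, locM_smul, locM_smul, map_pow, map_pow, ← extM_spec f g hg r hext hker hs,
    ← extM_spec f g hg r hext hker ht] at e
  refine ((isUnit_locR (M := M) r).pow (n + k)).mul_right_cancel (e.trans ?_)
  ring

include hg hf hext hker in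
lemma isLocalization_symMap :
    letI := (symMap f g hg).toAlgebra
    IsLocalization.Away (algebraMap R (SymmetricAlgebra R M) r) (SymmetricAlgebra R' M') := by
  letI := (symMap f g hg).toAlgebra
  letI := f.toAlgebra
  haveI : IsLocalization.Away r R' := hf
  have hunit : IsUnit (f r) := IsLocalization.Away.algebraMap_isUnit (S := R') r
  let t := algebraMap R (SymmetricAlgebra R M) r
  have ht : symMap f g hg t = algebraMap R' _ (f r) := symMap_algebraMap ..
  let ψR : R' →+* LocSym R M r :=
    IsLocalization.Away.lift (S := R') r (g := locR (M := M) r) (isUnit_locR r)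
  have hψR : ∀ c, ψR (f c) = locR (M := M) r c := fun c =>
    IsLocalization.Away.lift_eq (S := R') r (g := locR (M := M) r) (isUnit_locR r) c
  have hsmul : ∀ (c' : R') (a : M'),
      extM f g r hext (c' • a) = ψR c' * extM f g r hext a := by
    intro c' a
    obtain ⟨k, c, hc⟩ := IsLocalization.Away.surj r c'
    obtain ⟨n, s, hs⟩ := hext a
    have hc' : c' * f r ^ k = f c := hc
    have h : g (c • s) = f r ^ (n + k) • (c' • a) := by
      rw [hg, hs, ← mul_smul, ← mul_smul, ← hc', pow_add]
      congr 1
      ring
    have e := extM_spec f g hg r hext hker h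
    rw [locM_smul, ← extM_spec f g hg r hext hker hs, ← hψR c, ← hc', map_mul, map_pow, hψR] at e
    refine ((isUnit_locR (M := M) r).pow (n + k)).mul_right_cancel (e.trans ?_)
    ring
  let ψ : SymmetricAlgebra R' M' →+* LocSym R M r :=
    symLift ψR (AddMonoidHom.mk' (extM f g r hext) (extM_add f g hg r hext hker)) hsmul
  have hψ : ψ.comp (symMap f g hg) = algebraMap _ _ := by
    refine symHom_ext (fun c => ?_) (fun m => ?_)
    · simp [ψ, hψR, locR]
    · have e := extM_spec f g hg r hext hker (n := 0) (s := m) (m' := g m) (by simp)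
      simpa [ψ, locM] using! e
  refine ⟨⟨?_, ?_, ?_⟩⟩
  · rintro ⟨_, n, rfl⟩
    show IsUnit (symMap f g hg (t ^ n))
    rw [map_pow, ht]
    exact (hunit.map _).pow n
  · intro z
    suffices ∃ (n : ℕ) (a : SymmetricAlgebra R M),
        z * symMap f g hg t ^ n = symMap f g hg a by
      obtain ⟨n, a, ha⟩ := this
      refine ⟨⟨a, ⟨t ^ n, n, rfl⟩⟩, ?_⟩
      show z * symMap f g hg (t ^ n) = symMap f g hg a
      rw [map_pow]; exact ha
    induction z using SymmetricAlgebra.induction with
    | algebraMap c' =>
      obtain ⟨k, c, hc⟩ := IsLocalization.Away.surj r c'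
      refine ⟨k, algebraMap R _ c, ?_⟩
      rw [ht, symMap_algebraMap, ← map_pow, ← map_mul]
      exact congrArg _ hc
    | ι a =>
      obtain ⟨n, s, hs⟩ := hext a
      refine ⟨n, SymmetricAlgebra.ι R M s, ?_⟩
      rw [ht, symMap_ι, hs, map_smul, Algebra.smul_def, map_pow, mul_comm]
    | mul a b ha hb =>
      obtain ⟨n, a', ha⟩ := ha
      obtain ⟨k, b', hb⟩ := hb
      refine ⟨n + k, a' * b', ?_⟩
      rw [map_mul, ← ha, ← hb]; ring
    | add a b ha hb =>
      obtain ⟨n, a', ha⟩ := ha
      obtain ⟨k, b', hb⟩ := hb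
      refine ⟨n + k, t ^ k * a' + t ^ n * b', ?_⟩
      rw [map_add, map_mul, map_mul, map_pow, map_pow, ← ha, ← hb]; ring
  · intro x y hxy
    have h : algebraMap (SymmetricAlgebra R M) (LocSym R M r) x = algebraMap _ _ y :=
      (congr($hψ x)).symm.trans ((congrArg ψ hxy).trans (congr($hψ y)))
    exact (IsLocalization.eq_iff_exists (.powers t) (LocSym R M r)).1 h

end loc

end Groth.Agent.SymAlg
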