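import Groth.Agent.SymAlg.OfAffine
import Groth.Agent.SymAlg.Ring
import Groth.Agent.QC.Sections

/-!
Existence of the symmetric algebra of a quasi-coherent module.
-/

set_option autoImplicit false
set_option backward.isDefEq.respectTransparency false
set_option linter.style.haveILetI false

universe u

open CategoryTheory CategoryTheory.Limits AlgebraicGeometry TopologicalSpace Opposite
open AlgebraicGeometry.Scheme AlgebraicGeometry.Scheme.AffineZariskiSite

noncomputable section

namespace Groth.Agent.SymAlg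

open Groth.Agent

variable {S : Scheme.{u}} (E : S.Modules)

/-- The symmetric algebra over an open. -/
abbrev symObj (U : S.Opens) : CommRingCat.{u} :=
  CommRingCat.of (SymmetricAlgebra Γ(S, U) Γ(E, U))

/-- Restriction maps between the symmetric algebras. -/
def symRes {V U : S.Opens} (h : V ≤ U) : symObj E U ⟶ symObj E V :=
  CommRingCat.ofHom (symMap (QC.resO S h) (QC.res E h) (fun r m => QC.res_smul E h r m))

lemma symRes_algebraMap {V U : S.Opens} (h : V ≤ U) (r : Γ(S, U)) :
    (symRes E h).hom (algebraMap _ _ r) = algebraMap _ _ (QC.resO S h r) :=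
  symMap_algebraMap (QC.resO S h) (QC.res E h) (fun r m => QC.res_smul E h r m) r

lemma symRes_ι {V U : S.Opens} (h : V ≤ U) (m : Γ(E, U)) :
    (symRes E h).hom (SymmetricAlgebra.ι Γ(S, U) Γ(E, U) m) =
      SymmetricAlgebra.ι Γ(S, V) Γ(E, V) (QC.res E h m) :=
  symMap_ι (QC.resO S h) (QC.res E h) (fun r m => QC.res_smul E h r m) m

/-- The symmetric algebras on the affine opens. -/
def symFun : S.AffineZariskiSiteᵒᵖ ⥤ CommRingCat.{u} where
  obj U := symObj E U.unop.1
  map i := symRes E (toOpens_mono (leOfHom i.unop))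
  map_id U := by
    refine CommRingCat.hom_ext (symHom_ext (fun r => ?_) (fun m => ?_))
    · exact (symRes_algebraMap ..).trans (congrArg _ (QC.resO_self _ r))
    · exact (symRes_ι ..).trans (congrArg _ (QC.res_self E _ m))
  map_comp {U V W} i k := by
    refine CommRingCat.hom_ext (symHom_ext (fun r => ?_) (fun m => ?_))
    · rw [CommRingCat.hom_comp, RingHom.comp_apply, symRes_algebraMap, symRes_algebraMap,
        symRes_algebraMap, QC.resO_resO]
    · rw [CommRingCat.hom_comp, RingHom.comp_apply, symRes_ι, symRes_ι, symRes_ι, QC.res_res]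

/-- The structure map. -/
def symStr : (toOpensFunctor S).op ⋙ S.presheaf ⟶ symFun E where
  app U := CommRingCat.ofHom (algebraMap Γ(S, U.unop.1) (symObj E U.unop.1))
  naturality U V i := by
    refine CommRingCat.hom_ext (RingHom.ext fun r => ?_)
    exact (symRes_algebraMap E (toOpens_mono (leOfHom i.unop)) r).symm

lemma coequifibered_symStr [E.IsQuasicoherent] : (symStr E).Coequifibered := by
  refine coequifibered_iff_forall_isLocalizationAway.mpr fun U r => ?_
  have h := QC.isLoc_of_isQCoh (M := E) U.2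
  refine isLocalization_symMap (QC.resO S (S.basicOpen_le r)) (QC.res E (S.basicOpen_le r))
    (fun c m => QC.res_smul E _ c m) r (U.2.isLocalization_basicOpen r) (fun m => ?_) (fun s hs => ?_)
  · obtain ⟨n, s, hs⟩ := h.exists_extend r m
    exact ⟨n, s, hs⟩
  · exact h.exists_pow_smul_eq_zero r s hs

variable {E}

section build

variable {A : RelSpec.QCAlg S} (γ : (toOpensFunctor S).op ⋙ A.presheaf ≅ symFun E)
  (hγ : Functor.whiskerLeft (toOpensFunctor S).op A.str ≫ γ.hom = symStr E)

include hγ in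
lemma γ_str (U : S.AffineZariskiSite) (r : Γ(S, U.1)) :
    (γ.hom.app (op U)).hom ((A.str.app (op U.1)).hom r) = algebraMap _ (symObj E U.1) r :=
  congr($(NatTrans.congr_app hγ (op U)) r)

/-- The canonical map on the affine opens. -/
def jAff : (toOpensFunctor S).op ⋙ E.presheaf ⟶ (toOpensFunctor S).op ⋙ A.toAb where
  app U := AddCommGrpCat.ofHom
    ((γ.inv.app U).hom.toAddMonoidHom.comp
      (SymmetricAlgebra.ι Γ(S, U.unop.1) Γ(E, U.unop.1)).toAddMonoidHom)
  naturality U V i := by
    refine AddCommGrpCat.hom_ext (AddMonoidHom.ext fun m => ?_)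
    have h := congr($(γ.inv.naturality i) (SymmetricAlgebra.ι Γ(S, U.unop.1) Γ(E, U.unop.1) m))
    exact (congrArg (γ.inv.app V).hom (symRes_ι E (toOpens_mono (leOfHom i.unop)) m)).symm.trans h

/-- The canonical map as a map of presheaves. -/
def jPre : E.presheaf ⟶ A.toAb :=
  Functor.IsCoverDense.restrictHomEquivHom (G := toOpensFunctor S)
    (K := Opens.grothendieckTopology S) (ℱ := E.presheaf)
    (ℱ' := (⟨A.toAb, A.isSheaf_toAb⟩ : TopCat.Sheaf AddCommGrpCat.{u} S.carrier)) (jAff γ)

lemma jPre_app (U : S.AffineZariskiSite) :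
    (jPre γ).app (op U.1) = (jAff γ).app (op U) :=
  NatTrans.congr_app ((Functor.IsCoverDense.restrictHomEquivHom (G := toOpensFunctor S)
    (K := Opens.grothendieckTopology S) (ℱ := E.presheaf)
    (ℱ' := (⟨A.toAb, A.isSheaf_toAb⟩ : TopCat.Sheaf AddCommGrpCat.{u} S.carrier))).symm_apply_apply
      (jAff γ)) (op U)

omit γ in
/-- Sections of the algebra agreeing on the affine opens are equal. -/
lemma eq_of_affine {V : S.Opens} {a b : A.presheaf.obj (op V)}
    (h : ∀ (W : S.Opens) (hWV : W ≤ V), IsAffineOpen W →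
      (A.presheaf.map (homOfLE hWV).op).hom a = (A.presheaf.map (homOfLE hWV).op).hom b) : a = b := by
  refine TopCat.Sheaf.eq_of_locally_eq' (⟨A.presheaf, A.isSheaf⟩ : TopCat.Sheaf CommRingCat.{u} S.carrier)
    (fun W : {W : S.affineOpens // W.1 ≤ V} => W.1.1) V (fun W => homOfLE W.2) ?_ _ _
    fun W => h _ W.2 W.1.2
  intro y hy
  obtain ⟨_, ⟨W, hW, rfl⟩, hyW, hle⟩ :=
    S.isBasis_affineOpens.exists_subset_of_mem_open (show y ∈ V from hy) V.isOpen
  exact Opens.mem_iSup.2 ⟨⟨⟨W, hW⟩, hle⟩, hyW⟩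

include hγ in
lemma jPre_smul (V : S.Opens) (r : Γ(S, V)) (m : Γ(E, V)) :
    ((jPre γ).app (op V)).hom (r • m) =
      (show A.presheaf.obj (op V) from (A.str.app (op V)).hom r * ((jPre γ).app (op V)).hom m) := by
  refine eq_of_affine fun W hWV hW => ?_
  have n := fun x => congr($((jPre γ).naturality (homOfLE hWV).op) x)
  have n' := congr($(A.str.naturality (homOfLE hWV).op) r)
  let U : S.AffineZariskiSite := ⟨W, hW⟩
  refine (n (r • m)).symm.trans ?_
  show ((jPre γ).app (op W)).hom (QC.res E hWV (r • m)) = _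
  rw [QC.res_smul, map_mul]
  refine Eq.trans ?_ (congrArg₂ (· * ·) n' (n m))
  show ((jPre γ).app (op U.1)).hom _ = (A.str.app (op U.1)).hom (QC.resO S hWV r) *
    ((jPre γ).app (op U.1)).hom (QC.res E hWV m)
  rw [jPre_app]
  show (γ.inv.app (op U)).hom (SymmetricAlgebra.ι Γ(S, W) Γ(E, W) (_ • _)) = _
  rw [map_smul, Algebra.smul_def, map_mul]
  refine congrArg₂ (· * ·) ?_ rfl
  rw [← γ_str γ hγ U]
  exact (γ.app (op U)).hom_inv_id_apply _

/-- The canonical map. -/
def jMap : E ⟶ A.toModule :=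
  ⟨letI := A.moduleSect
   PresheafOfModules.homMk (jPre γ) fun V r m => jPre_smul γ hγ V.unop r m⟩

lemma jMap_app (U : S.AffineZariskiSite) (m : Γ(E, U.1)) :
    (jMap γ hγ).app U.1 m =
      (γ.inv.app (op U)).hom (SymmetricAlgebra.ι Γ(S, U.1) Γ(E, U.1) m) :=
  congr($(jPre_app γ U) m)

variable (B : RelSpec.QCAlg S) (φ : E ⟶ B.toModule)

/-- The extension of `φ` over an affine open. -/
def extAff (U : S.Opens) : symObj E U →+* B.presheaf.obj (op U) :=
  symLift (B.str.app (op U)).hom
    (AddMonoidHom.mk' (fun m => (φ.app U m : B.presheaf.obj (op U)))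
      (fun a b => map_add (φ.app U).hom a b))
    (fun r m => Scheme.Modules.Hom.app_smul φ r m)

lemma extAff_algebraMap (U : S.Opens) (r : Γ(S, U)) :
    extAff B φ U (algebraMap _ _ r) = (B.str.app (op U)).hom r :=
  symLift_algebraMap ..

lemma extAff_ι (U : S.Opens) (m : Γ(E, U)) :
    extAff B φ U (SymmetricAlgebra.ι Γ(S, U) Γ(E, U) m) = φ.app U m :=
  symLift_ι ..

/-- The extension over the affine opens, naturally. -/
def extNat : (toOpensFunctor S).op ⋙ A.presheaf ⟶ (toOpensFunctor S).op ⋙ B.presheaf :=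
  γ.hom ≫ {
    app := fun U => CommRingCat.ofHom (extAff B φ U.unop.1)
    naturality := fun U V i => by
      let h := toOpens_mono (leOfHom i.unop)
      refine CommRingCat.hom_ext (symHom_ext (fun r => ?_) (fun m => ?_))
      · change extAff B φ _ ((symRes E h).hom (algebraMap _ _ r)) =
          (B.presheaf.map (homOfLE h).op).hom (extAff B φ _ (algebraMap _ _ r))
        rw [symRes_algebraMap, extAff_algebraMap, extAff_algebraMap]
        exact congr($(B.str.naturality (homOfLE h).op) r)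
      · change extAff B φ _ ((symRes E h).hom (SymmetricAlgebra.ι _ _ m)) =
          (B.presheaf.map (homOfLE h).op).hom (extAff B φ _ (SymmetricAlgebra.ι _ _ m))
        rw [symRes_ι, extAff_ι, extAff_ι]
        exact (QC.app_res φ h m).symm }

include hγ in
theorem isSymAlg_jMap : RelSpec.IsSymAlg E A (jMap γ hγ) := by
  intro B φ
  let B' : TopCat.Sheaf CommRingCat.{u} S.carrier := ⟨B.presheaf, B.isSheaf⟩
  let ψ : A.presheaf ⟶ B.presheaf :=
    Functor.IsCoverDense.restrictHomEquivHom (G := toOpensFunctor S)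
      (K := Opens.grothendieckTopology S) (ℱ := A.presheaf) (ℱ' := B') (extNat γ B φ)
  have hψ : ∀ (U : S.AffineZariskiSite) (a : A.presheaf.obj (op U.1)),
      (ψ.app (op U.1)).hom a = extAff B φ U.1 ((γ.hom.app (op U)).hom a) := fun U a =>
    congr($(NatTrans.congr_app ((Functor.IsCoverDense.restrictHomEquivHom (G := toOpensFunctor S)
      (K := Opens.grothendieckTopology S) (ℱ := A.presheaf) (ℱ' := B')).symm_apply_apply
        (extNat γ B φ)) (op U)) a)
  have hcomm : A.str ≫ ψ = B.str := by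
    refine (Functor.IsCoverDense.restrictHomEquivHom (G := toOpensFunctor S)
      (K := Opens.grothendieckTopology S) (ℱ := S.presheaf) (ℱ' := B')).symm.injective ?_
    ext U r
    refine (hψ U.unop _).trans ?_
    exact (congrArg (extAff B φ _) (γ_str γ hγ U.unop r)).trans (extAff_algebraMap ..)
  refine ⟨⟨ψ, hcomm⟩, ?_, ?_⟩
  · apply Scheme.Modules.hom_ext
    intro V
    refine AddCommGrpCat.hom_ext (AddMonoidHom.ext fun m => ?_)
    refine eq_of_affine (A := B) fun W hWV hW => ?_
    let U : S.AffineZariskiSite := ⟨W, hW⟩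
    refine Eq.trans ?_ (QC.app_res φ hWV m).symm
    refine (congr($(ψ.naturality (homOfLE hWV).op) ((jMap γ hγ).app V m))).symm.trans ?_
    refine (congrArg (ψ.app (op U.1)).hom (QC.app_res (jMap γ hγ) hWV m)).trans ?_
    refine (hψ U _).trans ?_
    rw [jMap_app γ hγ U]
    refine (congrArg (extAff B φ U.1) ((γ.app (op U)).inv_hom_id_apply _)).trans ?_
    exact extAff_ι ..
  · rintro ⟨ψ', hψ'⟩ hext
    ext1
    refine (Functor.IsCoverDense.restrictHomEquivHom (G := toOpensFunctor S)
      (K := Opens.grothendieckTopology S) (ℱ := A.presheaf) (ℱ' := B')).symm.injective ?_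
    ext U : 2
    refine CommRingCat.hom_ext ?_
    have key : ∀ x : symObj E U.unop.1,
        (ψ'.app (op U.unop.1)).hom ((γ.inv.app U).hom x) = extAff B φ U.unop.1 x := by
      refine RingHom.congr_fun (f := (ψ'.app (op U.unop.1)).hom.comp (γ.inv.app U).hom)
        (symHom_ext (fun r => ?_) fun m => ?_)
      · refine Eq.trans ?_ (extAff_algebraMap B φ _ r).symm
        refine (congrArg (fun z => (ψ'.app (op U.unop.1)).hom ((γ.inv.app U).hom z))
          (γ_str γ hγ U.unop r).symm).trans ?_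
        refine (congrArg _ ((γ.app U).hom_inv_id_apply _)).trans ?_
        exact congr($(NatTrans.congr_app hψ' (op U.unop.1)) r)
      · refine Eq.trans ?_ (extAff_ι B φ _ m).symm
        refine (congrArg (ψ'.app (op U.unop.1)).hom (jMap_app γ hγ U.unop m).symm).trans ?_
        exact congr($(hext).app U.unop.1 m)
    refine RingHom.ext fun a => ?_
    show (ψ'.app (op U.unop.1)).hom a = (ψ.app (op U.unop.1)).hom a
    rw [hψ, ← key]
    exact (congrArg _ ((γ.app U).hom_inv_id_apply a)).symm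

end build

/-- Existence, together with the affine description. -/
theorem exists_isSymAlg (hE : Coh.IsQCoh E) :
    ∃ (A : RelSpec.QCAlg S) (j : E ⟶ A.toModule)
      (γ : (toOpensFunctor S).op ⋙ A.presheaf ≅ symFun E), RelSpec.IsSymAlg E A j ∧
      Functor.whiskerLeft (toOpensFunctor S).op A.str ≫ γ.hom = symStr E ∧
      ∀ (U : S.AffineZariskiSite) (m : Γ(E, U.1)),
        j.app U.1 m = (γ.inv.app (op U)).hom (SymmetricAlgebra.ι Γ(S, U.1) Γ(E, U.1) m) := by
  haveI : E.IsQuasicoherent := hE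
  obtain ⟨A, γ, hγ⟩ := exists_qcAlg (coequifibered_symStr E)
  exact ⟨A, jMap γ hγ, γ, isSymAlg_jMap γ hγ, hγ, jMap_app γ hγ⟩

lemma toModuleMap_comp {A B C : RelSpec.QCAlg S} (φ : A ⟶ B) (ψ : B ⟶ C) :
    RelSpec.QCAlg.Hom.toModuleMap (φ ≫ ψ) =
      RelSpec.QCAlg.Hom.toModuleMap φ ≫ RelSpec.QCAlg.Hom.toModuleMap ψ := by
  apply Scheme.Modules.hom_ext
  intro U
  rfl

lemma toModuleMap_id (A : RelSpec.QCAlg S) :
    RelSpec.QCAlg.Hom.toModuleMap (𝟙 A) = 𝟙 A.toModule := by
  apply Scheme.Modules.hom_ext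
  intro U
  rfl

/-- The affine description of any symmetric algebra. -/
theorem exists_affineIso (hE : Coh.IsQCoh E) {A : RelSpec.QCAlg S} {j : E ⟶ A.toModule}
    (hA : RelSpec.IsSymAlg E A j) :
    ∃ γ : (toOpensFunctor S).op ⋙ A.presheaf ≅ symFun E,
      Functor.whiskerLeft (toOpensFunctor S).op A.str ≫ γ.hom = symStr E ∧
      ∀ (U : S.AffineZariskiSite) (m : Γ(E, U.1)),
        j.app U.1 m = (γ.inv.app (op U)).hom (SymmetricAlgebra.ι Γ(S, U.1) Γ(E, U.1) m) := by
  obtain ⟨A₀, j₀, γ₀, hA₀, hs₀, hj₀⟩ := exists_isSymAlg hE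
  obtain ⟨a, ha, -⟩ := hA A₀ j₀
  obtain ⟨b, hb, -⟩ := hA₀ A j
  have hab : a ≫ b = 𝟙 A := (hA A j).unique
    (show j ≫ RelSpec.QCAlg.Hom.toModuleMap (a ≫ b) = j by
      rw [toModuleMap_comp, ← Category.assoc, ha, hb])
    (by rw [toModuleMap_id, Category.comp_id])
  have hba : b ≫ a = 𝟙 A₀ := (hA₀ A₀ j₀).unique
    (show j₀ ≫ RelSpec.QCAlg.Hom.toModuleMap (b ≫ a) = j₀ by
      rw [toModuleMap_comp, ← Category.assoc, hb, ha])
    (by rw [toModuleMap_id, Category.comp_id])
  let e : A.presheaf ≅ A₀.presheaf :=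
    ⟨a.hom, b.hom, congr(($hab).hom), congr(($hba).hom)⟩
  refine ⟨Functor.isoWhiskerLeft (toOpensFunctor S).op e ≪≫ γ₀, ?_, fun U m => ?_⟩
  · rw [← hs₀, Iso.trans_hom, ← Category.assoc, Functor.isoWhiskerLeft_hom,
      ← Functor.whiskerLeft_comp]
    exact congrArg (fun z => Functor.whiskerLeft (toOpensFunctor S).op z ≫ γ₀.hom) a.comm
  · refine ((congr($(hb).app U.1 m)).symm).trans ?_
    exact congrArg (b.hom.app (op U.1)).hom (hj₀ U m)

end Groth.Agent.SymAlg
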