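import Groth.Agent.SymAlg.DegPiece
import Groth.Agent.SymAlgGen.Basic
import Groth.Agent.RelTilde.ProjMap
import Groth.Agent.RelTilde.TF
import Groth.Agent.RelTilde.Exists
import Groth.Agent.S8292
import Groth.Agent.RelProjLib.Glue
import Groth.Agent.RelProjLib.ProjMap

/-!
The projective bundle of `𝒮_1` receives `Proj 𝒮`, and very ampleness from an immersion into a
relative Proj generated in degree one.
-/

set_option autoImplicit false
set_option backward.isDefEq.respectTransparency false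
set_option linter.style.haveILetI false

universe u

open CategoryTheory CategoryTheory.Limits DirectSum AlgebraicGeometry TopologicalSpace Opposite
open scoped HomogeneousIdeal

noncomputable section

namespace Groth.Agent.SymAlg

variable {S : Scheme.{u}} {E : S.Modules} {𝒯 𝒮 : RelProj.QCGrAlg S} {j : E ⟶ 𝒯.toModule}

/-- The homomorphism out of a graded symmetric algebra given by a map into degree one. -/
theorem exists_gradedHom (hE : Coh.IsQCoh E) (hT : RelProj.IsGrSymAlg E 𝒯 j) (u : E ⟶ 𝒮.toModule)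
    (hu : ∀ (U : S.Opens) (hU : IsAffineOpen U) (x : Γ(E, U)),
      (show 𝒮.presheaf.obj (op U) from (u.app U) x) ∈ 𝒮.deg U hU 1) :
    ∃ φ : 𝒯.toQCAlg ⟶ 𝒮.toQCAlg,
      RelProj.IsGradedHom φ ∧ j ≫ RelSpec.QCAlg.Hom.toModuleMap φ = u := by
  classical
  haveI : E.IsQuasicoherent := hE
  obtain ⟨φ, hφ, -⟩ := hT.1 𝒮.toQCAlg u
  refine ⟨φ, fun U hU d x hx => ?_, hφ⟩
  let f := (φ.hom.app (op U)).hom
  let T : Set (𝒯.presheaf.obj (op U)) :=
    Set.range (SymAlgGen.strS 𝒯.toQCAlg U) ∪ Set.range (SymAlgGen.jsec j U)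
  have hM : ∀ y ∈ Submonoid.closure T, ∃ e, y ∈ 𝒯.deg U hU e ∧ f y ∈ 𝒮.deg U hU e := fun y hy => by
    induction hy using Submonoid.closure_induction with
    | mem y hy =>
      obtain ⟨r, rfl⟩ | ⟨m, rfl⟩ := hy
      · refine ⟨0, 𝒯.str_mem U hU r, ?_⟩
        have h : f ((𝒯.str.app (op U)).hom r) = (𝒮.str.app (op U)).hom r :=
          congr($(NatTrans.congr_app φ.comm (op U)) r)
        change f ((𝒯.str.app (op U)).hom r) ∈ _
        rw [h]
        exact 𝒮.str_mem U hU r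
      · refine ⟨1, hT.2 U hU m, ?_⟩
        have h : f (SymAlgGen.jsec j U m) = (show 𝒮.presheaf.obj (op U) from (u.app U) m) :=
          congr(($hφ).app U m)
        rw [h]
        exact hu U hU m
    | one => exact ⟨0, SetLike.one_mem_graded _, by rw [map_one]; exact SetLike.one_mem_graded _⟩
    | mul a b _ _ ha hb =>
      obtain ⟨e, ha, ha'⟩ := ha
      obtain ⟨e', hb, hb'⟩ := hb
      exact ⟨e + e', SetLike.mul_mem_graded ha hb, by
        rw [map_mul]; exact SetLike.mul_mem_graded ha' hb'⟩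
  suffices key : ∀ z : 𝒯.presheaf.obj (op U),
      f (decompose (𝒯.deg U hU) z d : 𝒯.presheaf.obj (op U)) =
        (decompose (𝒮.deg U hU) (f z) d : 𝒮.presheaf.obj (op U)) by
    change f x ∈ _
    rw [← decompose_of_mem_same _ hx, key]
    exact (decompose _ _ d).2
  intro z
  have hz : z ∈ Subring.closure T := by
    have := (SymAlgGen.gen_eq_top hT.1 hU).ge (Subring.mem_top z)
    exact this
  rw [Subring.mem_closure_iff] at hz
  induction hz using AddSubgroup.closure_induction with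
  | mem y hy =>
    obtain ⟨e, he, he'⟩ := hM y hy
    by_cases h : e = d
    · subst h
      rw [decompose_of_mem_same _ he, decompose_of_mem_same _ he']
    · rw [decompose_of_mem_ne _ he h, decompose_of_mem_ne _ he' h, map_zero]
  | zero => simp
  | add a b _ _ ha hb =>
    simp only [decompose_add, DirectSum.add_apply, AddMemClass.coe_add, map_add, ha, hb]
  | neg a _ ha =>
    simp only [decompose_neg, map_neg]
    change f (-(decompose (𝒯.deg U hU) a d : 𝒯.presheaf.obj (op U))) = _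
    rw [map_neg, ha]
    rfl

/-- Surjectivity onto degree one and generation in degree one give the hypothesis on irrelevant ideals. -/
theorem irrelevant_le_map_of_surj {φ : 𝒯.toQCAlg ⟶ 𝒮.toQCAlg} (hφ : RelProj.IsGradedHom φ)
    (hgen : 𝒮.IsGenDegOne)
    (hsurj : ∀ (U : S.Opens) (hU : IsAffineOpen U), ∀ s ∈ 𝒮.deg U hU 1,
      ∃ t ∈ 𝒯.deg U hU 1, RelProj.gradedHomAt φ hφ U hU t = s)
    (U : S.Opens) (hU : IsAffineOpen U) :
    (𝒮.deg U hU)₊ ≤ ((𝒯.deg U hU)₊).map (RelProj.gradedHomAt φ hφ U hU) := by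
  rw [HomogeneousIdeal.irrelevant_le]
  intro i hi b hb
  change b ∈ Ideal.map (RelProj.gradedHomAt φ hφ U hU) ((𝒯.deg U hU)₊).toIdeal
  have h := RelTilde.mem_pow_of_gen (𝒮.deg U hU) (hgen U hU)
    (I := Ideal.span (𝒮.deg U hU 1 : Set (𝒮.presheaf.obj (op U))))
    (fun a ha => Ideal.subset_span ha) le_rfl rfl i b hb
  refine (Ideal.pow_le_self (I := Ideal.span (𝒮.deg U hU 1 : Set (𝒮.presheaf.obj (op U))))
    (Nat.pos_iff_ne_zero.mp hi)).trans (Ideal.span_le.mpr fun s hs => ?_) h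
  obtain ⟨t, ht, rfl⟩ := hsurj U hU s hs
  exact Ideal.mem_map_of_mem _ (HomogeneousIdeal.mem_irrelevant_of_mem _ one_pos ht)

set_option maxHeartbeats 1600000 in
/-- An immersion into the relative Proj of an algebra generated in degree one gives very ampleness
of the pull-back of `O(1)`. -/
theorem isRelVeryAmple_of_immersion {X P : Scheme.{u}} (q : X ⟶ S) (L : X.Modules)
    (hgen : 𝒮.IsGenDegOne) (p : P ⟶ S)
    (chart : ∀ (U : S.Opens) (hU : IsAffineOpen U), ((p ⁻¹ᵁ U : P.Opens) : Scheme.{u}) ≅ Proj (𝒮.deg U hU))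
    (hP : RelProj.IsRelProj 𝒮 p chart) (O1 : P.Modules)
    (lam : ∀ (U : S.Opens) (hU : IsAffineOpen U),
      O1 ⟶ (Scheme.Modules.pushforward (RelProj.emb p chart U hU)).obj (GrTwist.twist (𝒮.deg U hU) 1))
    (hO1 : RelProj.IsRelTwist 𝒮 p chart 1 O1 lam) (i : X ⟶ P) [IsImmersion i] (hi : i ≫ p = q)
    (e : L ≅ (Scheme.Modules.pullback i).obj O1) : RelProj.IsRelVeryAmple q L := by
  have hMq : Coh.IsQCoh (degPiece 𝒮 1) := isQCoh_degPiece 𝒮 1
  obtain ⟨𝒯, j, hT⟩ := exists_isGrSymAlg hMq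
  obtain ⟨φ, hφ, hju⟩ := exists_gradedHom hMq hT (degIncl 𝒮 1) fun U hU x => degIncl_mem 𝒮 1 hU x
  have hsurj : ∀ (U : S.Opens) (hU : IsAffineOpen U) (s : 𝒮.presheaf.obj (op U)), s ∈ 𝒮.deg U hU 1 →
      ∃ x : Γ(degPiece 𝒮 1, U), ((degIncl 𝒮 1).app U) x = s := fun U hU s hs =>
    exists_degIncl 𝒮 1 hU hs
  have hirr : ∀ (U : S.Opens) (hU : IsAffineOpen U),
      (𝒮.deg U hU)₊ ≤ ((𝒯.deg U hU)₊).map (RelProj.gradedHomAt φ hφ U hU) :=
    irrelevant_le_map_of_surj hφ hgen fun U hU s hs => by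
      obtain ⟨x, hx⟩ := hsurj U hU s hs
      exact ⟨j.app U x, hT.2 U hU x, (congr(($hju).app U x)).trans hx⟩
  obtain ⟨PT, pT, chT, hPT⟩ := RelProjLib.exists_isRelProj 𝒯
  obtain ⟨h, hh, -⟩ := RelProjLib.existsUnique_relProjMap (φ := φ) (hφ := hφ) (hirr := hirr) hPT hP
  haveI : IsClosedImmersion h := Groth.Agent.S8292.result 𝒮 𝒯 hgen _ hMq (degIncl 𝒮 1)
    (fun U hU x => degIncl_mem 𝒮 1 hU x) hsurj j hT φ hφ hju hirr pT p chT chart hPT hP h hh
  have hover : h ≫ pT = p := RelProjLib.relProjMap_over hPT hP hh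
  obtain ⟨L₁, lam₁, hL₁⟩ := (RelTilde.Datum.self 𝒯).exists_isTilde hPT (1 : ℤ)
  let C := RelTilde.ChartMap.ofSelf φ hφ hirr chT chart h hh
  have hO1' := (RelTilde.isRelTwist_iff 𝒮 1 O1 lam).mp hO1
  obtain ⟨θ, hθ, -⟩ := C.existsUnique_comap 1 hPT hP hL₁ hO1'
  haveI : (degPiece 𝒮 1).IsQuasicoherent := hMq
  have hgT : 𝒯.IsGenDegOne := fun U hU => by
    refine top_le_iff.mp ?_
    rw [← SymAlgGen.gen_eq_top hT.1 hU]
    refine Subring.closure_mono ?_
    rintro _ (⟨r, rfl⟩ | ⟨m, rfl⟩)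
    · exact Or.inl (𝒯.str_mem U hU r)
    · exact Or.inr (hT.2 U hU m)
  haveI := C.isIso_adjunct_comap 1 (fun _ _ => rfl) hgT hL₁ hO1' θ hθ
  refine ⟨degPiece 𝒮 1, hMq, 𝒯, j, hT, PT, pT, chT, hPT, L₁, lam₁,
    (RelTilde.isRelTwist_iff 𝒯 1 L₁ lam₁).mpr hL₁, i ≫ h, inferInstance,
    by rw [Category.assoc, hover, hi],
    ⟨e ≪≫ ((Scheme.Modules.pullback i).mapIso
      (asIso (((Scheme.Modules.pullbackPushforwardAdjunction h).homEquiv L₁ O1).symm θ))).symm ≪≫
      (Scheme.Modules.pullbackComp i h).app L₁⟩⟩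

end Groth.Agent.SymAlg
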