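import Groth.Agent.SymAlg.PullBC
import Groth.Agent.SymAlg.VAmple
import Groth.Agent.SymAlg.Exists
import Groth.Prelude.Def_RelProj4

/-!
The symmetric algebra of a pull-back is the pull-back of the symmetric algebra.
-/

set_option autoImplicit false
set_option backward.isDefEq.respectTransparency false
set_option linter.style.haveILetI false

universe u

open CategoryTheory CategoryTheory.Limits DirectSum AlgebraicGeometry TopologicalSpace Opposite
open AlgebraicGeometry.Scheme AlgebraicGeometry.Scheme.AffineZariskiSite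
open Groth.Agent.QC (res resO res_res res_smul app_res)

noncomputable section

namespace Groth.Agent.SymAlg

/-- A ring map preserving the degrees of generators preserves all degrees. -/
lemma map_mem_of_gen {A B σ τ : Type u} [CommRing A] [SetLike σ A] [AddSubgroupClass σ A] (𝒜 : ℕ → σ)
    [GradedRing 𝒜] [CommRing B] [SetLike τ B] [AddSubgroupClass τ B] (ℬ : ℕ → τ) [GradedRing ℬ]
    (f : A →+* B) {T : Set A} (hT : Subring.closure T = ⊤)
    (h : ∀ a ∈ T, ∃ e, a ∈ 𝒜 e ∧ f a ∈ ℬ e) {d : ℕ} {x : A} (hx : x ∈ 𝒜 d) : f x ∈ ℬ d := by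
  classical
  have hM : ∀ y ∈ Submonoid.closure T, ∃ e, y ∈ 𝒜 e ∧ f y ∈ ℬ e := fun y hy => by
    induction hy using Submonoid.closure_induction with
    | mem y hy => exact h y hy
    | one => exact ⟨0, SetLike.one_mem_graded _, by rw [map_one]; exact SetLike.one_mem_graded _⟩
    | mul a b _ _ ha hb =>
      obtain ⟨e, ha, ha'⟩ := ha
      obtain ⟨e', hb, hb'⟩ := hb
      exact ⟨e + e', SetLike.mul_mem_graded ha hb, by
        rw [map_mul]; exact SetLike.mul_mem_graded ha' hb'⟩
  suffices key : ∀ z : A, f (decompose 𝒜 z d : A) = (decompose ℬ (f z) d : B) by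
    rw [← decompose_of_mem_same _ hx, key]
    exact (decompose _ _ d).2
  intro z
  have hz : z ∈ Subring.closure T := hT.ge (Subring.mem_top z)
  rw [Subring.mem_closure_iff] at hz
  induction hz using AddSubgroup.closure_induction with
  | mem y hy =>
    obtain ⟨e, he, he'⟩ := hM y hy
    by_cases h : e = d
    · subst h
      rw [decompose_of_mem_same _ he, decompose_of_mem_same _ he']
    · rw [decompose_of_mem_ne _ he h, decompose_of_mem_ne _ he' h, map_zero]
  | zero => simp
  | add a b _ _ ha hb =>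
    simp only [decompose_add, DirectSum.add_apply, AddMemClass.coe_add, map_add, ha, hb]
  | neg a _ ha =>
    simp only [decompose_neg, map_neg]
    change f (-(decompose 𝒜 a d : A)) = _
    rw [map_neg, ha]
    rfl

variable {Y Y' : Scheme.{u}} (g : Y' ⟶ Y) {E : Y.Modules} {B : RelSpec.QCAlg Y'}
  (k : (Scheme.Modules.pullback g).obj E ⟶ B.toModule)

/-- `k` of a pulled-back section. -/
abbrev kPull (U : Y.Opens) (m : Γ(E, U)) : B.presheaf.obj (op (g ⁻¹ᵁ U)) :=
  k.app (g ⁻¹ᵁ U) (OmegaSh.pullSect g E U m)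

lemma kPull_smul (U : Y.Opens) (r : Γ(Y, U)) (m : Γ(E, U)) :
    kPull g k U (r • m) = (g.app U ≫ B.str.app (op (g ⁻¹ᵁ U))).hom r * kPull g k U m := by
  unfold kPull
  rw [OmegaSh.pullSect_smul]
  exact Scheme.Modules.Hom.app_smul k _ _

/-- The map of `Sym(E(U))` to `B(g⁻¹U)`. -/
def qAff (U : Y.Opens) : symObj E U →+* B.presheaf.obj (op (g ⁻¹ᵁ U)) :=
  symLift (g.app U ≫ B.str.app (op (g ⁻¹ᵁ U))).hom
    (AddMonoidHom.mk' (kPull g k U) (fun a b => by
      unfold kPull
      rw [show OmegaSh.pullSect g E U (a + b) = OmegaSh.pullSect g E U a + OmegaSh.pullSect g E U b from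
        map_add _ a b]
      exact map_add (k.app (g ⁻¹ᵁ U)).hom _ _))
    (kPull_smul g k U)

lemma qAff_algebraMap (U : Y.Opens) (r : Γ(Y, U)) :
    qAff g k U (algebraMap _ _ r) = (B.str.app (op (g ⁻¹ᵁ U))).hom ((g.app U).hom r) :=
  symLift_algebraMap ..

lemma qAff_ι (U : Y.Opens) (m : Γ(E, U)) :
    qAff g k U (SymmetricAlgebra.ι Γ(Y, U) Γ(E, U) m) = kPull g k U m :=
  symLift_ι ..

/-- The maps on the affine opens, naturally. -/
def qAffNat : symFun E ⟶ (toOpensFunctor Y).op ⋙ (g.base _* B.presheaf) where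
  app U := CommRingCat.ofHom (qAff g k U.unop.1)
  naturality U V i := by
    let h := toOpens_mono (leOfHom i.unop)
    refine CommRingCat.hom_ext (symHom_ext (fun r => ?_) (fun m => ?_))
    · change qAff g k _ ((symRes E h).hom (algebraMap _ _ r)) =
        (B.presheaf.map (homOfLE (g.preimage_mono h)).op).hom (qAff g k _ (algebraMap _ _ r))
      rw [symRes_algebraMap, qAff_algebraMap, qAff_algebraMap]
      refine (congrArg _ (congr($(g.naturality (homOfLE h).op) r))).trans ?_
      exact congr($(B.str.naturality (homOfLE (g.preimage_mono h)).op) _)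
    · change qAff g k _ ((symRes E h).hom (SymmetricAlgebra.ι _ _ m)) =
        (B.presheaf.map (homOfLE (g.preimage_mono h)).op).hom (qAff g k _ (SymmetricAlgebra.ι _ _ m))
      rw [symRes_ι, qAff_ι, qAff_ι]
      refine (congrArg (k.app _) (OmegaSh.pullSect_map g E h m)).trans ?_
      exact (app_res k (g.preimage_mono h) _).symm

variable {A : RelSpec.QCAlg Y} {j : E ⟶ A.toModule}

/-- The morphism of algebras over `g`. -/
theorem exists_qHom (hE : Coh.IsQCoh E) (hA : RelSpec.IsSymAlg E A j) :
    ∃ u : RelSpec.QHom g A B, ∀ (U : Y.Opens), IsAffineOpen U → ∀ m : Γ(E, U),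
      (u.app U).hom (j.app U m : A.presheaf.obj (op U)) = kPull g k U m := by
  obtain ⟨γ, hγ, hj⟩ := exists_affineIso hE hA
  let B' : TopCat.Sheaf CommRingCat.{u} Y.carrier :=
    (TopCat.Sheaf.pushforward CommRingCat.{u} g.base).obj ⟨B.presheaf, B.isSheaf⟩
  let ψ : A.presheaf ⟶ g.base _* B.presheaf :=
    Functor.IsCoverDense.restrictHomEquivHom (G := toOpensFunctor Y)
      (K := Opens.grothendieckTopology Y) (ℱ := A.presheaf) (ℱ' := B') (γ.hom ≫ qAffNat g k)
  have hψ : ∀ (U : Y.AffineZariskiSite) (a : A.presheaf.obj (op U.1)),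
      (ψ.app (op U.1)).hom a = qAff g k U.1 ((γ.hom.app (op U)).hom a) := fun U a =>
    congr($(NatTrans.congr_app ((Functor.IsCoverDense.restrictHomEquivHom (G := toOpensFunctor Y)
      (K := Opens.grothendieckTopology Y) (ℱ := A.presheaf) (ℱ' := B')).symm_apply_apply
        (γ.hom ≫ qAffNat g k)) (op U)) a)
  have hcomm : A.str ≫ ψ = g.c ≫ (TopCat.Presheaf.pushforward CommRingCat.{u} g.base).map B.str := by
    refine (Functor.IsCoverDense.restrictHomEquivHom (G := toOpensFunctor Y)
      (K := Opens.grothendieckTopology Y) (ℱ := Y.presheaf) (ℱ' := B')).symm.injective ?_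
    ext U r
    refine (hψ U.unop _).trans ?_
    exact (congrArg (qAff g k _) (γ_str γ hγ U.unop r)).trans (qAff_algebraMap ..)
  refine ⟨⟨fun U => ψ.app (op U), fun {U V} i => (ψ.naturality (homOfLE i).op).symm,
    fun U => NatTrans.congr_app hcomm (op U)⟩, fun U hU m => ?_⟩
  refine (hψ ⟨U, hU⟩ _).trans ?_
  rw [hj ⟨U, hU⟩ m]
  refine (congrArg (qAff g k U) ((γ.app (op ⟨U, hU⟩)).inv_hom_id_apply _)).trans ?_
  exact qAff_ι ..

omit k in
/-- It is a base change when the target is the symmetric algebra of the pull-back. -/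
theorem isQBaseChange (hE : Coh.IsQCoh E) (hA : RelSpec.IsSymAlg E A j)
    {k : (Scheme.Modules.pullback g).obj E ⟶ B.toModule}
    (hB : RelSpec.IsSymAlg ((Scheme.Modules.pullback g).obj E) B k)
    (u : RelSpec.QHom g A B)
    (hu : ∀ (U : Y.Opens), IsAffineOpen U → ∀ m : Γ(E, U),
      (u.app U).hom (j.app U m : A.presheaf.obj (op U)) = kPull g k U m) :
    RelSpec.IsQBaseChange u := by
  haveI : E.IsQuasicoherent := hE
  intro U hU U' hU' hle
  obtain ⟨γ, hγ, hj⟩ := exists_affineIso (QC.isQCoh_pullback g hE) hB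
  let O : Y'.AffineZariskiSite := ⟨U', hU'⟩
  let e : B.presheaf.obj (op U') ≃+* SymmetricAlgebra Γ(Y', U') Γ((Scheme.Modules.pullback g).obj E, U') :=
    (γ.app (op O)).commRingCatIsoToRingEquiv
  have hestr : ∀ r : Γ(Y', U'), e ((B.str.app (op U')).hom r) = algebraMap _ _ r := fun r =>
    congr($(NatTrans.congr_app hγ (op O)) r)
  have hek : ∀ x, e (k.app U' x : B.presheaf.obj (op U')) = SymmetricAlgebra.ι _ _ x := fun x => by
    rw [hj O x]
    exact (γ.app (op O)).inv_hom_id_apply _
  let kk : Γ((Scheme.Modules.pullback g).obj E, U') → B.presheaf.obj (op U') := fun x => k.app U' x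
  have hum : ∀ m : Γ(E, U), (u.appLE U U' hle).hom (j.app U m : A.presheaf.obj (op U)) =
      kk (res _ hle (OmegaSh.pullSect g E U m)) := fun m => by
    rw [RelSpec.QHom.appLE_eq, CommRingCat.hom_comp, RingHom.comp_apply, hu U hU m]
    exact app_res k hle _
  have hext : ∀ {T : CommRingCat.{u}} (p q : B.presheaf.obj (op U') ⟶ T),
      (∀ r, p.hom ((B.str.app (op U')).hom r) = q.hom ((B.str.app (op U')).hom r)) →
      (∀ x, p.hom (kk x) = q.hom (kk x)) → p = q := fun {T} p q h1 h2 => by
    refine CommRingCat.hom_ext (RingHom.ext fun b => ?_)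
    obtain ⟨z, rfl⟩ := e.symm.surjective b
    refine RingHom.congr_fun (f := p.hom.comp e.symm.toRingHom) (g := q.hom.comp e.symm.toRingHom)
      (symHom_ext (fun r => ?_) fun x => ?_) z
    · change p.hom (e.symm (algebraMap _ _ r)) = q.hom (e.symm (algebraMap _ _ r))
      rw [← hestr, RingEquiv.symm_apply_apply]
      exact h1 r
    · change p.hom (e.symm (SymmetricAlgebra.ι _ _ x)) = q.hom (e.symm (SymmetricAlgebra.ι _ _ x))
      rw [← hek, RingEquiv.symm_apply_apply]
      exact h2 x
  have hw : g.appLE U U' hle ≫ B.str.app (op U') = A.str.app (op U) ≫ u.appLE U U' hle :=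
    (u.str_appLE U U' hle).symm
  have hbc := RelTilde.isBC_unit g hE hU hU' hle
  have hkkadd : ∀ x y, kk (x + y) = kk x + kk y := fun x y => map_add (k.app U').hom x y
  have hkksmul : ∀ (r : Γ(Y', U')) x, kk (r • x) = (B.str.app (op U')).hom r * kk x :=
    fun r x => Scheme.Modules.Hom.app_smul k r x
  let jj : Γ(E, U) → A.presheaf.obj (op U) := fun m => j.app U m
  have hjadd : ∀ x y, jj (x + y) = jj x + jj y := fun x y => map_add (j.app U).hom x y
  have hjsmul : ∀ (r : Γ(Y, U)) m, jj (r • m) = (A.str.app (op U)).hom r * jj m :=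
    fun r m => Scheme.Modules.Hom.app_smul j r m
  have huniq : ∀ {T : CommRingCat.{u}} (p q : B.presheaf.obj (op U') ⟶ T),
      B.str.app (op U') ≫ p = B.str.app (op U') ≫ q →
      u.appLE U U' hle ≫ p = u.appLE U U' hle ≫ q → p = q := fun {T} p q h1 h2 => by
    refine hext p q (fun r => congr(($h1).hom r)) fun x => ?_
    letI : Module Γ(Y', U') T := (B.str.app (op U') ≫ p).hom.toModule
    let f : Γ((Scheme.Modules.pullback g).obj E, U') →ₗ[Γ(Y', U')] T :=
      { toFun := fun x => p.hom (kk x)
        map_add' := fun a b => by rw [hkkadd, map_add]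
        map_smul' := fun r x => by rw [hkksmul, map_mul]; rfl }
    let f' : Γ((Scheme.Modules.pullback g).obj E, U') →ₗ[Γ(Y', U')] T :=
      { toFun := fun x => q.hom (kk x)
        map_add' := fun a b => by rw [hkkadd, map_add]
        map_smul' := fun r x => by
          rw [hkksmul, map_mul]
          exact congrArg (· * q.hom (kk x)) congr(($h1).hom r).symm }
    let θ := (Scheme.Modules.pullbackPushforwardAdjunction g).unit.app E
    let w : Γ(E, U) →ₛₗ[(g.appLE U U' hle).hom] T := f.comp (RelTilde.resθ g θ hle)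
    have hff' : f = f' := (hbc T w).unique (fun m => rfl) fun m => by
      change q.hom (kk (res _ hle (OmegaSh.pullSect g E U m))) =
        p.hom (kk (res _ hle (OmegaSh.pullSect g E U m)))
      rw [← hum m]
      exact congr(($h2).hom (jj m)).symm
    exact LinearMap.congr_fun hff' x
  have hdesc : ∀ {T : CommRingCat.{u}} (a : Γ(Y', U') ⟶ T) (b : A.presheaf.obj (op U) ⟶ T),
      g.appLE U U' hle ≫ a = A.str.app (op U) ≫ b →
      ∃ d, B.str.app (op U') ≫ d = a ∧ u.appLE U U' hle ≫ d = b := fun {T} a b hab => by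
    letI : Module Γ(Y', U') T := a.hom.toModule
    let w : Γ(E, U) →ₛₗ[(g.appLE U U' hle).hom] T :=
      { toFun := fun m => b.hom (jj m)
        map_add' := fun x y => by rw [hjadd, map_add]
        map_smul' := fun r m => by
          rw [hjsmul, map_mul]
          exact congrArg (· * b.hom (jj m)) congr(($hab).hom r).symm }
    obtain ⟨f, hf, -⟩ := hbc T w
    refine ⟨CommRingCat.ofHom ((symLift a.hom f.toAddMonoidHom
      (fun r x => f.map_smul r x)).comp e.toRingHom), ?_, ?_⟩
    · refine CommRingCat.hom_ext (RingHom.ext fun r => ?_)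
      change symLift _ _ _ (e ((B.str.app (op U')).hom r)) = a.hom r
      rw [hestr, symLift_algebraMap]
    · obtain ⟨γA, hγA, hjA⟩ := exists_affineIso hE hA
      let eA : A.presheaf.obj (op U) ≃+* SymmetricAlgebra Γ(Y, U) Γ(E, U) :=
        (γA.app (op (⟨U, hU⟩ : Y.AffineZariskiSite))).commRingCatIsoToRingEquiv
      let d : B.presheaf.obj (op U') →+* T :=
        (symLift a.hom f.toAddMonoidHom (fun r x => f.map_smul r x)).comp e.toRingHom
      refine CommRingCat.hom_ext (RingHom.ext fun x => ?_)
      obtain ⟨z, rfl⟩ := eA.symm.surjective x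
      refine RingHom.congr_fun (f := (d.comp (u.appLE U U' hle).hom).comp eA.symm.toRingHom)
        (g := b.hom.comp eA.symm.toRingHom) (symHom_ext (fun r => ?_) fun m => ?_) z
      · have h : eA.symm (algebraMap _ _ r) = (A.str.app (op U)).hom r := eA.symm_apply_eq.mpr
          (congr($(NatTrans.congr_app hγA (op (⟨U, hU⟩ : Y.AffineZariskiSite))) r)).symm
        change symLift _ _ _ (e ((u.appLE U U' hle).hom (eA.symm _))) = b.hom (eA.symm _)
        rw [h, show (u.appLE U U' hle).hom ((A.str.app (op U)).hom r) =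
          (B.str.app (op U')).hom ((g.appLE U U' hle).hom r) from congr(($hw).hom r).symm, hestr,
          symLift_algebraMap]
        exact congr(($hab).hom r)
      · have h : eA.symm (SymmetricAlgebra.ι _ _ m) = jj m := (hjA ⟨U, hU⟩ m).symm
        change symLift _ _ _ (e ((u.appLE U U' hle).hom (eA.symm _))) = b.hom (eA.symm _)
        rw [h, hum m, hek, symLift_ι]
        exact hf m
  refine IsPushout.of_isColimit' ⟨hw⟩ (PushoutCocone.IsColimit.mk _
    (fun s => (hdesc s.inl s.inr s.condition).choose)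
    (fun s => (hdesc s.inl s.inr s.condition).choose_spec.1)
    (fun s => (hdesc s.inl s.inr s.condition).choose_spec.2)
    (fun s m hm hm' => huniq _ _ (hm.trans (hdesc s.inl s.inr s.condition).choose_spec.1.symm)
      (hm'.trans (hdesc s.inl s.inr s.condition).choose_spec.2.symm)))

end Groth.Agent.SymAlg
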