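import Groth.Agent.SymAlg.PullBC
import Groth.Agent.SymAlg.Pullback
import Groth.Agent.SymAlg.Fund
import Groth.Agent.SymAlg.RLRel
import Groth.Agent.SymAlg.AmpleOfR

/-!
A morphism into a projective bundle and the graded morphism of algebras it gives.
-/

set_option autoImplicit false
set_option backward.isDefEq.respectTransparency false
set_option linter.style.haveILetI false

universe u

open CategoryTheory CategoryTheory.Limits DirectSum AlgebraicGeometry TopologicalSpace Opposite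
open scoped HomogeneousIdeal
open Groth.Agent.QC (res resO res_res res_self res_smul app_res)

noncomputable section

namespace Groth.Agent.SymAlg

open Groth.Agent
open TMul (IsGen)

section Gen

variable {X P : Scheme.{u}} (i : X ⟶ P) {O1 : P.Modules} {L : X.Modules}
  (e : L ≅ (Scheme.Modules.pullback i).obj O1)

/-- The map of sections induced by an identification with a pull-back. -/
def pullθ : O1 ⟶ (Scheme.Modules.pushforward i).obj L :=
  (Scheme.Modules.pullbackPushforwardAdjunction i).unit.app O1 ≫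
    (Scheme.Modules.pushforward i).map e.inv

lemma pullθ_app (V : P.Opens) (s : Γ(O1, V)) :
    (pullθ i e).app V s = e.inv.app (i ⁻¹ᵁ V) (OmegaSh.pullSect i O1 V s) := rfl

/-- A generator of invertible modules stays a generator. -/
lemma isGen_pullθ (hL : PicF.IsInvertible L) (hO : Coh.IsQCoh O1) {V : P.Opens} (s : Γ(O1, V))
    (hs : IsGen s) :
    IsGen (X := X) (N := L) (U := i ⁻¹ᵁ V) ((pullθ i e).app V s) := by
  have hloc : ∀ x : (i ⁻¹ᵁ V : X.Opens), ∃ (W : X.Opens) (h : W ≤ i ⁻¹ᵁ V), x.1 ∈ W ∧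
      IsGen (X := X) (N := L) (U := W) (res L h ((pullθ i e).app V s)) := by
    rintro ⟨x, hx⟩
    obtain ⟨U, hU, hxU, hUV⟩ := exists_isAffineOpen_mem_and_subset (U := V) (x := i.base x) hx
    have hUV' : U ≤ V := hUV
    obtain ⟨W, hW, ℓ, hxW, hWU, hℓ⟩ := exists_triv hL (O := i ⁻¹ᵁ U) (x := x) hxU
    refine ⟨W, hWU.trans (i.preimage_mono hUV'), hxW, ?_⟩
    have hbc := RelTilde.isBC_unit i hO hU hW hWU
    let M := (Scheme.Modules.pullback i).obj O1
    let θ := (Scheme.Modules.pullbackPushforwardAdjunction i).unit.app O1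
    let t : Γ(M, W) := RelTilde.resθ i θ hWU (res O1 hUV' s)
    have hsU : IsGen (res O1 hUV' s) := TMul.IsGen.res hs hUV'
    obtain ⟨c, hc⟩ := (hℓ W le_rfl).2 (e.inv.app W t)
    simp only [res_self] at hc
    obtain ⟨d, hd⟩ : ∃ d : Γ(X, W), d • t = e.hom.app W ℓ := by
      let co : Γ(O1, U) ≃ₗ[Γ(P, U)] Γ(P, U) :=
        (LinearEquiv.ofBijective (LinearMap.toSpanSingleton _ Γ(O1, U) (res O1 hUV' s)) (by
          have := hsU U le_rfl
          rwa [res_self] at this)).symm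
      let w : Γ(O1, U) →ₛₗ[(i.appLE U W hWU).hom] Γ(X, W) :=
        { toFun := fun m => (i.appLE U W hWU).hom (co m)
          map_add' := fun a b => by rw [map_add, map_add]
          map_smul' := fun r m => by
            rw [map_smul, smul_eq_mul, map_mul]
            rfl }
      obtain ⟨f, hf, -⟩ := hbc Γ(X, W) w
      have h2 : LinearMap.id = (LinearMap.toSpanSingleton Γ(X, W) Γ(M, W) t).comp f :=
        (hbc Γ(M, W) (RelTilde.resθ i θ hWU)).unique (fun m => rfl) fun m => by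
          change f (RelTilde.resθ i θ hWU m) • t = RelTilde.resθ i θ hWU m
          rw [hf]
          change (i.appLE U W hWU).hom (co m) • RelTilde.resθ i θ hWU (res O1 hUV' s) = _
          rw [← LinearMap.map_smulₛₗ]
          exact congrArg _ (co.symm_apply_apply m)
      exact ⟨f (e.hom.app W ℓ), (LinearMap.congr_fun h2 _).symm⟩
    have hdc : d * c = 1 := by
      refine (hℓ W le_rfl).1 ?_
      simp only [res_self]
      rw [one_smul, mul_smul, hc, ← Scheme.Modules.Hom.app_smul, hd]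
      exact congr(($(e.hom_inv_id)).app W ℓ)
    have key : res L (hWU.trans (i.preimage_mono hUV')) ((pullθ i e).app V s) = c • ℓ := by
      rw [pullθ_app, app_res, hc]
      refine congrArg (e.inv.app W) ?_
      change _ = res M hWU (θ.app U (res O1 hUV' s))
      exact (res_res M hWU (i.preimage_mono hUV') _).symm.trans (congrArg (res M hWU) (app_res θ hUV' s))
    rw [key]
    exact TMul.isGen_smul hℓ (IsUnit.of_mul_eq_one_right d hdc)
  choose W hW hxW hgen using hloc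
  refine RelTilde.isGen_of_cover _ W (fun x hx => Opens.mem_iSup.mpr ⟨⟨x, hx⟩, hxW _⟩)
    fun x V' hV' hV'W => ?_
  have := hgen x V' hV'W
  simpa [res_res] using this

end Gen

section Bundle

variable {X Y P : Scheme.{u}} {E : Y.Modules} {𝒮 : RelProj.QCGrAlg Y} {j : E ⟶ 𝒮.toModule}
  {p : P ⟶ Y}
  {ch : ∀ (U : Y.Opens) (hU : IsAffineOpen U), ((p ⁻¹ᵁ U : P.Opens) : Scheme.{u}) ≅ Proj (𝒮.deg U hU)}
  {O1 : P.Modules}
  {lam : ∀ (U : Y.Opens) (hU : IsAffineOpen U), O1 ⟶ (RelTilde.Datum.self 𝒮).E p ch 1 U hU}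
  {φ : E ⟶ (Scheme.Modules.pushforward p).obj O1} {i : X ⟶ P} {L : X.Modules}
  (θ : O1 ⟶ (Scheme.Modules.pushforward i).obj L)
  {𝒮L : RelProj.QCGrAlg X} {jl : L ⟶ 𝒮L.toModule}

variable (φ i) in
/-- `E ⟶ q_* L` for `q = i ≫ p`. -/
def bundleκ : E ⟶ (Scheme.Modules.pushforward (i ≫ p)).obj L :=
  φ ≫ (Scheme.Modules.pushforward p).map θ ≫ (Scheme.Modules.pushforwardComp i p).hom.app L

lemma bundleκ_app (U : Y.Opens) (m : Γ(E, U)) :
    (bundleκ φ i θ).app U m = θ.app (p ⁻¹ᵁ U) (φ.app U m) := rfl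

/-- The graded morphism `Sym E ⟶ q_* Sym L` of a morphism into the bundle. -/
theorem exists_bundleQHom (hE : Coh.IsQCoh E) (hj : RelProj.IsGrSymAlg E 𝒮 j)
    (hjl : RelProj.IsGrSymAlg L 𝒮L jl) :
    ∃ u : RelProj.QGrHom (i ≫ p) 𝒮 𝒮L, ∀ (U : Y.Opens), IsAffineOpen U → ∀ m : Γ(E, U),
      (u.app U).hom (j.app U m : 𝒮.presheaf.obj (op U)) =
        jL jl ((i ≫ p) ⁻¹ᵁ U) ((bundleκ φ i θ).app U m) := by
  haveI : E.IsQuasicoherent := hE
  let adj := Scheme.Modules.pullbackPushforwardAdjunction (i ≫ p)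
  let ν := (adj.homEquiv E L).symm (bundleκ φ i θ)
  have hν : ∀ (W : Y.Opens) (m : Γ(E, W)),
      ν.app ((i ≫ p) ⁻¹ᵁ W) (OmegaSh.pullSect (i ≫ p) E W m) = (bundleκ φ i θ).app W m := fun W m => by
    have h1 : (adj.unit.app E ≫ (Scheme.Modules.pushforward (i ≫ p)).map ν) = bundleκ φ i θ :=
      (adj.homEquiv_unit E L ν).symm.trans (Equiv.apply_symm_apply _ _)
    exact congr(($h1).app W m)
  obtain ⟨u, hu⟩ := exists_qHom (i ≫ p) (ν ≫ jl) hE hj.1
  have hu' : ∀ (U : Y.Opens), IsAffineOpen U → ∀ m : Γ(E, U),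
      (u.app U).hom (j.app U m : 𝒮.presheaf.obj (op U)) =
        jL jl ((i ≫ p) ⁻¹ᵁ U) ((bundleκ φ i θ).app U m) := fun U hU m =>
    (hu U hU m).trans (congrArg (jL jl ((i ≫ p) ⁻¹ᵁ U)) (hν U m))
  refine ⟨{ toQHom := u, map_mem := fun U hU U' hU' hle {d x} hx => ?_ }, hu'⟩
  refine map_mem_of_gen (𝒮.deg U hU) (𝒮L.deg U' hU') (u.appLE U U' hle).hom
    (SymAlgGen.gen_eq_top hj.1 hU) ?_ hx
  rintro _ (⟨r, rfl⟩ | ⟨m, rfl⟩)
  · refine ⟨0, 𝒮.str_mem U hU r, ?_⟩
    have h : (u.appLE U U' hle).hom ((𝒮.str.app (op U)).hom r) =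
        (𝒮L.str.app (op U')).hom (((i ≫ p).appLE U U' hle).hom r) :=
      congr(($(u.str_appLE U U' hle)).hom r)
    change (u.appLE U U' hle).hom ((𝒮.str.app (op U)).hom r) ∈ _
    rw [h]
    exact 𝒮L.str_mem U' hU' _
  · refine ⟨1, hj.2 U hU m, ?_⟩
    have h : (u.appLE U U' hle).hom (SymAlgGen.jsec j U m) =
        jL jl U' (res L hle ((bundleκ φ i θ).app U m)) := by
      rw [RelSpec.QHom.appLE_eq, CommRingCat.hom_comp, RingHom.comp_apply]
      exact (congrArg _ (hu' U hU m)).trans (app_res jl hle _)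
    rw [h]
    exact jL_mem hjl hU' _

variable (hP : RelProj.IsRelProj 𝒮 p ch) (hO1 : (RelTilde.Datum.self 𝒮).IsTilde p ch 1 O1 lam)
  (hE : Coh.IsQCoh E) (hj : RelProj.IsGrSymAlg E 𝒮 j) (hφ : IsFund j lam φ)
  {u : RelProj.QGrHom (i ≫ p) 𝒮 𝒮L}
  (hu : ∀ (U : Y.Opens), IsAffineOpen U → ∀ m : Γ(E, U),
      (u.app U).hom (j.app U m : 𝒮.presheaf.obj (op U)) =
        jL jl ((i ≫ p) ⁻¹ᵁ U) ((bundleκ φ i θ).app U m))

variable (p ch) in
/-- `D₊(j e)` in the bundle. -/
abbrev DjE (j : E ⟶ 𝒮.toModule) (U : Y.Opens) (hU : IsAffineOpen U) (e : Γ(E, U)) : P.Opens :=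
  RelProj.emb p ch U hU ''ᵁ Proj.basicOpen (𝒮.deg U hU) (jE j U e)

lemma DjE_le (U : Y.Opens) (hU : IsAffineOpen U) (e : Γ(E, U)) : DjE p ch j U hU e ≤ p ⁻¹ᵁ U :=
  ((RelProj.emb p ch U hU).image_le_opensRange _).trans
    (RelProjLib.opensRange_emb (𝒮 := 𝒮) (q := p) (ch := ch) U hU).le

/-- Dehomogenisation, as functions on the bundle. -/
def bundleFn (hj : RelProj.IsGrSymAlg E 𝒮 j) (U : Y.Opens) (hU : IsAffineOpen U) (e : Γ(E, U)) :
    𝒮.presheaf.obj (op U) →+* Γ(P, DjE p ch j U hU e) :=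
  ((RelProj.emb p ch U hU).appIso (Proj.basicOpen (𝒮.deg U hU) (jE j U e))).inv.hom.comp
    (RelTilde.dehomRing (𝒮.deg U hU) (f := jE j U e) (hj.2 U hU e))

lemma emb_app_bundleFn (U : Y.Opens) (hU : IsAffineOpen U) (e : Γ(E, U)) (a : 𝒮.presheaf.obj (op U)) :
    ((RelProj.emb p ch U hU).app (DjE p ch j U hU e)).hom (bundleFn hj U hU e a) =
      resO (Proj (𝒮.deg U hU)) ((RelProj.emb p ch U hU).preimage_image_eq _).le
        (RelTilde.dehomRing (𝒮.deg U hU) (f := jE j U e) (hj.2 U hU e) a) :=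
  congr($((RelProj.emb p ch U hU).appIso_inv_app (Proj.basicOpen (𝒮.deg U hU) (jE j U e)))
    (RelTilde.dehomRing (𝒮.deg U hU) (f := jE j U e) (hj.2 U hU e) a))

set_option maxHeartbeats 800000 in
include hO1 hφ in
lemma res_phi_eq (U : Y.Opens) (hU : IsAffineOpen U) (e m : Γ(E, U)) :
    res O1 (DjE_le (j := j) (ch := ch) U hU e) (φ.app U m : Γ(O1, p ⁻¹ᵁ U)) =
      bundleFn (p := p) (ch := ch) hj U hU e (jE j U m) •
        res O1 (DjE_le (j := j) (ch := ch) U hU e) (φ.app U e : Γ(O1, p ⁻¹ᵁ U)) := by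
  refine (hO1.bijective' U hU (DjE p ch j U hU e) ((RelProj.emb p ch U hU).image_le_opensRange _)).1 ?_
  refine Eq.trans ?_ ((lam U hU).app_smul _ _).symm
  refine RelTilde.pt_ext (𝒮.deg U hU) (𝒮.deg U hU) fun z => ?_
  have hz : jE j U e ∉ z.1.asHomogeneousIdeal := (ProjectiveSpectrum.mem_basicOpen _ _ _).mp
    (((RelProj.emb p ch U hU).preimage_image_eq _).le z.2)
  have hv : ∀ m' : Γ(E, U), RelTilde.pt (𝒮.deg U hU) (𝒮.deg U hU)
      ((lam U hU).app (DjE p ch j U hU e) (res O1 (DjE_le U hU e) (φ.app U m' : Γ(O1, p ⁻¹ᵁ U)))) z =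
        RelTilde.fr (𝒮.deg U hU) z.1 (jE j U m') 1 (GrMod.one_nin z.1) := fun m' =>
    (RelTilde.Datum.IsTilde.app_res (lam := lam) (DjE_le U hU e) (φ.app U m') U hU z.1 z.2).trans
      (hφ U hU m' ⟨z.1, (DjE_le U hU e) z.2⟩)
  refine (hv m).trans ?_
  have hb : ((RelProj.emb p ch U hU).app (DjE p ch j U hU e)).hom (bundleFn hj U hU e (jE j U m)) =
      resO (Proj (𝒮.deg U hU)) ((RelProj.emb p ch U hU).preimage_image_eq _).le
        (RelTilde.away (𝒮.deg U hU) (f := jE j U e) (hj.2 U hU e) 1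
          (RelTilde.mem_smul_one (𝒮.deg U hU) (a := jE j U m) (hj.2 U hU m))) := by
    rw [emb_app_bundleFn hj, RelTilde.dehomRing_of_mem (𝒮.deg U hU) _ (a := jE j U m) (hj.2 U hU m)]
  let Lφ : Γ(GrMod.tilde (𝒮.deg U hU) (𝒮.deg U hU) 1, RelProj.emb p ch U hU ⁻¹ᵁ DjE p ch j U hU e) :=
    (lam U hU).app (DjE p ch j U hU e) (res O1 (DjE_le U hU e) (φ.app U e : Γ(O1, p ⁻¹ᵁ U)))
  refine Eq.trans ?_ (congrArg (fun c : Γ(Proj (𝒮.deg U hU), RelProj.emb p ch U hU ⁻¹ᵁ DjE p ch j U hU e) =>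
    RelTilde.pt (𝒮.deg U hU) (𝒮.deg U hU) (c • Lφ) z) hb).symm
  refine Eq.trans ?_ (RelTilde.pt_away_smul (𝒮.deg U hU) (𝒮.deg U hU) _ _
    ((RelProj.emb p ch U hU).preimage_image_eq _).le Lφ z (hv e)
    (RelTilde.not_mem_mul (𝒮.deg U hU) (RelTilde.not_mem_pow (𝒮.deg U hU) hz 1)
      (GrMod.one_nin z.1))).symm
  refine RelTilde.fr_congr (𝒮.deg U hU) z.1 _ _ ?_
  simp only [smul_eq_mul, mul_one, one_mul, pow_one]
  exact mul_comm _ _

include hP in
lemma bundleFn_str (U : Y.Opens) (hU : IsAffineOpen U) (e : Γ(E, U)) (r : Γ(Y, U)) :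
    bundleFn hj U hU e ((𝒮.str.app (op U)).hom r) =
      resO P (DjE_le (ch := ch) U hU e) ((p.app U).hom r) := by
  refine (RelTilde.bijective_app_of_le (RelProj.emb p ch U hU)
    ((RelProj.emb p ch U hU).image_le_opensRange (Proj.basicOpen (𝒮.deg U hU) (jE j U e)))).1 ?_
  refine (emb_app_bundleFn hj U hU e _).trans ?_
  rw [RelTilde.dehomRing_of_mem (𝒮.deg U hU) _ (𝒮.str_mem U hU r)]
  refine Eq.trans ?_ (congr($((RelProj.emb p ch U hU).naturality (homOfLE (DjE_le U hU e)).op)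
    ((p.app U).hom r))).symm
  refine Subtype.ext (funext fun z => HomogeneousLocalization.val_injective _ ?_)
  refine Eq.trans ?_ (RelTilde.val_base_app hP hU le_rfl r z.1 (DjE_le U hU e z.2)).symm
  refine congrArg₂ Localization.mk ?_ (Subtype.ext (pow_zero _))
  exact congrArg (𝒮.str.app (op U)).hom (QC.resO_self (X := Y) le_rfl r).symm

/-- Dehomogenisation, pulled back to `X`. -/
def pullFn (hj : RelProj.IsGrSymAlg E 𝒮 j) (U : Y.Opens) (hU : IsAffineOpen U) (e : Γ(E, U))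
    (V : X.Opens) (h : V ≤ i ⁻¹ᵁ DjE p ch j U hU e) : 𝒮.presheaf.obj (op U) →+* Γ(X, V) :=
  (i.appLE (DjE p ch j U hU e) V h).hom.comp (bundleFn hj U hU e)

variable (φ) in
/-- The generator of `L` on the inverse image of `D₊(j e)`. -/
def genL (U : Y.Opens) (hU : IsAffineOpen U) (e : Γ(E, U)) (V : X.Opens)
    (h : V ≤ i ⁻¹ᵁ DjE p ch j U hU e) : Γ(L, V) :=
  res L h (θ.app (DjE p ch j U hU e) (res O1 (DjE_le U hU e) (φ.app U e : Γ(O1, p ⁻¹ᵁ U))))

include hP hO1 hE hj hφ hu in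
/-- A homogeneous element pulled back, in terms of the generator. -/
theorem appLE_eq_pullFn (U : Y.Opens) (hU : IsAffineOpen U) (e : Γ(E, U)) (V : X.Opens)
    (h : V ≤ i ⁻¹ᵁ DjE p ch j U hU e) (h' : V ≤ (i ≫ p) ⁻¹ᵁ U) {n : ℕ} {a : 𝒮.presheaf.obj (op U)}
    (ha : a ∈ 𝒮.deg U hU n) :
    (u.appLE U V h').hom a =
      strL 𝒮L V (pullFn hj U hU e V h a) * jL jl V (genL φ θ U hU e V h) ^ n := by
  classical
  haveI : E.IsQuasicoherent := hE
  let C := pullFn (i := i) hj U hU e V h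
  let ℓ := genL φ θ U hU e V h
  have hstr : ∀ r : Γ(Y, U), (u.appLE U V h').hom ((𝒮.str.app (op U)).hom r) =
      strL 𝒮L V (C ((𝒮.str.app (op U)).hom r)) := fun r => by
    refine (congr(($(u.str_appLE U V h')).hom r)).trans ?_
    refine congrArg (strL 𝒮L V) ?_
    change ((i ≫ p).appLE U V h').hom r = (i.appLE (DjE p ch j U hU e) V h).hom
      (bundleFn hj U hU e ((𝒮.str.app (op U)).hom r))
    rw [bundleFn_str hP hj, Scheme.Hom.comp_appLE]
    change (i.appLE (p ⁻¹ᵁ U) V h').hom ((p.app U).hom r) =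
      ((P.presheaf.map (homOfLE (DjE_le U hU e)).op) ≫ i.appLE (DjE p ch j U hU e) V h).hom
        ((p.app U).hom r)
    rw [Scheme.Hom.map_appLE]
  have hjm : ∀ m : Γ(E, U), (u.appLE U V h').hom (jE j U m) =
      strL 𝒮L V (C (jE j U m)) * jL jl V ℓ := fun m => by
    have h1 : (u.appLE U V h').hom (jE j U m) = jL jl V (res L h' ((bundleκ φ i θ).app U m)) := by
      rw [RelSpec.QHom.appLE_eq, CommRingCat.hom_comp, RingHom.comp_apply]
      exact (congrArg _ (hu U hU m)).trans (resL_jL h' _)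
    have h2 : res L h' ((bundleκ φ i θ).app U m) = C (jE j U m) • ℓ := by
      have h3 : res L h' ((bundleκ φ i θ).app U m) =
          res L h (θ.app (DjE p ch j U hU e) (res O1 (DjE_le U hU e) (φ.app U m : Γ(O1, p ⁻¹ᵁ U)))) := by
        rw [← app_res θ (DjE_le U hU e)]
        exact (res_res L h (i.preimage_mono (DjE_le U hU e)) _).symm
      rw [h3, res_phi_eq hO1 hj hφ U hU e m, Scheme.Modules.Hom.app_smul]
      exact res_smul L h _ _
    rw [h1, h2]
    exact Scheme.Modules.Hom.app_smul jl _ _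
  let Q : ℕ → 𝒮.presheaf.obj (op U) → Prop := fun d b =>
    (u.appLE U V h').hom b = strL 𝒮L V (C b) * jL jl V ℓ ^ d
  let T : Set (𝒮.presheaf.obj (op U)) :=
    Set.range (SymAlgGen.strS 𝒮.toQCAlg U) ∪ Set.range (SymAlgGen.jsec j U)
  have hM : ∀ y ∈ Submonoid.closure T, ∃ d, y ∈ 𝒮.deg U hU d ∧ Q d y := fun y hy => by
    induction hy using Submonoid.closure_induction with
    | mem y hy =>
      obtain ⟨r, rfl⟩ | ⟨m, rfl⟩ := hy
      · exact ⟨0, 𝒮.str_mem U hU r, by simp only [Q, pow_zero, mul_one]; exact hstr r⟩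
      · exact ⟨1, hj.2 U hU m, by simp only [Q, pow_one]; exact hjm m⟩
    | one => exact ⟨0, SetLike.one_mem_graded _, by simp [Q]⟩
    | mul a b _ _ ha hb =>
      obtain ⟨d, ha, ha'⟩ := ha
      obtain ⟨d', hb, hb'⟩ := hb
      refine ⟨d + d', SetLike.mul_mem_graded ha hb, ?_⟩
      simp only [Q, map_mul, pow_add] at ha' hb' ⊢
      rw [ha', hb']
      ring
  suffices key : ∀ z, Q n (decompose (𝒮.deg U hU) z n : 𝒮.presheaf.obj (op U)) by
    have := key a
    rwa [decompose_of_mem_same _ ha] at this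
  intro z
  have hz : z ∈ Subring.closure T := (SymAlgGen.gen_eq_top hj.1 hU).ge (Subring.mem_top z)
  rw [Subring.mem_closure_iff] at hz
  induction hz using AddSubgroup.closure_induction with
  | mem y hy =>
    obtain ⟨d, hd, hd'⟩ := hM y hy
    by_cases h : d = n
    · subst h
      rwa [decompose_of_mem_same _ hd]
    · rw [decompose_of_mem_ne _ hd h]
      simp [Q]
  | zero => simp [Q]
  | add a b _ _ ha hb =>
    simp only [Q] at ha hb ⊢
    simp only [decompose_add, DirectSum.add_apply, AddMemClass.coe_add, map_add, ha, hb, add_mul]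
  | neg a _ ha =>
    simp only [Q] at ha ⊢
    simp only [decompose_neg]
    change (u.appLE U V h').hom (-(decompose (𝒮.deg U hU) a n : 𝒮.presheaf.obj (op U))) =
      strL 𝒮L V (C (-(decompose (𝒮.deg U hU) a n : 𝒮.presheaf.obj (op U)))) * jL jl V ℓ ^ n
    rw [map_neg, map_neg, map_neg, ha, neg_mul]

end Bundle

end Groth.Agent.SymAlg
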