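import Groth.Agent.SymAlg.BundleMap

/-!
The morphism `r_{L,ψ}` of a morphism into a projective bundle; very ample modules are ample.
-/

set_option autoImplicit false
set_option backward.isDefEq.respectTransparency false
set_option linter.style.haveILetI false
set_option linter.unusedSectionVars false

universe u

open CategoryTheory CategoryTheory.Limits DirectSum AlgebraicGeometry TopologicalSpace Opposite
open scoped HomogeneousIdeal
open Groth.Agent.QC (res resO res_res res_self res_smul app_res)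

noncomputable section

namespace Groth.Agent.SymAlg

open Groth.Agent
open TMul (IsGen)

variable {X Y P PL : Scheme.{u}} {E : Y.Modules} (hE : Coh.IsQCoh E) {𝒮 : RelProj.QCGrAlg Y}
  {j : E ⟶ 𝒮.toModule} (hj : RelProj.IsGrSymAlg E 𝒮 j) {p : P ⟶ Y}
  {ch : ∀ (U : Y.Opens) (hU : IsAffineOpen U), ((p ⁻¹ᵁ U : P.Opens) : Scheme.{u}) ≅ Proj (𝒮.deg U hU)}
  (hP : RelProj.IsRelProj 𝒮 p ch) {O1 : P.Modules}
  {lam : ∀ (U : Y.Opens) (hU : IsAffineOpen U), O1 ⟶ (RelTilde.Datum.self 𝒮).E p ch 1 U hU}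
  (hO1 : (RelTilde.Datum.self 𝒮).IsTilde p ch 1 O1 lam)
  {φ : E ⟶ (Scheme.Modules.pushforward p).obj O1} (hφ : IsFund j lam φ) {i : X ⟶ P} {L : X.Modules}
  (hL : PicF.IsInvertible L) (hLq : Coh.IsQCoh L) (θ : O1 ⟶ (Scheme.Modules.pushforward i).obj L)
  (hθ : ∀ (V : P.Opens) (s : Γ(O1, V)), IsGen s → IsGen (X := X) (N := L) (U := i ⁻¹ᵁ V) (θ.app V s))
  {𝒮L : RelProj.QCGrAlg X} {jl : L ⟶ 𝒮L.toModule} (hjl : RelProj.IsGrSymAlg L 𝒮L jl)
  {u : RelProj.QGrHom (i ≫ p) 𝒮 𝒮L}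
  (hu : ∀ (U : Y.Opens), IsAffineOpen U → ∀ m : Γ(E, U),
      (u.app U).hom (j.app U m : 𝒮.presheaf.obj (op U)) =
        jL jl ((i ≫ p) ⁻¹ᵁ U) ((bundleκ φ i θ).app U m))
  {pL : PL ⟶ X}
  {chartL : ∀ (U : X.Opens) (hU : IsAffineOpen U), ((pL ⁻¹ᵁ U : PL.Opens) : Scheme.{u}) ≅ Proj (𝒮L.deg U hU)}
  (hPL : RelProj.IsRelProj 𝒮L pL chartL)

include hE hj in
/-- A chart around a point of `X`. -/
lemma exists_chart (U : Y.Opens) (hU : IsAffineOpen U) (x : X) (hx : i.base x ∈ p ⁻¹ᵁ U) :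
    ∃ (e : Γ(E, U)) (V : X.Opens) (_ : IsAffineOpen V),
      x ∈ V ∧ V ≤ i ⁻¹ᵁ DjE p ch j U hU e ∧ V ≤ (i ≫ p) ⁻¹ᵁ U := by
  haveI : E.IsQuasicoherent := hE
  obtain ⟨y, hy⟩ := RelTilde.exists_point (q := p) (ch := ch) U hU (x := i.base x) hx
  obtain ⟨e, he⟩ := exists_jE_not_mem hj U hU y
  obtain ⟨V, hV, hxV, hle⟩ := exists_isAffineOpen_mem_and_subset (U := i ⁻¹ᵁ DjE p ch j U hU e) (x := x)
    ⟨y, (ProjectiveSpectrum.mem_basicOpen _ _ _).mpr he, hy⟩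
  exact ⟨e, V, hV, hxV, hle, fun z hz => DjE_le (j := j) (ch := ch) U hU e (hle hz)⟩

include hj hO1 hφ hθ in
lemma isGen_genL (U : Y.Opens) (hU : IsAffineOpen U) (e : Γ(E, U)) (V : X.Opens)
    (h : V ≤ i ⁻¹ᵁ DjE p ch j U hU e) : IsGen (genL φ θ U hU e V h) :=
  TMul.IsGen.res (hθ _ _ (isGen_fund hj hO1 hφ U hU e (DjE_le U hU e)
    ((RelProj.emb p ch U hU).preimage_image_eq _).le)) h

lemma bundleFn_self (U : Y.Opens) (hU : IsAffineOpen U) (e : Γ(E, U)) :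
    bundleFn (p := p) (ch := ch) hj U hU e (jE j U e) = 1 := by
  have h : RelTilde.dehomRing (𝒮.deg U hU) (f := jE j U e) (hj.2 U hU e) (jE j U e) = 1 := by
    rw [RelTilde.dehomRing_of_mem (𝒮.deg U hU) _ (a := jE j U e) (hj.2 U hU e)]
    refine Eq.trans ?_ (RelTilde.away_pow_self (𝒮.deg U hU) (f := jE j U e) (hj.2 U hU e) 1)
    exact RelTilde.away_congr _ _ (pow_one _).symm _ _
  simp only [bundleFn, RingHom.comp_apply, h, map_one]

include hE hj hP hO1 hφ hθ hu hL hLq hjl in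
/-- The non-vanishing locus of `u a` is the inverse image of `D₊(a)`. -/
theorem NV_eq (U : Y.Opens) (hU : IsAffineOpen U) {n : ℕ} (hn : 0 < n) {a : 𝒮.presheaf.obj (op U)}
    (ha : a ∈ 𝒮.deg U hU n) :
    Rel.NV u hU n a = i ⁻¹ᵁ (RelProj.emb p ch U hU ''ᵁ Proj.basicOpen (𝒮.deg U hU) a) := by
  let D := RelProj.emb p ch U hU ''ᵁ Proj.basicOpen (𝒮.deg U hU) a
  have hD : D ≤ p ⁻¹ᵁ U := ((RelProj.emb p ch U hU).image_le_opensRange _).trans
    (RelProjLib.opensRange_emb (𝒮 := 𝒮) (q := p) (ch := ch) U hU).le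
  have key : ∀ (x : X) (hx : i.base x ∈ p ⁻¹ᵁ U), x ∈ Rel.NV u hU n a ↔ i.base x ∈ D := by
    intro x hx
    obtain ⟨e, V, hV, hxV, hVD, hVq⟩ := exists_chart hE hj (ch := ch) U hU x hx
    have hℓ := isGen_genL hj hO1 hφ θ hθ U hU e V hVD
    let c := pullFn (i := i) hj U hU e V hVD a
    have hinter : V ⊓ Rel.NV u hU n a = X.basicOpen c :=
      inter_eq_basicOpen hLq hjl ((u.app U).hom a) (fun y => mem_NV_iff u hU n a y) hV hVq hℓ
        (appLE_eq_pullFn θ hP hO1 hE hj hφ hu U hU e V hVD hVq ha)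
    have hbo : X.basicOpen c = V ⊓ i ⁻¹ᵁ D := by
      have h1 : X.basicOpen c = V ⊓ i ⁻¹ᵁ P.basicOpen (bundleFn (p := p) (ch := ch) hj U hU e a) := by
        simp only [c, pullFn, RingHom.comp_apply, Scheme.Hom.appLE, CommRingCat.hom_comp]
        rw [Scheme.basicOpen_res, ← Scheme.preimage_basicOpen]
      have h2 : P.basicOpen (bundleFn (p := p) (ch := ch) hj U hU e a) =
          RelProj.emb p ch U hU ''ᵁ Proj.basicOpen (𝒮.deg U hU) (jE j U e * a) := by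
        rw [bundleFn, RingHom.comp_apply, ← Scheme.image_basicOpen,
          RelTilde.dehomRing_of_mem (𝒮.deg U hU) _ ha,
          RelTilde.basicOpen_away (𝒮.deg U hU) _ one_pos hn]
      rw [h1, h2, Proj.basicOpen_mul]
      refine le_antisymm (inf_le_inf le_rfl (i.preimage_mono
        ((RelProj.emb p ch U hU).image_mono inf_le_right))) ?_
      rintro z ⟨hz, y, hy, hyz⟩
      refine ⟨hz, y, ⟨?_, hy⟩, hyz⟩
      obtain ⟨y', hy', hyz'⟩ := hVD hz
      exact (RelProj.emb p ch U hU).isOpenEmbedding.injective (hyz'.trans hyz.symm) ▸ hy'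
    exact ⟨fun h => (hbo.le (hinter.le ⟨hxV, h⟩)).2, fun h => (hinter.ge (hbo.ge ⟨hxV, h⟩)).2⟩
  refine Opens.ext (Set.ext fun x => ⟨fun h => ?_, fun h => ?_⟩)
  · exact (key x (NV_le u hU n a h)).mp h
  · exact (key x (hD h)).mpr h

include hE hj hP hO1 hφ hθ hu hL hLq hjl hPL in
/-- `r` is everywhere defined. -/
theorem domQ_eq_top : RelProj.domQ u pL chartL = ⊤ := by
  refine top_le_iff.mp fun z _ => ?_
  let x := pL.base z
  obtain ⟨U, hU, hxU, -⟩ := exists_isAffineOpen_mem_and_subset (x := p.base (i.base x)) (U := ⊤) trivial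
  obtain ⟨y, hy⟩ := RelTilde.exists_point (q := p) (ch := ch) U hU (x := i.base x) hxU
  haveI : E.IsQuasicoherent := hE
  obtain ⟨e, he⟩ := exists_jE_not_mem hj U hU y
  have hxNV : x ∈ Rel.NV u hU 1 (jE j U e) := by
    rw [NV_eq hE hj hP hO1 hφ hL hLq θ hθ hjl hu U hU one_pos (hj.2 U hU e)]
    exact ⟨y, (ProjectiveSpectrum.mem_basicOpen _ _ _).mpr he, hy⟩
  obtain ⟨⟨V, hV⟩, hxV⟩ := Opens.mem_iSup.mp hxNV
  exact (Rel.mem_domQ_of_nonvanishing hL hLq hjl u hPL hU one_pos (hj.2 U hU e) hV hxV).1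

variable {r : ((RelProj.domQ u pL chartL : PL.Opens) : Scheme.{u}) ⟶ P}
  (hr : RelProj.IsProjQMapOn u p ch pL chartL (RelProj.domQ u pL chartL) r)

include hE hj hP hO1 hφ hθ hu hL hLq hjl hPL hr in
/-- `r` agrees with `i` on points. -/
theorem rBase_eq (w : ((RelProj.domQ u pL chartL : PL.Opens) : Scheme.{u})) :
    r.base w = i.base (pL.base ((RelProj.domQ u pL chartL).ι.base w)) := by
  let z := (RelProj.domQ u pL chartL).ι.base w
  have key : ∀ (U : Y.Opens) (hU : IsAffineOpen U) (n : ℕ) (_ : 0 < n) (a : 𝒮.presheaf.obj (op U))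
      (_ : a ∈ 𝒮.deg U hU n),
      r.base w ∈ RelProj.emb p ch U hU ''ᵁ Proj.basicOpen (𝒮.deg U hU) a ↔
        i.base (pL.base z) ∈ RelProj.emb p ch U hU ''ᵁ Proj.basicOpen (𝒮.deg U hU) a := by
    intro U hU n hn a ha
    have h := Rel.mem_preimage_basicOpen_iff hL hLq hjl u hPL hr hU hP hn ha z
    constructor
    · intro h1
      obtain ⟨V, hzV, hV⟩ := h.mp ⟨w, h1, rfl⟩
      exact (NV_eq hE hj hP hO1 hφ hL hLq θ hθ hjl hu U hU hn ha).le
        (Opens.mem_iSup.mpr ⟨⟨V, hV⟩, hzV⟩)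
    · intro h1
      obtain ⟨⟨V, hV⟩, hzV⟩ := Opens.mem_iSup.mp
        ((NV_eq hE hj hP hO1 hφ hL hLq θ hθ hjl hu U hU hn ha).ge h1)
      obtain ⟨w', h2, hw'⟩ := h.mpr ⟨V, hzV, hV⟩
      exact (RelProj.domQ u pL chartL).ι.isOpenEmbedding.injective hw' ▸ h2
  have hover : p.base (r.base w) = p.base (i.base (pL.base z)) :=
    congrArg (fun k : _ ⟶ Y => k.base w) (RelProjLib.qmap_over u hP hPL hr)
  refine Inseparable.eq (inseparable_iff_forall_isOpen.mpr fun O hO => ?_)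
  have hbasis : ∀ q : P, p.base q = p.base (r.base w) → q ∈ O → ∃ (U : Y.Opens) (hU : IsAffineOpen U) (n : ℕ)
      (_ : 0 < n) (a : 𝒮.presheaf.obj (op U)) (_ : a ∈ 𝒮.deg U hU n),
      q ∈ RelProj.emb p ch U hU ''ᵁ Proj.basicOpen (𝒮.deg U hU) a ∧
        RelProj.emb p ch U hU ''ᵁ Proj.basicOpen (𝒮.deg U hU) a ≤ ⟨O, hO⟩ := by
    intro q _ hq
    obtain ⟨U, hU, hqU, -⟩ := exists_isAffineOpen_mem_and_subset (x := p.base q) (U := ⊤) trivial
    obtain ⟨y, rfl⟩ := RelTilde.exists_point (q := p) (ch := ch) U hU hqU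
    obtain ⟨n, a, hn, ha, hya, hle⟩ :=
      exists_basicOpen_le (O := RelProj.emb p ch U hU ⁻¹ᵁ ⟨O, hO⟩) (y := y) hq
    exact ⟨U, hU, n, hn, a, ha, ⟨y, hya, rfl⟩,
      ((RelProj.emb p ch U hU).image_mono hle).trans ((RelProj.emb p ch U hU).image_preimage_le _)⟩
  constructor
  · intro h
    obtain ⟨U, hU, n, hn, a, ha, hmem, hle⟩ := hbasis _ rfl h
    exact hle ((key U hU n hn a ha).mp hmem)
  · intro h
    obtain ⟨U, hU, n, hn, a, ha, hmem, hle⟩ := hbasis _ hover.symm h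
    exact hle ((key U hU n hn a ha).mpr hmem)

end Groth.Agent.SymAlg

namespace Groth.Agent.SymAlg

open Groth.Agent

set_option maxHeartbeats 800000 in
/-- Very ample modules are ample. -/
theorem isRelAmple_of_isRelVeryAmple {X Y : Scheme.{u}} (f : X ⟶ Y) [QuasiCompact f] {L : X.Modules}
    (hL : PicF.IsInvertible L) (h : RelProj.IsRelVeryAmple f L) : RelAmple.IsRelAmple f L := by
  obtain ⟨E, hE, 𝒮, j, hj, P, p, ch, hP, O1, lam, hO1, i, hi, rfl, ⟨e⟩⟩ := h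
  have hLq : Coh.IsQCoh L := TMul.isQCoh_of_isInvertible hL
  have hO1' := (RelTilde.isRelTwist_iff 𝒮 1 O1 lam).mp hO1
  obtain ⟨φ, hφ⟩ := exists_isFund hj hP hO1'
  obtain ⟨𝒮L, jl, hjl⟩ := exists_isGrSymAlg hLq
  obtain ⟨u, hu⟩ := exists_bundleQHom (φ := φ) (pullθ i e) hE hj hjl
  obtain ⟨PL, pL, chartL, hPL⟩ := RelProjLib.exists_isRelProj 𝒮L
  obtain ⟨r, hr, -⟩ := RelProjLib.existsUnique_qmap u hP hPL
  have hθ := fun V s hs => isGen_pullθ i e hL hO1'.isQCoh (V := V) s hs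
  have htop := domQ_eq_top hE hj hP hO1' hφ hL hLq (pullθ i e) hθ hjl hu hPL
  refine isRelAmple_of_inducing hL hLq hjl u hPL hP hr htop ?_
  haveI := isIso_pL hL hLq hjl hPL
  have heq : r.base.hom.toFun = i.base ∘ pL.base ∘ (RelProj.domQ u pL chartL).ι.base :=
    funext (rBase_eq hE hj hP hO1' hφ hL hLq (pullθ i e) hθ hjl hu hPL hr)
  have hind : Topology.IsInducing (i.base ∘ pL.base ∘ (RelProj.domQ u pL chartL).ι.base) :=
    i.isEmbedding.isInducing.comp ((pL.homeomorph.isInducing).comp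
      (RelProj.domQ u pL chartL).ι.isOpenEmbedding.isInducing)
  exact (show Topology.IsInducing r.base.hom.toFun by rw [heq]; exact hind)

end Groth.Agent.SymAlg
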