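import Groth.Agent.SymAlg.Pullback
import Groth.Agent.S12141
import Groth.Agent.S8335

/-!
Base change of projective bundles and of relative very ampleness.
-/

set_option autoImplicit false
set_option backward.isDefEq.respectTransparency false
set_option linter.style.haveILetI false

universe u

open CategoryTheory CategoryTheory.Limits AlgebraicGeometry TopologicalSpace Opposite
open scoped HomogeneousIdeal

noncomputable section

namespace Groth.Agent.SymAlg

variable {Y Y' : Scheme.{u}} (g : Y' ⟶ Y)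

/-- The graded morphism `Sym E ⟶ g_* Sym (g^* E)`. -/
theorem exists_qGrHom {E : Y.Modules} (hE : Coh.IsQCoh E) {𝒮 : RelProj.QCGrAlg Y} {j : E ⟶ 𝒮.toModule}
    (hj : RelProj.IsGrSymAlg E 𝒮 j) {𝒯 : RelProj.QCGrAlg Y'}
    {k : (Scheme.Modules.pullback g).obj E ⟶ 𝒯.toModule}
    (hk : RelProj.IsGrSymAlg ((Scheme.Modules.pullback g).obj E) 𝒯 k) :
    ∃ u : RelProj.QGrHom g 𝒮 𝒯, RelSpec.IsQBaseChange u.toQHom ∧
      ∀ (U : Y.Opens), IsAffineOpen U → ∀ m : Γ(E, U),
        (u.app U).hom (j.app U m : 𝒮.presheaf.obj (op U)) = kPull g k U m := by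
  haveI : E.IsQuasicoherent := hE
  obtain ⟨u, hu⟩ := exists_qHom g k hE hj.1
  refine ⟨{ toQHom := u, map_mem := fun U hU U' hU' hle {d x} hx => ?_ },
    isQBaseChange g hE hj.1 hk.1 u hu, hu⟩
  refine map_mem_of_gen (𝒮.deg U hU) (𝒯.deg U' hU') (u.appLE U U' hle).hom
    (SymAlgGen.gen_eq_top hj.1 hU) ?_ hx
  rintro _ (⟨r, rfl⟩ | ⟨m, rfl⟩)
  · refine ⟨0, 𝒮.str_mem U hU r, ?_⟩
    have h : (u.appLE U U' hle).hom ((𝒮.str.app (op U)).hom r) =
        (𝒯.str.app (op U')).hom ((g.appLE U U' hle).hom r) := congr(($(u.str_appLE U U' hle)).hom r)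
    change (u.appLE U U' hle).hom ((𝒮.str.app (op U)).hom r) ∈ _
    rw [h]
    exact 𝒯.str_mem U' hU' _
  · refine ⟨1, hj.2 U hU m, ?_⟩
    have h : (u.appLE U U' hle).hom (SymAlgGen.jsec j U m) =
        (k.app U' (QC.res _ hle (OmegaSh.pullSect g E U m)) : 𝒯.presheaf.obj (op U')) := by
      rw [RelSpec.QHom.appLE_eq, CommRingCat.hom_comp, RingHom.comp_apply]
      exact (congrArg _ (hu U hU m)).trans (QC.app_res k hle _)
    rw [h]
    exact hk.2 U' hU' _

set_option maxHeartbeats 1600000 in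
/-- Very ampleness is stable under base change. -/
theorem isRelVeryAmple_baseChange {X X' : Scheme.{u}} {f : X ⟶ Y} {g' : X' ⟶ X} {f' : X' ⟶ Y'}
    (hsq : IsPullback g' f' f g) {L : X.Modules} (hva : RelProj.IsRelVeryAmple f L) :
    RelProj.IsRelVeryAmple f' ((Scheme.Modules.pullback g').obj L) := by
  obtain ⟨E, hE, 𝒮, j, hj, P, p, chart, hP, O1, lam, hO1, i, hi, hip, ⟨e⟩⟩ := hva
  have hE' := QC.isQCoh_pullback g hE
  obtain ⟨𝒯, k, hk⟩ := exists_isGrSymAlg hE'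
  obtain ⟨u, hu, -⟩ := exists_qGrHom g hE hj hk
  obtain ⟨P', p', chart', hP'⟩ := RelProjLib.exists_isRelProj 𝒯
  obtain ⟨⟨h, hh⟩, hpb⟩ := Groth.Agent.S12141.result g 𝒮 𝒯 u hu p chart hP p' chart' hP'
  have hpo := hpb h hh
  obtain ⟨O1', lam', hO1'⟩ := (RelTilde.Datum.self 𝒯).exists_isTilde hP' (1 : ℤ)
  have hirr : ∀ (U : Y.Opens) (hU : IsAffineOpen U) (U' : Y'.Opens) (hU' : IsAffineOpen U')
      (hle : U' ≤ g ⁻¹ᵁ U), (𝒯.deg U' hU')₊ ≤ ((𝒮.deg U hU)₊).map (u.gradedAt U hU U' hU' hle) :=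
    fun U hU U' hU' hle => Groth.Agent.S12141.irrelevant_le_of_isPushout _
      (fun r => 𝒯.str_mem U' hU' r) (hu U hU U' hU' hle)
  obtain ⟨e'⟩ := Groth.Agent.S8335.result g 𝒮 𝒯 (RelSpecUP.qNat u.toQHom)
    (NatTrans.ext (funext fun V => u.toQHom.str_app V.unop))
    (fun U hU U' hU' hle => u.gradedAt U hU U' hU' hle) (fun U hU U' hU' hle => rfl)
    (fun U hU U' hU' hle => hu U hU U' hU' hle) hirr p chart hP p' chart' hP' h
    (fun U hU U' hU' hle => by
      rw [← cancel_epi (chart' U' hU').inv, Iso.inv_hom_id_assoc, ← Category.assoc]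
      refine (Proj.mapAffineOpenCover (u.gradedAt U hU U' hU' hle) (hirr U hU U' hU' hle)).openCover.hom_ext
        _ _ fun s => ?_
      simp only [Scheme.AffineOpenCover.openCover_f, Proj.mapAffineOpenCover_f]
      rw [Proj.awayι_comp_map_assoc _ _ s.1.2 _ s.2.2]
      refine Eq.trans ?_ (hh.2 U hU U' hU' hle s.1 s.1.2 _ s.2.2)
      rw [← Category.assoc]
      rfl)
    1 O1 lam hO1 O1' lam' ((RelTilde.isRelTwist_iff 𝒯 1 O1' lam').mpr hO1')
  have w : (g' ≫ i) ≫ p = f' ≫ g := by rw [Category.assoc, hip, hsq.w]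
  let i' : X' ⟶ P' := hpo.lift (g' ≫ i) f' w
  have hsq' : IsPullback g' i' i h := by
    refine IsPullback.of_bot ?_ (hpo.lift_fst _ _ _).symm hpo
    simpa [i', hip] using hsq
  haveI : IsImmersion i' := MorphismProperty.of_isPullback hsq' hi
  refine ⟨_, hE', 𝒯, k, hk, P', p', chart', hP', O1', lam',
    (RelTilde.isRelTwist_iff 𝒯 1 O1' lam').mpr hO1', i', inferInstance, hpo.lift_snd _ _ _, ⟨?_⟩⟩
  exact (Scheme.Modules.pullback g').mapIso e ≪≫
    (Scheme.Modules.pullbackComp g' i).app O1 ≪≫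
    (Scheme.Modules.pullbackCongr (hpo.lift_fst _ _ w).symm).app O1 ≪≫
    ((Scheme.Modules.pullbackComp i' h).app O1).symm ≪≫
    (Scheme.Modules.pullback i').mapIso e'

end Groth.Agent.SymAlg
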