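import Groth.Agent.SymAlg.ProjData
import Groth.Agent.RelTilde.Local
import Groth.Agent.SymAlg.VAmpleBC
import Groth.Agent.SymAlg.BundleCrit
import Groth.Agent.ModDesc.Iso

/-!
Projective morphisms are proper and carry finite type very ample data.
-/

set_option autoImplicit false
set_option backward.isDefEq.respectTransparency false
set_option linter.style.haveILetI false
set_option linter.unusedSectionVars false

universe u

open CategoryTheory CategoryTheory.Limits DirectSum AlgebraicGeometry TopologicalSpace Opposite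
open scoped HomogeneousIdeal
open Groth.Agent.QC (res resO res_res res_self res_smul app_res)

noncomputable section

namespace Groth.Agent.SymAlg

open Groth.Agent

variable {Y : Scheme.{u}} {E : Y.Modules} {𝒯 : RelProj.QCGrAlg Y} {j : E ⟶ 𝒯.toModule}

/-- A symmetric algebra is the base in degree zero. -/
theorem strZero_surjective [E.IsQuasicoherent] (hj : RelProj.IsGrSymAlg E 𝒯 j) {U : Y.Opens}
    (hU : IsAffineOpen U) : Function.Surjective (𝒯.strZero U hU).hom := by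
  classical
  let T : Set (𝒯.presheaf.obj (op U)) :=
    Set.range (SymAlgGen.strS 𝒯.toQCAlg U) ∪ Set.range (SymAlgGen.jsec j U)
  have hM : ∀ y ∈ Submonoid.closure T, ∃ d, y ∈ 𝒯.deg U hU d ∧
      (d = 0 → ∃ r, SymAlgGen.strS 𝒯.toQCAlg U r = y) := by
    intro y hy
    induction hy using Submonoid.closure_induction with
    | mem y hy =>
      rcases hy with ⟨r, rfl⟩ | ⟨m, rfl⟩
      · exact ⟨0, 𝒯.str_mem U hU r, fun _ => ⟨r, rfl⟩⟩
      · exact ⟨1, hj.2 U hU m, fun h => absurd h (by omega)⟩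
    | one => exact ⟨0, SetLike.one_mem_graded _, fun _ => ⟨1, map_one _⟩⟩
    | mul a b _ _ ha hb =>
      obtain ⟨d, ha, ha0⟩ := ha
      obtain ⟨e, hb, hb0⟩ := hb
      refine ⟨d + e, SetLike.mul_mem_graded ha hb, fun h => ?_⟩
      obtain ⟨r, rfl⟩ := ha0 (by omega)
      obtain ⟨r', rfl⟩ := hb0 (by omega)
      exact ⟨r * r', map_mul _ _ _⟩
  intro z
  suffices key : ∀ a : 𝒯.presheaf.obj (op U), ∃ r, SymAlgGen.strS 𝒯.toQCAlg U r =
      (decompose (𝒯.deg U hU) a 0 : 𝒯.presheaf.obj (op U)) by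
    obtain ⟨r, hr⟩ := key z
    exact ⟨r, Subtype.ext (hr.trans (decompose_of_mem_same _ z.2))⟩
  intro a
  have ha : a ∈ Subring.closure T := (SymAlgGen.gen_eq_top hj.1 hU).ge (Subring.mem_top a)
  rw [Subring.mem_closure_iff] at ha
  induction ha using AddSubgroup.closure_induction with
  | mem y hy =>
    obtain ⟨d, hd, hd0⟩ := hM y hy
    by_cases h : d = 0
    · subst h
      rw [decompose_of_mem_same _ hd]
      exact hd0 rfl
    · exact ⟨0, by rw [decompose_of_mem_ne _ hd h, map_zero]⟩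
  | zero => exact ⟨0, by rw [decompose_zero, map_zero]; rfl⟩
  | add a b _ _ ha hb =>
    obtain ⟨r, hr⟩ := ha
    obtain ⟨r', hr'⟩ := hb
    exact ⟨r + r', by rw [map_add, decompose_add, DirectSum.add_apply, AddMemClass.coe_add, hr, hr']⟩
  | neg a _ ha =>
    obtain ⟨r, hr⟩ := ha
    exact ⟨-r, by rw [map_neg, decompose_neg, hr]; rfl⟩

set_option maxHeartbeats 800000 in
/-- The projective bundle of a finite type module is proper. -/
theorem isProper_bundle (hE : Coh.IsQCoh E) (hft : CohB1.IsFT E) (hj : RelProj.IsGrSymAlg E 𝒯 j)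
    {P : Scheme.{u}} {p : P ⟶ Y}
    {ch : ∀ (U : Y.Opens) (hU : IsAffineOpen U), ((p ⁻¹ᵁ U : P.Opens) : Scheme.{u}) ≅ Proj (𝒯.deg U hU)}
    (hP : RelProj.IsRelProj 𝒯 p ch) : IsProper p := by
  classical
  haveI : E.IsQuasicoherent := hE
  refine RelProjLib.prop_of_affBase hP @IsProper fun U hU => ?_
  haveI : IsClosedImmersion (Spec.map (𝒯.strZero U hU)) :=
    IsClosedImmersion.spec_of_surjective _ (strZero_surjective hj hU)
  haveI : Algebra.FiniteType (𝒯.deg U hU 0) (𝒯.presheaf.obj (op U)) := by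
    obtain ⟨G, hG⟩ := (QC.finite_sections (U := U) hU hft).fg_top
    refine ⟨⟨G.image fun m => SymAlgGen.jsec j U m, top_le_iff.mp fun a _ => ?_⟩⟩
    let A := Algebra.adjoin (𝒯.deg U hU 0)
      ((G.image fun m => SymAlgGen.jsec j U m : Finset _) : Set (𝒯.presheaf.obj (op U)))
    have hstr : ∀ r, SymAlgGen.strS 𝒯.toQCAlg U r ∈ A :=
      fun r => A.algebraMap_mem ⟨_, 𝒯.str_mem U hU r⟩
    refine (Subring.closure_le (t := A.toSubring)).mpr ?_
      ((SymAlgGen.gen_eq_top hj.1 hU).ge (Subring.mem_top a))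
    rintro _ (⟨r, rfl⟩ | ⟨m, rfl⟩)
    · exact hstr r
    · have hm : m ∈ Submodule.span Γ(Y, U) (G : Set Γ(E, U)) := hG ▸ Submodule.mem_top
      induction hm using Submodule.span_induction with
      | mem t ht => exact Algebra.subset_adjoin (Finset.mem_image_of_mem _ ht)
      | zero =>
        rw [show SymAlgGen.jsec j U 0 = 0 from map_zero (j.app U).hom]
        exact zero_mem _
      | add a b _ _ iha ihb =>
        rw [show SymAlgGen.jsec j U (a + b) = SymAlgGen.jsec j U a + SymAlgGen.jsec j U b from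
          map_add (j.app U).hom a b]
        exact add_mem iha ihb
      | smul r a _ iha =>
        rw [SymAlgGen.jsec_smul]
        exact mul_mem (hstr r) iha
  rw [RelProjLib.affBase_eq]
  infer_instance

/-- The degree one part is of finite type. -/
theorem isFT_degPiece (𝒮 : RelProj.QCGrAlg Y) (d : ℕ) (h : 𝒮.IsFTDeg d) :
    CohB1.IsFT (degPiece 𝒮 d) := by
  classical
  haveI : (degPiece 𝒮 d).IsQuasicoherent := isQCoh_degPiece 𝒮 d
  refine QC.isFT_iff_finite_sections.mpr fun V => ?_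
  obtain ⟨T, hT, hspan⟩ := h V.1 V.2
  choose y hy using fun t : T => exists_degIncl 𝒮 d V.2 (hT t.2)
  refine ⟨⟨T.attach.image y, top_le_iff.mp fun x _ => ?_⟩⟩
  obtain ⟨c, hc⟩ := hspan _ (degIncl_mem 𝒮 d V.2 x)
  have hx : x = ∑ t ∈ T.attach, c t • y t := (degSub 𝒮 d).ι_app_injective _ <| by
    rw [map_sum]
    refine hc.trans ((Finset.sum_attach T fun t => (𝒮.str.app (op V.1)).hom (c t) * t).symm.trans
      (Finset.sum_congr rfl fun t _ => ?_))
    rw [Scheme.Modules.Hom.app_smul, hy]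
    exact (smul_toModule 𝒮 (c t) _).symm
  rw [hx]
  exact Submodule.sum_mem _ fun t ht =>
    Submodule.smul_mem _ _ (Submodule.subset_span (Finset.mem_image_of_mem y ht))

set_option maxHeartbeats 1600000 in
/-- A projective morphism embeds as a closed subscheme of the bundle of a finite type module. -/
theorem exists_closedImm_bundle {X : Scheme.{u}} {f : X ⟶ Y} (h : RelProj.IsProjective f) :
    ∃ (E : Y.Modules) (𝒯 : RelProj.QCGrAlg Y) (j : E ⟶ 𝒯.toModule) (P : Scheme.{u}) (p : P ⟶ Y)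
      (ch : ∀ (U : Y.Opens) (hU : IsAffineOpen U), ((p ⁻¹ᵁ U : P.Opens) : Scheme.{u}) ≅ Proj (𝒯.deg U hU))
      (i : X ⟶ P),
      Coh.IsQCoh E ∧ CohB1.IsFT E ∧ RelProj.IsGrSymAlg E 𝒯 j ∧ RelProj.IsRelProj 𝒯 p ch ∧
        IsClosedImmersion i ∧ i ≫ p = f := by
  classical
  obtain ⟨𝒮, P, p, chart, ε, hgen, hf1, hP, hεp⟩ := h
  have hMq : Coh.IsQCoh (degPiece 𝒮 1) := isQCoh_degPiece 𝒮 1
  haveI : (degPiece 𝒮 1).IsQuasicoherent := hMq
  have hft : CohB1.IsFT (degPiece 𝒮 1) := isFT_degPiece 𝒮 1 hf1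
  obtain ⟨𝒯, j, hT⟩ := exists_isGrSymAlg hMq
  obtain ⟨φ, hφ, hju⟩ := exists_gradedHom hMq hT (degIncl 𝒮 1) fun U hU x => degIncl_mem 𝒮 1 hU x
  have hsurj : ∀ (U : Y.Opens) (hU : IsAffineOpen U) (s : 𝒮.presheaf.obj (op U)), s ∈ 𝒮.deg U hU 1 →
      ∃ x : Γ(degPiece 𝒮 1, U), ((degIncl 𝒮 1).app U) x = s := fun U hU s hs =>
    exists_degIncl 𝒮 1 hU hs
  have hirr : ∀ (U : Y.Opens) (hU : IsAffineOpen U),
      (𝒮.deg U hU)₊ ≤ ((𝒯.deg U hU)₊).map (RelProj.gradedHomAt φ hφ U hU) :=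
    irrelevant_le_map_of_surj hφ hgen fun U hU s hs => by
      obtain ⟨x, hx⟩ := hsurj U hU s hs
      exact ⟨j.app U x, hT.2 U hU x, (congr(($hju).app U x)).trans hx⟩
  obtain ⟨PT, pT, chT, hPT⟩ := RelProjLib.exists_isRelProj 𝒯
  obtain ⟨k, hk, -⟩ := RelProjLib.existsUnique_relProjMap (φ := φ) (hφ := hφ) (hirr := hirr) hPT hP
  haveI : IsClosedImmersion k := Groth.Agent.S8292.result 𝒮 𝒯 hgen _ hMq (degIncl 𝒮 1)
    (fun U hU x => degIncl_mem 𝒮 1 hU x) hsurj j hT φ hφ hju hirr pT p chT chart hPT hP k hk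
  have hover : k ≫ pT = p := RelProjLib.relProjMap_over hPT hP hk
  exact ⟨_, 𝒯, j, PT, pT, chT, ε.hom ≫ k, hMq, hft, hT, hPT, inferInstance,
    by rw [Category.assoc, hover, hεp]⟩

/-- A closed subscheme of the bundle of a finite type module is proper with very ample data. -/
theorem isProper_and_ftData_of_closedImm {X P : Scheme.{u}} {f : X ⟶ Y} (hE : Coh.IsQCoh E)
    (hft : CohB1.IsFT E) (hj : RelProj.IsGrSymAlg E 𝒯 j) {p : P ⟶ Y}
    {ch : ∀ (U : Y.Opens) (hU : IsAffineOpen U), ((p ⁻¹ᵁ U : P.Opens) : Scheme.{u}) ≅ Proj (𝒯.deg U hU)}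
    (hP : RelProj.IsRelProj 𝒯 p ch) (i : X ⟶ P) [IsClosedImmersion i] (hip : i ≫ p = f) :
    IsProper f ∧ ∃ L : X.Modules, FTData f L := by
  haveI := isProper_bundle hE hft hj hP
  haveI : E.IsQuasicoherent := hE
  refine ⟨hip ▸ inferInstance, ?_⟩
  obtain ⟨O1, lam, hO1⟩ := (RelTilde.Datum.self 𝒯).exists_isTilde hP (1 : ℤ)
  exact ⟨_, ftData_of_bundle (i := i) hE hft hj hP ((RelTilde.isRelTwist_iff 𝒯 1 O1 lam).mpr hO1) hip
    (PicLoc.isInvertible_pullback _ (RelTilde.isInvertible_of_isGenDegOne hO1 (isGenDegOne_sym hj)))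
    (Iso.refl _)⟩

/-- Closed subschemes of bundles of finite type modules are projective. -/
theorem isProjective_of_closedImm_bundle {X P : Scheme.{u}} {f : X ⟶ Y} (hE : Coh.IsQCoh E)
    (hft : CohB1.IsFT E) (hj : RelProj.IsGrSymAlg E 𝒯 j) {p : P ⟶ Y}
    {ch : ∀ (U : Y.Opens) (hU : IsAffineOpen U), ((p ⁻¹ᵁ U : P.Opens) : Scheme.{u}) ≅ Proj (𝒯.deg U hU)}
    (hP : RelProj.IsRelProj 𝒯 p ch) (i : X ⟶ P) [IsClosedImmersion i] (hip : i ≫ p = f) :
    RelProj.IsProjective f := by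
  obtain ⟨hf, L, hL⟩ := isProper_and_ftData_of_closedImm hE hft hj hP i hip
  exact isProjective_of_ftData f hL

/-- A projective morphism is proper and has finite type very ample data. -/
theorem isProper_and_ftData_of_isProjective {X : Scheme.{u}} {f : X ⟶ Y} (h : RelProj.IsProjective f) :
    IsProper f ∧ ∃ L : X.Modules, FTData f L := by
  obtain ⟨E, 𝒯, j, P, p, ch, i, hE, hft, hj, hP, hi, hip⟩ := exists_closedImm_bundle h
  exact isProper_and_ftData_of_closedImm hE hft hj hP i hip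

/-- Projective morphisms are quasi-projective and proper. -/
theorem isQuasiProjective_and_isProper {X : Scheme.{u}} {f : X ⟶ Y} (h : RelProj.IsProjective f) :
    RelProj.IsQuasiProjective f ∧ IsProper f := by
  obtain ⟨hf, L, hL⟩ := isProper_and_ftData_of_isProjective h
  exact ⟨⟨inferInstance, inferInstance, L,
    isRelAmple_of_isRelVeryAmple f hL.1 hL.isRelVeryAmple⟩, hf⟩

set_option maxHeartbeats 800000 in
/-- Base change of the bundle of a finite type module. -/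
theorem exists_bundle_baseChange {Y' P : Scheme.{u}} (g : Y' ⟶ Y) (hE : Coh.IsQCoh E)
    (hft : CohB1.IsFT E) (hj : RelProj.IsGrSymAlg E 𝒯 j) {p : P ⟶ Y}
    {ch : ∀ (U : Y.Opens) (hU : IsAffineOpen U), ((p ⁻¹ᵁ U : P.Opens) : Scheme.{u}) ≅ Proj (𝒯.deg U hU)}
    (hP : RelProj.IsRelProj 𝒯 p ch) :
    ∃ (E' : Y'.Modules) (𝒯' : RelProj.QCGrAlg Y') (j' : E' ⟶ 𝒯'.toModule) (P' : Scheme.{u}) (p' : P' ⟶ Y')
      (ch' : ∀ (U : Y'.Opens) (hU : IsAffineOpen U), ((p' ⁻¹ᵁ U : P'.Opens) : Scheme.{u}) ≅ Proj (𝒯'.deg U hU))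
      (h : P' ⟶ P), Coh.IsQCoh E' ∧ CohB1.IsFT E' ∧ RelProj.IsGrSymAlg E' 𝒯' j' ∧
        RelProj.IsRelProj 𝒯' p' ch' ∧ IsPullback h p' p g := by
  have hE' := QC.isQCoh_pullback g hE
  obtain ⟨𝒯', k, hk⟩ := exists_isGrSymAlg hE'
  obtain ⟨u, hu, -⟩ := exists_qGrHom g hE hj hk
  obtain ⟨P', p', ch', hP'⟩ := RelProjLib.exists_isRelProj 𝒯'
  obtain ⟨⟨h, hh⟩, hpb⟩ := Groth.Agent.S12141.result g 𝒯 𝒯' u hu p ch hP p' ch' hP'
  exact ⟨_, 𝒯', k, P', p', ch', h, hE', ModDesc.isFT_pullback g hE hft, hk, hP', hpb h hh⟩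

/-- Base change of a projective morphism. -/
theorem isProjective_baseChange {X X' Y' : Scheme.{u}} {f : X ⟶ Y} {g : Y' ⟶ Y} {g' : X' ⟶ X}
    {f' : X' ⟶ Y'} (hsq : IsPullback g' f' f g) (h : RelProj.IsProjective f) : RelProj.IsProjective f' := by
  obtain ⟨E, 𝒯, j, P, p, ch, i, hE, hft, hj, hP, hi, hip⟩ := exists_closedImm_bundle h
  obtain ⟨E', 𝒯', j', P', p', ch', k, hE', hft', hj', hP', hpb⟩ := exists_bundle_baseChange g hE hft hj hP
  have w : (g' ≫ i) ≫ p = f' ≫ g := by rw [Category.assoc, hip, hsq.w]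
  let i' : X' ⟶ P' := hpb.lift (g' ≫ i) f' w
  have hsq' : IsPullback g' i' i k := by
    refine IsPullback.of_bot ?_ (hpb.lift_fst _ _ _).symm hpb
    simpa [i', hip] using hsq
  haveI : IsClosedImmersion i' := MorphismProperty.of_isPullback hsq' hi
  exact isProjective_of_closedImm_bundle hE' hft' hj' hP' i' (hpb.lift_snd _ _ _)

/-- The first factor of a projective composite with separated second factor. -/
theorem isProjective_of_comp {X Z : Scheme.{u}} (f : X ⟶ Z) (g : Z ⟶ Y) [IsSeparated g]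
    (h : RelProj.IsProjective (f ≫ g)) : RelProj.IsProjective f := by
  obtain ⟨E, 𝒯, j, P, p, ch, i, hE, hft, hj, hP, hi, hip⟩ := exists_closedImm_bundle h
  obtain ⟨E', 𝒯', j', P', p', ch', k, hE', hft', hj', hP', hpb⟩ := exists_bundle_baseChange g hE hft hj hP
  let i' : X ⟶ P' := hpb.lift i f hip
  haveI : IsSeparated k := MorphismProperty.of_isPullback hpb.flip (inferInstanceAs (IsSeparated g))
  haveI : IsClosedImmersion (i' ≫ k) := by rw [hpb.lift_fst]; exact hi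
  haveI : IsClosedImmersion i' := IsClosedImmersion.of_comp i' k
  exact isProjective_of_closedImm_bundle hE' hft' hj' hP' i' (hpb.lift_snd _ _ _)

/-- Very ampleness over a quasi-compact quasi-separated base gives finite type data. -/
theorem ftData_of_isRelVeryAmple [CompactSpace Y] [QuasiSeparatedSpace Y] {X : Scheme.{u}} (q : X ⟶ Y)
    [QuasiCompact q] [LocallyOfFiniteType q] {L : X.Modules} (hL : PicF.IsInvertible L)
    (h : RelProj.IsRelVeryAmple q L) : FTData q L := by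
  have hLq := TMul.isQCoh_of_isInvertible hL
  obtain ⟨𝒮L, jl, hjl⟩ := exists_isGrSymAlg hLq
  obtain ⟨E, hEq, hEft, ι, hι, 𝒯, jE, hjE, u, hu, hs, ⟨κ, -, U, n, a, hna, hcov, hA⟩⟩ :=
    exists_ft_veryAmple q hL hLq hjl h
  refine ⟨hL, 𝒮L, jl, hjl, E, hEq, hEft, 𝒯, jE, hjE, u, fun x => ?_, fun x => ?_⟩
  · obtain ⟨b, hb⟩ := hcov x
    exact ⟨(U b).1, (U b).2, n b, a b, (hna b).1, (hna b).2, hb, (hA b).1, (hA b).2⟩
  · obtain ⟨U, hU, e, V, hV, hVU, hxV, hspan⟩ := hs x
    exact exists_degOnePair hL hLq hjl hU (hjE.2 U hU e) hV hVU hspan hxV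

end Groth.Agent.SymAlg
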