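import Groth.Agent.RelTilde.BaseChange

/-!
Sections of a pull-back over an affine open are the base change of the sections.
-/

set_option autoImplicit false
set_option backward.isDefEq.respectTransparency false
set_option linter.style.haveILetI false

universe u

open CategoryTheory CategoryTheory.Limits AlgebraicGeometry TopologicalSpace Opposite
open Groth.Agent.QC (res resO res_res res_self app_res secEquiv secEquiv_smul)

noncomputable section

namespace Groth.Agent.RelTilde

variable {X Y : Scheme.{u}} (g : X ⟶ Y) {L : Y.Modules}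

set_option maxHeartbeats 1600000 in
set_option synthInstance.maxHeartbeats 200000 in
/-- The unit of pull-back is a base change of sections over affine pairs. -/
theorem isBC_unit (hL : Coh.IsQCoh L) {U : Y.Opens} (hU : IsAffineOpen U) {V : X.Opens}
    (hV : IsAffineOpen V) (h : V ≤ g ⁻¹ᵁ U) :
    IsBC g ((Scheme.Modules.pullbackPushforwardAdjunction g).unit.app L) h := by
  haveI : L.IsQuasicoherent := hL
  let L' := (Scheme.Modules.pullback g).obj L
  let θ := (Scheme.Modules.pullbackPushforwardAdjunction g).unit.app L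
  haveI : (L.restrict hU.fromSpec).IsQuasicoherent := QC.isQCoh_restrict _ hL
  let φ := g.appLE U V h
  let G : ModuleCat Γ(Y, U) := (modulesSpecToSheaf.obj (L.restrict hU.fromSpec)).presheaf.obj (op ⊤)
  let Ω : ModuleCat Γ(X, V) := (ModuleCat.extendScalars.{u, u, u} φ.hom).obj G
  let e : L.restrict hU.fromSpec ⟶ tilde G := (QC.isoTildeΓ (L.restrict hU.fromSpec)).inv
  have hΔ : hV.fromSpec ≫ g = Spec.map φ ≫ hU.fromSpec :=
    (IsAffineOpen.SpecMap_appLE_fromSpec g hU hV h).symm
  let E : (Scheme.Modules.pullback hV.fromSpec).obj L' ⟶ tilde Ω :=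
    QC.sqMap hV.fromSpec g (Spec.map φ) hU.fromSpec hΔ L e ≫
      (QC.pullbackTildeIso φ).hom.app G ≫ (tilde.functor _).map (𝟙 Ω)
  haveI : IsIso E := by
    haveI : IsIso e := inferInstanceAs (IsIso (QC.isoTildeΓ (L.restrict hU.fromSpec)).inv)
    infer_instance
  let Ψ : tilde Ω ⟶ L'.restrict hV.fromSpec :=
    inv E ≫ (Scheme.Modules.restrictFunctorIsoPullback hV.fromSpec).inv.app L'
  have hVtop : hV.fromSpec ''ᵁ ⊤ = V := QC.image_fromSpec_top hV
  have hUtop : hU.fromSpec ''ᵁ ⊤ = U := QC.image_fromSpec_top hU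
  let η := (ModuleCat.extendRestrictScalarsAdj.{u, u, u} φ.hom).unit.app G
  let sU := secEquiv hU L ⊤ hUtop
  let sV := secEquiv hV L' ⊤ hVtop
  have key : ∀ m : Γ(L, U),
      sV (Ψ.app ⊤ (tilde.toOpen Ω ⊤ (η (sU.symm m)))) = resθ g θ h m := fun m => by
    have hle : (⊤ : (Spec Γ(X, V)).Opens) ≤ hV.fromSpec ⁻¹ᵁ (g ⁻¹ᵁ U) := by
      rw [← hV.fromSpec_preimage_self]; exact hV.fromSpec.preimage_mono h
    have hg : (⊤ : (Spec Γ(Y, U)).Opens) ≤ hU.fromSpec ⁻¹ᵁ U := hU.fromSpec_preimage_self.ge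
    have h1 := QC.pullSect_square_tilde φ hV.fromSpec g hU.fromSpec hΔ L U m hle hg hUtop.le G e
      (sU.symm m) (QC.isoTildeΓ_inv_app_top _ _) Ω (𝟙 Ω) (η (sU.symm m)) rfl
    have h2 : (inv E).app ⊤ (tilde.toOpen Ω ⊤ (η (sU.symm m))) =
        res _ hle (OmegaSh.pullSect hV.fromSpec L' (g ⁻¹ᵁ U) (OmegaSh.pullSect g L U m)) := by
      rw [← h1]
      exact congr(($(IsIso.hom_inv_id E)).app ⊤ _)
    let F := ((Scheme.Modules.restrictFunctorIsoPullback hV.fromSpec).inv.app L').app ⊤
    change sV (F ((inv E).app ⊤ (tilde.toOpen Ω ⊤ (η (sU.symm m))))) = _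
    rw [h2]
    refine (congrArg (fun x => sV (F (res _ hle x)))
      (QC.restrictIso_hom_pullSect hV.fromSpec L' (g ⁻¹ᵁ U) (θ.app U m)).symm).trans ?_
    refine (congrArg sV ((app_res ((Scheme.Modules.restrictFunctorIsoPullback hV.fromSpec).inv.app L')
      hle _).symm.trans (congrArg _ (congr(($((Scheme.Modules.restrictFunctorIsoPullback
        hV.fromSpec).hom_inv_id_app L')).app (hV.fromSpec ⁻¹ᵁ (g ⁻¹ᵁ U)) _))))).trans ?_
    change res L' hVtop.ge (res L' (hV.fromSpec.image_mono hle)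
      (res L' (hV.fromSpec.image_preimage_le (g ⁻¹ᵁ U)) (θ.app U m))) = res L' h (θ.app U m)
    rw [res_res, res_res]
  let A : Ω →ₗ[Γ(X, V)] Γ(L', V) :=
    { toFun := fun x => sV (Ψ.app ⊤ (tilde.toOpen Ω ⊤ x))
      map_add' := fun a b => by simp only [map_add]
      map_smul' := fun r a => by
        simp only [RingHom.id_apply, map_smul]
        rw [Scheme.Modules.smul_Spec_def, Scheme.Modules.Hom.app_smul, ← Scheme.Modules.smul_Spec_def,
          secEquiv_smul hV ⊤ hVtop]
        exact congrArg (· • _) (QC.resO_self _ r) }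
  have hA : Function.Bijective A := (sV.bijective.comp (ConcreteCategory.bijective_of_isIso
    (Ψ.app ⊤))).comp (ConcreteCategory.bijective_of_isIso (tilde.toOpen Ω ⊤))
  let Ae := LinearEquiv.ofBijective A hA
  have hηsl : ∀ (r : Γ(Y, U)) (x : G), η.hom (r • x) = φ.hom r • (show Ω from η.hom x) := fun r x =>
    η.hom.map_smul r x
  have hsU : ∀ (r : Γ(Y, U)) (x : G), sU (r • x) = r • sU x := fun r x => by
    refine (secEquiv_smul hU ⊤ hUtop r x).trans ?_
    rw [QC.resO_self]
  intro Q _ _ w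
  let w' : G ⟶ (ModuleCat.restrictScalars.{u, u, u} φ.hom).obj (ModuleCat.of Γ(X, V) Q) :=
    ModuleCat.ofHom (X := G) (Y := (ModuleCat.restrictScalars.{u, u, u} φ.hom).obj (ModuleCat.of Γ(X, V) Q))
      { toFun := fun (x : G) => w (sU x)
        map_add' := fun a b => by simp only [map_add]
        map_smul' := fun r x => by
          rw [hsU, LinearMap.map_smulₛₗ]
          rfl }
  let wΩ : Ω ⟶ ModuleCat.of Γ(X, V) Q :=
    ((ModuleCat.extendRestrictScalarsAdj.{u, u, u} φ.hom).homEquiv G (ModuleCat.of Γ(X, V) Q)).symm w'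
  have hwΩ : ∀ x : G, wΩ.hom (η.hom x) = w (sU x) := fun x => by
    have h1 := Equiv.apply_symm_apply
      ((ModuleCat.extendRestrictScalarsAdj.{u, u, u} φ.hom).homEquiv G (ModuleCat.of Γ(X, V) Q)) w'
    rw [Adjunction.homEquiv_unit] at h1
    exact congr($h1 x)
  refine ⟨wΩ.hom.comp Ae.symm.toLinearMap, fun m => ?_, fun f hf => ?_⟩
  · change wΩ.hom (Ae.symm (resθ g θ h m)) = _
    rw [← key m]
    change wΩ.hom (Ae.symm (Ae (η (sU.symm m)))) = _
    rw [LinearEquiv.symm_apply_apply]
    exact (hwΩ _).trans (congrArg w (AddEquiv.apply_symm_apply sU m))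
  · have h1 : ModuleCat.ofHom (f.comp A) = wΩ := by
      refine ((ModuleCat.extendRestrictScalarsAdj.{u, u, u} φ.hom).homEquiv G
        (ModuleCat.of Γ(X, V) Q)).injective ?_
      rw [Equiv.apply_symm_apply, Adjunction.homEquiv_unit]
      ext x
      change f (A (η.hom x)) = w (sU x)
      rw [← hf (sU x), ← key (sU x), AddEquiv.symm_apply_apply]
      rfl
    refine LinearMap.ext fun y => ?_
    obtain ⟨x, rfl⟩ := Ae.surjective y
    change f (A x) = wΩ.hom (Ae.symm (Ae x))
    rw [LinearEquiv.symm_apply_apply, ← h1]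
    rfl

end Groth.Agent.RelTilde
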