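import Groth.Agent.SymAlg.CanonMap
import Groth.Agent.RelTilde.Local

/-!
An immersion into some projective bundle over an affine open of the base gives closed immersion data
for the canonical morphism into `P(q_* L)`.
-/

set_option autoImplicit false
set_option backward.isDefEq.respectTransparency false
set_option linter.style.haveILetI false
set_option linter.unusedSectionVars false

universe u

open CategoryTheory CategoryTheory.Limits DirectSum AlgebraicGeometry TopologicalSpace Opposite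
open scoped HomogeneousIdeal
open Groth.Agent.QC (res resO res_res res_self res_smul app_res)

noncomputable section

namespace Groth.Agent.SymAlg

open Groth.Agent
open TMul (IsGen)

/-- A generator of a restriction, seen in the ambient scheme. -/
lemma isGen_of_isGen_restrict {X Z : Scheme.{u}} (j : Z ⟶ X) [IsOpenImmersion j] {M : X.Modules}
    {W : Z.Opens} (t : Γ(M.restrict j, W)) (h : IsGen t) :
    IsGen (X := X) (N := M) (U := j ''ᵁ W) (t : Γ(M, j ''ᵁ W)) := by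
  intro V hV
  obtain ⟨V', rfl⟩ : ∃ V' : Z.Opens, j ''ᵁ V' = V :=
    ⟨j ⁻¹ᵁ V, by
      rw [Scheme.Hom.image_preimage_eq_opensRange_inf,
        inf_eq_right.mpr (hV.trans (j.image_le_opensRange W))]⟩
  have hV' : V' ≤ W := (j.image_le_image_iff _ _).mp hV
  have b := h V' hV'
  have hfun : (fun c : Γ(Z, V') => c • res (M.restrict j) hV' t) =
      (fun c : Γ(X, j ''ᵁ V') => c • res M hV (t : Γ(M, j ''ᵁ W))) ∘ (j.appIso V').inv.hom := rfl
  rw [hfun] at b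
  exact (Function.Bijective.of_comp_iff _
    (ConcreteCategory.bijective_of_isIso (j.appIso V').inv)).mp b

/-- Two ring maps agreeing on homogeneous generators up to the power of an element. -/
lemma eq_mul_pow_of_gen {A B σ : Type u} [CommRing A] [SetLike σ A] [AddSubgroupClass σ A] (𝒜 : ℕ → σ)
    [GradedRing 𝒜] [CommRing B] (f C : A →+* B) (l : B) {T : Set A} (hT : Subring.closure T = ⊤)
    (h : ∀ y ∈ T, ∃ d, y ∈ 𝒜 d ∧ f y = C y * l ^ d) {n : ℕ} {a : A} (ha : a ∈ 𝒜 n) :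
    f a = C a * l ^ n := by
  classical
  have hM : ∀ y ∈ Submonoid.closure T, ∃ d, y ∈ 𝒜 d ∧ f y = C y * l ^ d := fun y hy => by
    induction hy using Submonoid.closure_induction with
    | mem y hy => exact h y hy
    | one => exact ⟨0, SetLike.one_mem_graded _, by simp⟩
    | mul a b _ _ ha hb =>
      obtain ⟨d, ha, ha'⟩ := ha
      obtain ⟨d', hb, hb'⟩ := hb
      exact ⟨d + d', SetLike.mul_mem_graded ha hb, by rw [map_mul, map_mul, ha', hb', pow_add]; ring⟩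
  suffices key : ∀ z, f (decompose 𝒜 z n : A) = C (decompose 𝒜 z n : A) * l ^ n by
    have := key a
    rwa [decompose_of_mem_same _ ha] at this
  intro z
  have hz : z ∈ Subring.closure T := hT.ge (Subring.mem_top z)
  rw [Subring.mem_closure_iff] at hz
  induction hz using AddSubgroup.closure_induction with
  | mem y hy =>
    obtain ⟨d, hd, hd'⟩ := hM y hy
    by_cases h : d = n
    · subst h
      rwa [decompose_of_mem_same _ hd]
    · rw [decompose_of_mem_ne _ hd h]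
      simp
  | zero => simp
  | add a b _ _ ha hb =>
    simp only [decompose_add, DirectSum.add_apply, AddMemClass.coe_add, map_add, ha, hb, add_mul]
  | neg a _ ha =>
    simp only [decompose_neg]
    change f (-(decompose 𝒜 a n : A)) = C (-(decompose 𝒜 a n : A)) * l ^ n
    rw [map_neg, map_neg, ha, neg_mul]

section Pieces

variable {X Y P : Scheme.{u}} {E : Y.Modules} {𝒮 : RelProj.QCGrAlg Y} {j : E ⟶ 𝒮.toModule}
  (hj : RelProj.IsGrSymAlg E 𝒮 j) {p : P ⟶ Y}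
  {ch : ∀ (U : Y.Opens) (hU : IsAffineOpen U), ((p ⁻¹ᵁ U : P.Opens) : Scheme.{u}) ≅ Proj (𝒮.deg U hU)}
  {i : X ⟶ P}

lemma basicOpen_bundleFn (U : Y.Opens) (hU : IsAffineOpen U) (e : Γ(E, U)) {n : ℕ} (hn : 0 < n)
    {a : 𝒮.presheaf.obj (op U)} (ha : a ∈ 𝒮.deg U hU n) :
    P.basicOpen (bundleFn (p := p) (ch := ch) hj U hU e a) =
      RelProj.emb p ch U hU ''ᵁ Proj.basicOpen (𝒮.deg U hU) (jE j U e * a) := by
  rw [bundleFn, RingHom.comp_apply, ← Scheme.image_basicOpen,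
    RelTilde.dehomRing_of_mem (𝒮.deg U hU) _ ha,
    RelTilde.basicOpen_away (𝒮.deg U hU) _ one_pos hn]

lemma basicOpen_pullFn (U : Y.Opens) (hU : IsAffineOpen U) (e : Γ(E, U)) (V : X.Opens)
    (h : V ≤ i ⁻¹ᵁ DjE p ch j U hU e) {n : ℕ} (hn : 0 < n) {a : 𝒮.presheaf.obj (op U)}
    (ha : a ∈ 𝒮.deg U hU n) :
    X.basicOpen (pullFn hj U hU e V h a) =
      V ⊓ i ⁻¹ᵁ (RelProj.emb p ch U hU ''ᵁ Proj.basicOpen (𝒮.deg U hU) a) := by
  have h1 : X.basicOpen (pullFn hj U hU e V h a) =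
      V ⊓ i ⁻¹ᵁ P.basicOpen (bundleFn (p := p) (ch := ch) hj U hU e a) := by
    simp only [pullFn, RingHom.comp_apply, Scheme.Hom.appLE, CommRingCat.hom_comp]
    rw [Scheme.basicOpen_res, ← Scheme.preimage_basicOpen]
  rw [h1, basicOpen_bundleFn hj U hU e hn ha, Proj.basicOpen_mul]
  refine le_antisymm (inf_le_inf le_rfl (i.preimage_mono
    ((RelProj.emb p ch U hU).image_mono inf_le_right))) ?_
  rintro z ⟨hz, y, hy, hyz⟩
  refine ⟨hz, y, ⟨?_, hy⟩, hyz⟩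
  obtain ⟨y', hy', hyz'⟩ := h hz
  exact (RelProj.emb p ch U hU).isOpenEmbedding.injective (hyz'.trans hyz.symm) ▸ hy'

set_option maxHeartbeats 1600000 in
/-- A fraction with denominator `a ^ k`, dehomogenised at `j e`. -/
lemma bundleFn_eq_of_away (U : Y.Opens) (hU : IsAffineOpen U) (e : Γ(E, U)) {n : ℕ}
    {a : 𝒮.presheaf.obj (op U)} (ha : a ∈ 𝒮.deg U hU n) {k : ℕ} {s : 𝒮.presheaf.obj (op U)}
    (hs : s ∈ 𝒮.deg U hU (k • n))
    (b : Γ(P, RelProj.emb p ch U hU ''ᵁ Proj.basicOpen (𝒮.deg U hU) a))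
    (hb : ((RelProj.emb p ch U hU).app _).hom b =
      resO (Proj (𝒮.deg U hU)) ((RelProj.emb p ch U hU).preimage_image_eq _).le
        (RelTilde.away (𝒮.deg U hU) ha k hs)) :
    resO P inf_le_left b * resO P inf_le_right (bundleFn (p := p) (ch := ch) hj U hU e a) ^ k =
      resO P (inf_le_right : RelProj.emb p ch U hU ''ᵁ Proj.basicOpen (𝒮.deg U hU) a ⊓
        DjE p ch j U hU e ≤ _) (bundleFn hj U hU e s) := by
  let O := RelProj.emb p ch U hU ''ᵁ Proj.basicOpen (𝒮.deg U hU) a ⊓ DjE p ch j U hU e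
  let Em := RelProj.emb p ch U hU
  have hO : O ≤ Em.opensRange := inf_le_left.trans (Em.image_le_opensRange _)
  refine (RelTilde.bijective_app_of_le Em hO).1 ?_
  have hnat : ∀ {D : P.Opens} (h : O ≤ D) (c : Γ(P, D)),
      (Em.app O).hom (resO P h c) = resO (Proj (𝒮.deg U hU)) (Em.preimage_mono h) ((Em.app D).hom c) :=
    fun {D} h c => congr($(Em.naturality (homOfLE h).op) c)
  rw [map_mul, map_pow, hnat, hnat, hnat, hb, emb_app_bundleFn, emb_app_bundleFn,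
    RelTilde.dehomRing_of_mem (𝒮.deg U hU) _ ha, RelTilde.dehomRing_of_mem (𝒮.deg U hU) _ hs,
    QC.resO_resO, QC.resO_resO, QC.resO_resO, ← map_pow]
  refine Subtype.ext (funext fun z => HomogeneousLocalization.val_injective _ ?_)
  have hza : a ∉ z.1.asHomogeneousIdeal :=
    (ProjectiveSpectrum.mem_basicOpen _ _ _).mp ((Em.preimage_image_eq _).le z.2.1)
  have hze : jE j U e ∉ z.1.asHomogeneousIdeal :=
    (ProjectiveSpectrum.mem_basicOpen _ _ _).mp ((Em.preimage_image_eq _).le z.2.2)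
  refine (HomogeneousLocalization.val_mul _ _).trans ?_
  refine (congrArg₂ (· * ·) rfl (HomogeneousLocalization.val_pow _ k)).trans ?_
  change (Localization.mk s ⟨a ^ k, RelTilde.not_mem_pow _ hza k⟩ : GrTwist.Loc (𝒮.deg U hU) z.1) *
      (Localization.mk a ⟨jE j U e ^ n, RelTilde.not_mem_pow _ hze n⟩) ^ k =
    Localization.mk s ⟨jE j U e ^ (k • n), RelTilde.not_mem_pow _ hze _⟩
  rw [Localization.mk_pow, Localization.mk_mul, Localization.mk_eq_mk_iff,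
    Localization.r_iff_exists]
  refine ⟨1, ?_⟩
  simp only [Submonoid.coe_one, one_mul, Submonoid.coe_mul, SubmonoidClass.coe_pow, smul_eq_mul]
  ring

end Pieces

section Local

variable {X Y : Scheme.{u}} {q : X ⟶ Y} {L : X.Modules} (hL : PicF.IsInvertible L)
  (hLq : Coh.IsQCoh L) (hF : Coh.IsQCoh ((Scheme.Modules.pushforward q).obj L)) {𝒮 : RelProj.QCGrAlg Y}
  {jF : (Scheme.Modules.pushforward q).obj L ⟶ 𝒮.toModule}
  (hjF : RelProj.IsGrSymAlg ((Scheme.Modules.pushforward q).obj L) 𝒮 jF)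
  {𝒮L : RelProj.QCGrAlg X} {jl : L ⟶ 𝒮L.toModule} (hjl : RelProj.IsGrSymAlg L 𝒮L jl)
  {u : RelProj.QGrHom q 𝒮 𝒮L} (hu : IsCanon jF jl u)

set_option maxHeartbeats 3200000 in
set_option synthInstance.maxHeartbeats 200000 in
include hL hLq hjF hjl hu in
/-- Closed immersion data from an immersion over an affine open of the base. -/
theorem exists_local_data {V : Y.Opens} (hV : IsAffineOpen V)
    (h : RelProj.IsRelVeryAmple (q ∣_ V) (L.restrict (q ⁻¹ᵁ V).ι)) (x : X) (hx : x ∈ q ⁻¹ᵁ V) :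
    ∃ (n : ℕ) (a : 𝒮.presheaf.obj (op V)), 0 < n ∧ a ∈ 𝒮.deg V hV n ∧ x ∈ Rel.NV u hV n a ∧
      IsAffineOpen (Rel.NV u hV n a) ∧
      ∀ t : Γ(X, Rel.NV u hV n a), ∃ (m : ℕ) (_ : 0 < m) (s' : 𝒮.presheaf.obj (op V))
        (_ : s' ∈ 𝒮.deg V hV (m * n)),
        (𝒮L.str.app (op (Rel.NV u hV n a))).hom t *
            ((u.appLE V (Rel.NV u hV n a) (NV_le u hV n a)).hom a) ^ m =
          (u.appLE V (Rel.NV u hV n a) (NV_le u hV n a)).hom s' := by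
  classical
  obtain ⟨E, hE, 𝒯, j, hj, P, p, ch, hP, O1, lam, hO1, i, hi, hip, ⟨e⟩⟩ := h
  haveI := hi
  haveI : E.IsQuasicoherent := hE
  have hO1' := (RelTilde.isRelTwist_iff 𝒯 1 O1 lam).mp hO1
  obtain ⟨φ, hφ⟩ := exists_isFund hj hP hO1'
  let Z := q ⁻¹ᵁ V
  let θ := pullθ i e
  have hLZ : PicF.IsInvertible (L.restrict Z.ι) := TMul.isInvertible_restrict Z.ι hL
  have hθ := fun W s hs => isGen_pullθ i e hLZ hO1'.isQCoh (V := W) s hs
  haveI : IsAffine (V : Scheme.{u}) := hV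
  have hT : IsAffineOpen (⊤ : (V : Scheme.{u}).Opens) := isAffineOpen_top _
  have hZtop : Z ≤ Z.ι ''ᵁ (i ⁻¹ᵁ (p ⁻¹ᵁ ⊤)) := fun z hz => ⟨⟨z, hz⟩, trivial, rfl⟩
  -- base functions
  have hbase : ∀ (W' : (Z : Scheme.{u}).Opens) (hW : Z.ι ''ᵁ W' ≤ q ⁻¹ᵁ V)
      (r : Γ((V : Scheme.{u}), ⊤)) (hW' : W' ≤ i ⁻¹ᵁ (p ⁻¹ᵁ ⊤)),
      (i.appLE (p ⁻¹ᵁ ⊤) W' hW').hom ((p.app ⊤).hom r) =
        (q.appLE V (Z.ι ''ᵁ W') hW).hom (V.topIso.hom.hom r) := by
    intro W' hW r hW'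
    have h1 : ((i ≫ p).appLE ⊤ W' hW').hom r = (i.appLE (p ⁻¹ᵁ ⊤) W' hW').hom ((p.app ⊤).hom r) := by
      rw [Scheme.Hom.comp_appLE]
      rfl
    rw [← h1]
    simp only [hip]
    rw [morphismRestrict_appLE]
    change _ = (V.topIso.hom ≫ q.appLE V (Z.ι ''ᵁ W') hW).hom r
    rw [Scheme.Opens.topIso_hom, Scheme.Hom.map_appLE]
    rfl
  have hsm : ∀ (W' : (Z : Scheme.{u}).Opens) (c : Γ((Z : Scheme.{u}), W')) (t : Γ(L.restrict Z.ι, W')),
      (show Γ(L, Z.ι ''ᵁ W') from c • t) =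
        (show Γ(X, Z.ι ''ᵁ W') from c) • (show Γ(L, Z.ι ''ᵁ W') from t) := fun W' c t => by
    change (Z.ι.appIso W').inv.hom c • (show Γ(L, Z.ι ''ᵁ W') from t) = _
    rw [Scheme.Opens.ι_appIso]
    rfl
  let φt : Γ(E, ⊤) → Γ(O1, p ⁻¹ᵁ ⊤) := fun m => φ.app ⊤ m
  have hφt : ∀ (r : Γ((V : Scheme.{u}), ⊤)) m, φt (r • m) = (p.app ⊤).hom r • φt m :=
    fun r m => Scheme.Modules.Hom.app_smul φ r m
  -- sections of `E` as sections of `q_* L`
  let K : Γ(E, ⊤) → Γ(L, q ⁻¹ᵁ V) := fun m =>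
    res L hZtop (θ.app (p ⁻¹ᵁ ⊤) (φt m))
  have hKadd : ∀ m m', K (m + m') = K m + K m' := fun m m' => by
    simp only [K]
    rw [show φt (m + m') = φt m + φt m' from map_add (φ.app ⊤).hom m m', map_add]
    exact map_add (res L hZtop) _ _
  have hKsmul : ∀ (r : Γ((V : Scheme.{u}), ⊤)) m,
      K (r • m) = (q.app V).hom (V.topIso.hom.hom r) • K m := fun r m => by
    simp only [K]
    rw [hφt, Scheme.Modules.Hom.app_smul]
    refine (congrArg (res L hZtop) (hsm _ _ _)).trans ?_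
    refine (res_smul L hZtop _ _).trans (congrArg (· • _) ?_)
    change resO X hZtop ((i.app (p ⁻¹ᵁ ⊤)).hom ((p.app ⊤).hom r)) = _
    have h2 := hbase (i ⁻¹ᵁ (p ⁻¹ᵁ ⊤)) (Z.ι_image_le _) r le_rfl
    rw [← Scheme.Hom.app_eq_appLE] at h2
    rw [h2]
    change (q.appLE V _ _ ≫ X.presheaf.map (homOfLE hZtop).op).hom _ = _
    rw [Scheme.Hom.appLE_map, ← Scheme.Hom.app_eq_appLE]
  -- the comparison of algebras
  obtain ⟨γ, hγ, hjγ⟩ := exists_affineIso hE hj.1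
  let eA : 𝒯.presheaf.obj (op ⊤) ≃+* SymmetricAlgebra Γ((V : Scheme.{u}), ⊤) Γ(E, ⊤) :=
    (γ.app (op (⟨⊤, hT⟩ : (V : Scheme.{u}).AffineZariskiSite))).commRingCatIsoToRingEquiv
  have heA_str : ∀ r, eA ((𝒯.str.app (op ⊤)).hom r) = algebraMap _ _ r := fun r =>
    congr($(NatTrans.congr_app hγ (op (⟨⊤, hT⟩ : (V : Scheme.{u}).AffineZariskiSite))) r)
  have heA_j : ∀ m, eA (jE j ⊤ m) = SymmetricAlgebra.ι _ _ m := fun m => by
    rw [show jE j ⊤ m = eA.symm (SymmetricAlgebra.ι _ _ m) from hjγ ⟨⊤, hT⟩ m,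
      RingEquiv.apply_symm_apply]
  let v : 𝒯.presheaf.obj (op ⊤) →+* 𝒮.presheaf.obj (op V) :=
    (symLift ((𝒮.str.app (op V)).hom.comp V.topIso.hom.hom)
      (AddMonoidHom.mk' (fun m => jFs jF V (K m)) fun m m' => by
        rw [hKadd]; exact map_add (jF.app V).hom _ _)
      (fun r m => by
        change jFs jF V (K (r • m)) = _
        rw [hKsmul]
        exact Scheme.Modules.Hom.app_smul jF _ _)).comp eA.toRingHom
  have hv_str : ∀ r, v ((𝒯.str.app (op ⊤)).hom r) = (𝒮.str.app (op V)).hom (V.topIso.hom.hom r) :=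
    fun r => (congrArg (symLift _ _ _) (heA_str r)).trans (symLift_algebraMap ..)
  have hv_j : ∀ m, v (jE j ⊤ m) = jFs jF V (K m) :=
    fun m => (congrArg (symLift _ _ _) (heA_j m)).trans (symLift_ι ..)
  have hv_mem : ∀ {d : ℕ} {s : 𝒯.presheaf.obj (op ⊤)}, s ∈ 𝒯.deg ⊤ hT d → v s ∈ 𝒮.deg V hV d := by
    intro d s hs
    refine map_mem_of_gen (𝒯.deg ⊤ hT) (𝒮.deg V hV) v (SymAlgGen.gen_eq_top hj.1 hT) ?_ hs
    rintro _ (⟨r, rfl⟩ | ⟨m, rfl⟩)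
    · exact ⟨0, 𝒯.str_mem ⊤ hT r, (hv_str r).symm ▸ 𝒮.str_mem V hV _⟩
    · exact ⟨1, hj.2 ⊤ hT m, (hv_j m).symm ▸ hjF.2 V hV _⟩
  -- the formula on a chart
  have hform : ∀ (e₀ : Γ(E, ⊤)) (W' : (Z : Scheme.{u}).Opens) (hW' : W' ≤ i ⁻¹ᵁ DjE p ch j ⊤ hT e₀)
      {d : ℕ} {s : 𝒯.presheaf.obj (op ⊤)}, s ∈ 𝒯.deg ⊤ hT d →
      (u.appLE V (Z.ι ''ᵁ W') (Z.ι_image_le W')).hom (v s) =
        strL 𝒮L (Z.ι ''ᵁ W') (pullFn (i := i) hj ⊤ hT e₀ W' hW' s) *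
          jL jl (Z.ι ''ᵁ W') (genL φ θ ⊤ hT e₀ W' hW' : Γ(L, Z.ι ''ᵁ W')) ^ d := by
    intro e₀ W' hW' d s hs
    let W := Z.ι ''ᵁ W'
    let C : 𝒯.presheaf.obj (op ⊤) →+* 𝒮L.presheaf.obj (op W) :=
      (strL 𝒮L W).comp (pullFn (i := i) hj ⊤ hT e₀ W' hW')
    refine eq_mul_pow_of_gen (𝒯.deg ⊤ hT) ((u.appLE V W (Z.ι_image_le W')).hom.comp v) C _
      (SymAlgGen.gen_eq_top hj.1 hT) ?_ hs
    rintro _ (⟨r, rfl⟩ | ⟨m, rfl⟩)
    · refine ⟨0, 𝒯.str_mem ⊤ hT r, ?_⟩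
      rw [pow_zero, mul_one]
      change (u.appLE V W _).hom (v ((𝒯.str.app (op ⊤)).hom r)) =
        strL 𝒮L W (pullFn (i := i) hj ⊤ hT e₀ W' hW' ((𝒯.str.app (op ⊤)).hom r))
      rw [hv_str]
      refine (congr(($(u.str_appLE V W (Z.ι_image_le W'))).hom (V.topIso.hom.hom r))).trans ?_
      refine congrArg (strL 𝒮L W) ?_
      simp only [pullFn, RingHom.comp_apply]
      rw [bundleFn_str hP hj]
      refine (hbase W' (Z.ι_image_le W') r (fun z _ => trivial)).symm.trans ?_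
      change _ = ((P.presheaf.map (homOfLE (DjE_le ⊤ hT e₀)).op) ≫
        i.appLE (DjE p ch j ⊤ hT e₀) W' hW').hom ((p.app ⊤).hom r)
      rw [Scheme.Hom.map_appLE]
    · refine ⟨1, hj.2 ⊤ hT m, ?_⟩
      rw [pow_one]
      change (u.appLE V W _).hom (v (jE j ⊤ m)) =
        strL 𝒮L W (pullFn (i := i) hj ⊤ hT e₀ W' hW' (jE j ⊤ m)) * jL jl W _
      rw [hv_j, appLE_jFs hu V hV]
      refine Eq.trans (congrArg (jL jl W) ?_) (Scheme.Modules.Hom.app_smul jl _ _)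
      refine (res_res L (Z.ι_image_le W') hZtop _).trans ?_
      have h3 : res (L.restrict Z.ι) (fun z _ => trivial : W' ≤ i ⁻¹ᵁ (p ⁻¹ᵁ ⊤))
            (θ.app (p ⁻¹ᵁ ⊤) (φ.app ⊤ m)) =
          res (L.restrict Z.ι) hW'
            (θ.app _ (res O1 (DjE_le ⊤ hT e₀) (φ.app ⊤ m : Γ(O1, p ⁻¹ᵁ ⊤)))) := by
        rw [← app_res θ (DjE_le ⊤ hT e₀)]
        exact (res_res (L.restrict Z.ι) hW' (i.preimage_mono (DjE_le ⊤ hT e₀)) _).symm
      refine h3.trans ?_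
      rw [res_phi_eq hO1' hj hφ ⊤ hT e₀ m, Scheme.Modules.Hom.app_smul]
      refine (res_smul (L.restrict Z.ι) hW' _ _).trans ?_
      exact hsm W' _ _
  -- the element
  let z : (Z : Scheme.{u}) := ⟨x, hx⟩
  obtain ⟨y, hy⟩ := RelTilde.exists_point (q := p) (ch := ch) ⊤ hT (x := i.base z) trivial
  have hzc : i.base z ∈ i.coborderRange := subset_coborder ⟨z, rfl⟩
  obtain ⟨n, a', hn, ha', hya, haO⟩ := exists_basicOpen_le
    (O := RelProj.emb p ch ⊤ hT ⁻¹ᵁ i.coborderRange) (y := y) (by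
      show RelProj.emb p ch ⊤ hT y ∈ i.coborderRange
      rw [hy]; exact hzc)
  let D := RelProj.emb p ch ⊤ hT ''ᵁ Proj.basicOpen (𝒯.deg ⊤ hT) a'
  have hD : IsAffineOpen D :=
    (Proj.isAffineOpen_basicOpen _ a' ha' hn).image_of_isOpenImmersion (RelProj.emb p ch ⊤ hT)
  have hDc : D ≤ i.coborderRange :=
    ((RelProj.emb p ch ⊤ hT).image_mono haO).trans ((RelProj.emb p ch ⊤ hT).image_preimage_le _)
  haveI : IsClosedImmersion (i ∣_ D) := isClosedImmersion_restrict_of_le i hDc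
  haveI : IsAffine (D : Scheme.{u}) := hD
  have hiD : IsAffineOpen (i ⁻¹ᵁ D) := isAffine_of_isAffineHom (i ∣_ D)
  have hchart : ∀ w : (Z : Scheme.{u}), ∃ (e₀ : Γ(E, ⊤)) (W' : (Z : Scheme.{u}).Opens)
      (_ : IsAffineOpen W'), w ∈ W' ∧ W' ≤ i ⁻¹ᵁ DjE p ch j ⊤ hT e₀ := fun w => by
    obtain ⟨y', hy'⟩ := RelTilde.exists_point (q := p) (ch := ch) ⊤ hT (x := i.base w) trivial
    obtain ⟨e₀, he₀⟩ := exists_jE_not_mem hj ⊤ hT y'
    obtain ⟨W', hW', hwW, hle⟩ := exists_isAffineOpen_mem_and_subset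
      (U := i ⁻¹ᵁ DjE p ch j ⊤ hT e₀) (x := w)
      ⟨y', (ProjectiveSpectrum.mem_basicOpen _ _ _).mpr he₀, hy'⟩
    exact ⟨e₀, W', hW', hwW, hle⟩
  have hNV : Rel.NV u hV n (v a') = Z.ι ''ᵁ (i ⁻¹ᵁ D) := by
    have key : ∀ w : (Z : Scheme.{u}), Z.ι.base w ∈ Rel.NV u hV n (v a') ↔ w ∈ i ⁻¹ᵁ D := by
      intro w
      obtain ⟨e₀, W', hW', hwW, hle⟩ := hchart w
      have hℓ := isGen_of_isGen_restrict Z.ι (genL φ θ ⊤ hT e₀ W' hle)
        (isGen_genL hj hO1' hφ θ hθ ⊤ hT e₀ W' hle)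
      have hinter : Z.ι ''ᵁ W' ⊓ Rel.NV u hV n (v a') =
          X.basicOpen (pullFn (i := i) hj ⊤ hT e₀ W' hle a' : Γ(X, Z.ι ''ᵁ W')) :=
        inter_eq_basicOpen hLq hjl ((u.app V).hom (v a')) (fun y => mem_NV_iff u hV n (v a') y)
          (hW'.image_of_isOpenImmersion Z.ι) (Z.ι_image_le W') hℓ (hform e₀ W' hle ha')
      have hbo : Z.ι ''ᵁ ((Z : Scheme.{u}).basicOpen (pullFn (i := i) hj ⊤ hT e₀ W' hle a')) =
          X.basicOpen (pullFn (i := i) hj ⊤ hT e₀ W' hle a' : Γ(X, Z.ι ''ᵁ W')) := by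
        rw [Scheme.image_basicOpen, Scheme.Opens.ι_appIso]
        rfl
      rw [basicOpen_pullFn hj ⊤ hT e₀ W' hle hn ha'] at hbo
      constructor
      · intro h1
        obtain ⟨w', hw', e'⟩ := (hinter.trans hbo.symm).le ⟨⟨w, hwW, rfl⟩, h1⟩
        exact Z.ι.isOpenEmbedding.injective e' ▸ hw'.2
      · exact fun h1 => ((hinter.trans hbo.symm).ge ⟨w, ⟨hwW, h1⟩, rfl⟩).2
    refine Opens.ext (Set.ext fun y' => ⟨fun h1 => ?_, ?_⟩)
    · exact ⟨⟨y', NV_le u hV n (v a') h1⟩, (key ⟨y', NV_le u hV n (v a') h1⟩).mp h1, rfl⟩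
    · rintro ⟨w, hw, rfl⟩
      exact (key w).mpr hw
  refine ⟨n, v a', hn, hv_mem ha', hNV.ge ⟨z, ⟨y, hya, hy⟩, rfl⟩,
    hNV ▸ hiD.image_of_isOpenImmersion Z.ι, fun t => ?_⟩
  have hsurj : Function.Surjective (i.app D).hom := by
    have h1 := (i ∣_ D).app_surjective ⊤ (isAffineOpen_top _)
    rw [morphismRestrict_app] at h1
    intro c
    let iso := (Z : Scheme.{u}).presheaf.map (eqToHom (image_morphismRestrict_preimage i D ⊤)).op
    have hDtop : D.ι ''ᵁ ⊤ = D := by rw [Scheme.Hom.image_top_eq_opensRange, Scheme.Opens.opensRange_ι]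
    obtain ⟨b, hb⟩ := h1 (iso.hom (resO (Z : Scheme.{u}) (i.preimage_mono hDtop.le) c))
    refine ⟨resO P hDtop.ge b, ?_⟩
    have hinj : Function.Injective iso.hom := (ConcreteCategory.bijective_of_isIso iso).1
    have hb' : (i.app (D.ι ''ᵁ ⊤)).hom b = resO (Z : Scheme.{u}) (i.preimage_mono hDtop.le) c := hinj hb
    refine (congr($(i.naturality (homOfLE hDtop.ge).op) b)).trans ?_
    change resO (Z : Scheme.{u}) (i.preimage_mono hDtop.ge) ((i.app (D.ι ''ᵁ ⊤)).hom b) = c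
    rw [hb', QC.resO_resO, QC.resO_self]
  obtain ⟨b, hb⟩ := hsurj (show Γ((Z : Scheme.{u}), i ⁻¹ᵁ D) from resO X hNV.ge t)
  let Em := RelProj.emb p ch ⊤ hT
  obtain ⟨k, s, hs, hk, hks⟩ := RelTilde.exists_away (𝒯.deg ⊤ hT) ha' hn
    (resO (Proj (𝒯.deg ⊤ hT)) (Em.preimage_image_eq _).ge ((Em.app D).hom b))
  refine ⟨k, hk, v s, hv_mem hs, eq_of_locally fun x' hx' => ?_⟩
  obtain ⟨w, hw, hwx⟩ := hNV.le hx'
  obtain ⟨e₀, W₀, hW₀, hwW, hle⟩ := hchart w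
  obtain ⟨W', hW', hwW', hW'le⟩ :=
    exists_isAffineOpen_mem_and_subset (U := W₀ ⊓ i ⁻¹ᵁ D) (x := w) ⟨hwW, hw⟩
  have hleW : W' ≤ i ⁻¹ᵁ DjE p ch j ⊤ hT e₀ := fun z' hz' => hle (hW'le hz').1
  have hWD : W' ≤ i ⁻¹ᵁ D := fun z' hz' => (hW'le hz').2
  have hWNV : Z.ι ''ᵁ W' ≤ Rel.NV u hV n (v a') := (Z.ι.image_mono hWD).trans hNV.ge
  refine ⟨Z.ι ''ᵁ W', hWNV, hwx ▸ ⟨w, hwW', rfl⟩, ?_⟩
  rw [map_mul, map_pow]
  have hu1 : ∀ c, resL 𝒮L hWNV ((u.appLE V _ (NV_le u hV n (v a'))).hom c) =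
      (u.appLE V (Z.ι ''ᵁ W') (Z.ι_image_le W')).hom c := fun c =>
    congr(($(u.toQHom.appLE_map (NV_le u hV n (v a')) hWNV)).hom c)
  rw [hu1, hu1, resL_strL, hform e₀ W' hleW ha', hform e₀ W' hleW hs, mul_pow, ← pow_mul,
    ← mul_assoc, ← map_pow, ← map_mul]
  congr 1
  · refine congrArg (strL 𝒮L _) ?_
    have hinf : W' ≤ i ⁻¹ᵁ (D ⊓ DjE p ch j ⊤ hT e₀) := fun z' hz' => ⟨hWD hz', hleW hz'⟩
    have key := congrArg (i.appLE (D ⊓ DjE p ch j ⊤ hT e₀) W' hinf).hom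
      (bundleFn_eq_of_away hj ⊤ hT e₀ ha' hs b (by rw [← hks, QC.resO_resO, QC.resO_self]))
    rw [map_mul, map_pow] at key
    have hres : ∀ {D' : P.Opens} (h : D ⊓ DjE p ch j ⊤ hT e₀ ≤ D') (h' : W' ≤ i ⁻¹ᵁ D') (c : Γ(P, D')),
        (i.appLE (D ⊓ DjE p ch j ⊤ hT e₀) W' hinf).hom (resO P h c) =
          (i.appLE D' W' h').hom c := fun {D'} h h' c =>
      congr(($(Scheme.Hom.map_appLE i hinf (homOfLE h).op)).hom c)
    rw [hres inf_le_left hWD, hres inf_le_right hleW, hres inf_le_right hleW] at key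
    refine Eq.trans (congrArg₂ (· * ·) ?_ rfl) key
    change resO X hWNV t = resO (Z : Scheme.{u}) hWD ((i.app D).hom b)
    rw [hb]
    exact (QC.resO_resO (X := X) (Z.ι.image_mono hWD) hNV.ge t).symm
  · rw [smul_eq_mul, mul_comm k n]

include hL in
/-- Sections over the affine open generate. -/
theorem exists_genPair {V : Y.Opens} (hV : IsAffineOpen V)
    (h : RelProj.IsRelVeryAmple (q ∣_ V) (L.restrict (q ⁻¹ᵁ V).ι)) (x : X) (hx : x ∈ q ⁻¹ᵁ V) :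
    ∃ c : GenPair q L, x ∈ c.U' := by
  obtain ⟨E, hE, 𝒯, j, hj, P, p, ch, hP, O1, lam, hO1, i, hi, hip, ⟨e⟩⟩ := h
  haveI : E.IsQuasicoherent := hE
  have hO1' := (RelTilde.isRelTwist_iff 𝒯 1 O1 lam).mp hO1
  obtain ⟨φ, hφ⟩ := exists_isFund hj hP hO1'
  let Z := q ⁻¹ᵁ V
  have hθ := fun W s hs => isGen_pullθ i e (TMul.isInvertible_restrict Z.ι hL) hO1'.isQCoh (V := W) s hs
  haveI : IsAffine (V : Scheme.{u}) := hV
  have hT : IsAffineOpen (⊤ : (V : Scheme.{u}).Opens) := isAffineOpen_top _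
  let z : (Z : Scheme.{u}) := ⟨x, hx⟩
  obtain ⟨e₀, W', hW', hzW, hle, -⟩ := exists_chart hE hj (ch := ch) ⊤ hT z (i := i) trivial
  have hZtop : Z ≤ Z.ι ''ᵁ (i ⁻¹ᵁ (p ⁻¹ᵁ ⊤)) := fun w hw => ⟨⟨w, hw⟩, trivial, rfl⟩
  let φt : Γ(O1, p ⁻¹ᵁ ⊤) := φ.app ⊤ e₀
  refine ⟨⟨V, hV, Z.ι ''ᵁ W', hW'.image_of_isOpenImmersion Z.ι, Z.ι_image_le W',
    res L hZtop ((pullθ i e).app (p ⁻¹ᵁ ⊤) φt), ?_⟩, z, hzW, rfl⟩
  rw [res_res]
  have hgen := isGen_of_isGen_restrict Z.ι (genL φ (pullθ i e) ⊤ hT e₀ W' hle)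
    (isGen_genL hj hO1' hφ (pullθ i e) hθ ⊤ hT e₀ W' hle)
  have heq : genL φ (pullθ i e) ⊤ hT e₀ W' hle =
      res (L.restrict Z.ι) (fun w _ => trivial : W' ≤ i ⁻¹ᵁ (p ⁻¹ᵁ ⊤))
        ((pullθ i e).app (p ⁻¹ᵁ ⊤) φt) := by
    unfold genL
    rw [← app_res (pullθ i e) (DjE_le ⊤ hT e₀)]
    exact res_res (L.restrict Z.ι) hle (i.preimage_mono (DjE_le ⊤ hT e₀)) _
  rw [heq] at hgen
  exact hgen

end Local

end Groth.Agent.SymAlg
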