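import Groth.Agent.SymAlg.VAmplePn
import Groth.Agent.ProjMor.VAmpleApply

/-!
Very ampleness relative to projective spaces over a cover of the base.
-/

set_option autoImplicit false
set_option backward.isDefEq.respectTransparency false
set_option linter.style.haveILetI false

universe u

open CategoryTheory CategoryTheory.Limits TopologicalSpace AlgebraicGeometry Opposite

noncomputable section

namespace Groth.Agent.SymAlg

open ProjMor (pz)

variable {X S : Scheme.{u}}

/-- Very ampleness relative to projective space passes to smaller opens of the base. -/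
theorem isRelVeryAmplePn_restrict_le (f : X ⟶ S) {M : X.Modules} {V W : S.Opens} (hWV : W ≤ V)
    (h : RelAmple.IsRelVeryAmplePn (f ∣_ V) (M.restrict (f ⁻¹ᵁ V).ι)) :
    RelAmple.IsRelVeryAmplePn (f ∣_ W) (M.restrict (f ⁻¹ᵁ W).ι) := by
  obtain ⟨n, i, hi, hif, ⟨φ⟩⟩ := h
  let incl : (f ⁻¹ᵁ W).toScheme ⟶ (f ⁻¹ᵁ V).toScheme := X.homOfLE (f.preimage_mono hWV)
  let i' : (f ⁻¹ᵁ W).toScheme ⟶ CohB1.ProjSpaceOver n W.toScheme :=
    pullback.lift (incl ≫ i ≫ pz n V.toScheme) (f ∣_ W) (AlgebraicGeometry.specULiftZIsTerminal.hom_ext _ _)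
  let m : CohB1.ProjSpaceOver n W.toScheme ⟶ CohB1.ProjSpaceOver n V.toScheme :=
    pullback.lift (pz n W.toScheme) (CohB1.ProjSpaceOver.toBase n W.toScheme ≫ S.homOfLE hWV)
      (AlgebraicGeometry.specULiftZIsTerminal.hom_ext _ _)
  have hi'1 : i' ≫ pz n W.toScheme = incl ≫ i ≫ pz n V.toScheme := pullback.lift_fst _ _ _
  have hm : i' ≫ m = incl ≫ i := by
    refine pullback.hom_ext ?_ ?_
    · rw [Category.assoc, pullback.lift_fst, hi'1]; exact (Category.assoc _ _ _).symm
    · rw [Category.assoc, pullback.lift_snd, Category.assoc, hif]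
      rw [← Category.assoc]
      erw [pullback.lift_snd]
      rw [← cancel_mono V.ι, Category.assoc, Category.assoc, Scheme.homOfLE_ι, morphismRestrict_ι,
        morphismRestrict_ι, Scheme.homOfLE_ι_assoc]
  have := hi
  have : IsImmersion (i' ≫ m) := by rw [hm]; infer_instance
  have : IsImmersion i' := IsImmersion.of_comp i' m
  obtain ⟨e₁⟩ := TMul.nonempty_restrictRestrictIso (f ⁻¹ᵁ V).ι incl (f ⁻¹ᵁ W).ι
    (X.homOfLE_ι _) M
  let e₃ : (Scheme.Modules.pullback i').obj (Twist.twistOver n W.toScheme 1) ≅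
      (M.restrict (f ⁻¹ᵁ V).ι).restrict incl :=
    (Scheme.Modules.pullbackComp i' (pz n W.toScheme)).app _ ≪≫
      (Scheme.Modules.pullbackCongr (hi'1.trans (Category.assoc _ _ _).symm)).app _ ≪≫
      ((Scheme.Modules.pullbackComp (incl ≫ i) (pz n V.toScheme)).app _).symm ≪≫
      ((Scheme.Modules.pullbackComp incl i).app _).symm ≪≫
      (Scheme.Modules.pullback incl).mapIso φ.symm ≪≫
      ((Scheme.Modules.restrictFunctorIsoPullback incl).app _).symm
  exact ⟨n, i', inferInstance, pullback.lift_snd _ _ _, ⟨(e₃ ≪≫ e₁).symm⟩⟩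

/-- Very ampleness from very ampleness relative to projective spaces over a cover of the base. -/
theorem isRelVeryAmple_of_pn_local (f : X ⟶ S) [QuasiCompact f] {L : X.Modules} (hL : PicF.IsInvertible L)
    (h : ∀ y : S, ∃ V : S.Opens, y ∈ V ∧ RelAmple.IsRelVeryAmplePn (f ∣_ V) (L.restrict (f ⁻¹ᵁ V).ι)) :
    RelProj.IsRelVeryAmple f L := by
  refine isRelVeryAmple_of_local f hL fun y => ?_
  obtain ⟨V, hyV, hV⟩ := h y
  obtain ⟨W, hW, hyW, hWV⟩ := exists_isAffineOpen_mem_and_subset hyV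
  haveI : IsAffine W.toScheme := hW
  exact ⟨W, hyW, hW, isRelVeryAmple_of_pn_affine (f ∣_ W) (TMul.isInvertible_restrict _ hL)
    (isRelVeryAmplePn_restrict_le f hWV hV)⟩

/-- High powers of a relatively ample module are very ample. -/
theorem eventually_isRelVeryAmple [CompactSpace S] (f : X ⟶ S) [QuasiCompact f] [LocallyOfFiniteType f]
    {L : X.Modules} (hL : PicF.IsInvertible L) (h : RelAmple.IsRelAmple f L) :
    ∃ n₀ : ℕ, 0 < n₀ ∧ ∀ n : ℕ, n₀ ≤ n → RelProj.IsRelVeryAmple f (CohB1.tensorPow L n) := by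
  classical
  choose d hd hv using fun V : S.affineOpens => ProjMor.eventually_isRelVeryAmplePn (f ∣_ V.1) (h.2 V)
  obtain ⟨T, hT⟩ := isCompact_univ.elim_finite_subcover (fun V : S.affineOpens => (V.1 : Set S))
    (fun V => V.1.2) (fun x _ => by
      obtain ⟨V, hV, hx, -⟩ := exists_isAffineOpen_mem_and_subset (show x ∈ (⊤ : S.Opens) from trivial)
      exact Set.mem_iUnion.2 ⟨⟨V, hV⟩, hx⟩)
  refine ⟨T.sup d + 1, Nat.succ_pos _, fun n hn => ?_⟩
  refine isRelVeryAmple_of_pn_local f (TMul.isInvertible_tensorPow hL n) fun y => ?_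
  obtain ⟨V, hV, hy⟩ := Set.mem_iUnion₂.1 (hT (Set.mem_univ y))
  obtain ⟨e⟩ := TMul.nonempty_restrictPowIso (f ⁻¹ᵁ V.1).ι L n
  exact ⟨V.1, hy, ProjMor.isRelVeryAmplePn_congr e (hv V n ((Finset.le_sup hV).trans (by omega)))⟩

end Groth.Agent.SymAlg
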