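import Groth.Agent.SymAlg.CanonMap
import Groth.Agent.SymAlg.RLRel
import Groth.Agent.SymAlg.VAmple

/-!
A graded morphism into `⊕ L^n` surjective in degree one: the inverse image of `O(1)` along
`r_{L,ψ}` is `L`, and `L` is very ample as soon as `r_{L,ψ}` is an immersion.
-/

set_option autoImplicit false
set_option backward.isDefEq.respectTransparency false
set_option linter.style.haveILetI false
set_option linter.unusedSectionVars false

universe u

open CategoryTheory CategoryTheory.Limits DirectSum AlgebraicGeometry TopologicalSpace Opposite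
open scoped HomogeneousIdeal
open Groth.Agent.QC (res resO res_res res_self res_smul app_res)

noncomputable section

namespace Groth.Agent.SymAlg

open Groth.Agent
open TMul (IsGen)

variable {X Y P PL : Scheme.{u}} {q : X ⟶ Y} {L : X.Modules} (hL : PicF.IsInvertible L)
  (hLq : Coh.IsQCoh L) {𝒮 : RelProj.QCGrAlg Y} (hgen : 𝒮.IsGenDegOne)
  {𝒮L : RelProj.QCGrAlg X} {jl : L ⟶ 𝒮L.toModule} (hjl : RelProj.IsGrSymAlg L 𝒮L jl)
  (u : RelProj.QGrHom q 𝒮 𝒮L)

/-- Affine pairs with a degree-one section whose image is a generator of `L`. -/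
structure DegOnePair (jl : L ⟶ 𝒮L.toModule) where
  U : Y.Opens
  hU : IsAffineOpen U
  U' : X.Opens
  hU' : IsAffineOpen U'
  le : U' ≤ q ⁻¹ᵁ U
  e : 𝒮.presheaf.obj (op U)
  he : e ∈ 𝒮.deg U hU 1
  m : Γ(L, U')
  gen : IsGen m
  eq : (u.appLE U U' le).hom e = jL jl U' m

variable {u}

include hLq hjl in
lemma hirr_degOnePair (c : DegOnePair u jl) :
    (𝒮L.deg c.U' c.hU')₊ ≤ ((𝒮.deg c.U c.hU)₊).map (u.gradedAt c.U c.hU c.U' c.hU' c.le) := by
  intro b hb
  obtain ⟨a, rfl⟩ := Ideal.mem_span_singleton'.mp (irrelevant_le_span hLq hjl c.hU' c.gen hb)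
  change a * _ ∈ Ideal.map (u.gradedAt c.U c.hU c.U' c.hU' c.le) ((𝒮.deg c.U c.hU)₊).toIdeal
  refine Ideal.mul_mem_left _ a ?_
  rw [← c.eq]
  refine Ideal.mem_map_of_mem _ ?_
  exact HomogeneousIdeal.mem_irrelevant_of_mem _ one_pos c.he

include hLq hjl hL in
/-- Surjectivity in degree one gives generating images near every point. -/
theorem exists_degOnePair {U : Y.Opens} (hU : IsAffineOpen U) {e : 𝒮.presheaf.obj (op U)}
    (he : e ∈ 𝒮.deg U hU 1) {V : X.Opens} (hV : IsAffineOpen V) (hVU : V ≤ q ⁻¹ᵁ U)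
    (hspan : ((𝒮L.deg V hV 1 : AddSubgroup (𝒮L.presheaf.obj (op V))) : Set (𝒮L.presheaf.obj (op V))) ⊆
      (Ideal.span {(u.appLE U V hVU).hom e} : Set (𝒮L.presheaf.obj (op V))))
    {x : X} (hx : x ∈ V) : ∃ c : DegOnePair u jl, x ∈ c.U' := by
  obtain ⟨U₁, hU₁, e₀, hx₁, hle, he₀⟩ := exists_triv hL hx
  obtain ⟨a, ha⟩ := exists_coeff hLq hjl hU₁ he₀
    (u.map_mem U hU U₁ hU₁ (hle.trans hVU) he)
  rw [pow_one] at ha
  have hxa : x ∈ X.basicOpen a := by
    refine mem_basicOpen_of_span (n := 1) hLq hjl hU₁ he₀ hV ((u.appLE U V hVU).hom e) le_rfl hle a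
      ?_ hx hx₁ ?_
    · rw [pow_one, resL_appLE]; exact ha
    · rw [resL_appLE]; exact hspan
  let a' := resO X (X.basicOpen_le a) a
  have hua : IsUnit a' := RingedSpace.isUnit_res_basicOpen _ a
  refine ⟨⟨U, hU, X.basicOpen a, hU₁.basicOpen a, (X.basicOpen_le a).trans (hle.trans hVU), e, he,
    a' • res L (X.basicOpen_le a) e₀, TMul.isGen_smul (isGen_res _ he₀) hua, ?_⟩, hxa⟩
  rw [← resL_appLE u (X.basicOpen_le a) (hle.trans hVU) e]
  refine (congrArg _ ha).trans ?_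
  rw [map_mul, resL_strL, resL_jL]
  exact (Scheme.Modules.Hom.app_smul jl a' _).symm

variable {p : P ⟶ Y}
  {ch : ∀ (U : Y.Opens) (hU : IsAffineOpen U), ((p ⁻¹ᵁ U : P.Opens) : Scheme.{u}) ≅ Proj (𝒮.deg U hU)}
  (hP : RelProj.IsRelProj 𝒮 p ch)
  {pL : PL ⟶ X}
  {chartL : ∀ (U : X.Opens) (hU : IsAffineOpen U), ((pL ⁻¹ᵁ U : PL.Opens) : Scheme.{u}) ≅ Proj (𝒮L.deg U hU)}
  (hPL : RelProj.IsRelProj 𝒮L pL chartL)
  {r : ((RelProj.domQ u pL chartL : PL.Opens) : Scheme.{u}) ⟶ P}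
  (hr : RelProj.IsProjQMapOn u p ch pL chartL (RelProj.domQ u pL chartL) r)
  (hcov : ∀ x : X, ∃ c : DegOnePair u jl, x ∈ c.U')

set_option maxHeartbeats 1600000 in
include hL hLq hjl hgen hP hPL hr hcov in
/-- The inverse image of `O(1)` along `r_{L,ψ}` is `L`. -/
theorem nonempty_pullback_twist_iso_degOne (htop : RelProj.domQ u pL chartL = ⊤) [IsIso pL]
    [IsIso (RelProj.domQ u pL chartL).ι] {O1 : P.Modules}
    {lam : ∀ (U : Y.Opens) (hU : IsAffineOpen U), O1 ⟶ (RelTilde.Datum.self 𝒮).E p ch 1 U hU}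
    (hO1 : (RelTilde.Datum.self 𝒮).IsTilde p ch 1 O1 lam) :
    Nonempty (L ≅ (Scheme.Modules.pullback
      (inv pL ≫ inv (RelProj.domQ u pL chartL).ι ≫ r)).obj O1) := by
  let g := inv (RelProj.domQ u pL chartL).ι ≫ r
  have hg := isProjQMap_inv hr htop
  let C : RelTilde.ChartMap (RelTilde.Datum.self 𝒮) (RelTilde.Datum.self 𝒮L) p pL ch chartL g :=
    { ι := DegOnePair u jl
      U := fun c => c.U
      U' := fun c => c.U'
      hU := fun c => c.hU
      hU' := fun c => c.hU'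
      cover := fun z => by
        obtain ⟨c, hc⟩ := hcov (pL.base z)
        exact ⟨c, hc⟩
      χ := fun c => u.gradedAt c.U c.hU c.U' c.hU' c.le
      hirr := fun c => hirr_degOnePair hLq hjl c
      v := fun c => RelTilde.ringHomSemilinear (u.gradedAt c.U c.hU c.U' c.hU' c.le)
      hv := fun c => RelTilde.ringHomSemilinear_mem _
      square := fun c => by
        refine (Proj.mapAffineOpenCover (u.gradedAt c.U c.hU c.U' c.hU' c.le)
          (hirr_degOnePair hLq hjl c)).openCover.hom_ext _ _ fun s => ?_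
        simp only [Scheme.AffineOpenCover.openCover_f, Proj.mapAffineOpenCover_f]
        rw [Proj.awayι_comp_map_assoc _ _ s.1.2 _ s.2.2]
        refine Eq.trans ?_ (hg.2 c.U c.hU c.U' c.hU' c.le s.1 s.1.2 _ s.2.2)
        rw [← Category.assoc]
        rfl
      natRing := fun c k b b' a => by
        change (u.appLE c.U c.U' c.le ≫ 𝒮L.presheaf.map (homOfLE b'.le).op).hom a =
          (𝒮.presheaf.map (homOfLE b.le).op ≫ u.appLE k.U k.U' k.le).hom a
        rw [u.toQHom.appLE_map, RelSpec.QHom.appLE_eq, RelSpec.QHom.appLE_eq, ← Category.assoc,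
          ← u.naturality b.le, Category.assoc, ← Functor.map_comp]
        rfl
      natMod := fun c k b b' a => by
        change (u.appLE c.U c.U' c.le ≫ 𝒮L.presheaf.map (homOfLE b'.le).op).hom a =
          (𝒮.presheaf.map (homOfLE b.le).op ≫ u.appLE k.U k.U' k.le).hom a
        rw [u.toQHom.appLE_map, RelSpec.QHom.appLE_eq, RelSpec.QHom.appLE_eq, ← Category.assoc,
          ← u.naturality b.le, Category.assoc, ← Functor.map_comp]
        rfl
      common := fun c k O hO bc bk x hx => by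
        obtain ⟨t, t', htt', hxt⟩ := exists_basicOpen_le_affine_inter c.hU k.hU (q.base (pL.base x))
          ⟨c.le (bc.le hx), k.le (bk.le hx)⟩
        obtain ⟨s, hs, hxs⟩ := hO.exists_basicOpen_le (V := q ⁻¹ᵁ Y.basicOpen t) ⟨pL.base x, hxt⟩ hx
        refine ⟨⟨Y.basicOpen t, c.hU.basicOpen t, X.basicOpen s, hO.basicOpen s, hs,
          (𝒮.presheaf.map (homOfLE (Y.basicOpen_le t)).op).hom c.e,
          𝒮.map_mem c.hU (c.hU.basicOpen t) (Y.basicOpen_le t) c.he,
          res L ((X.basicOpen_le s).trans bc.le) c.m, isGen_res _ c.gen, ?_⟩, hxs,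
          RelTilde.isB_basicOpen t, ⟨t', htt'.symm⟩, RelTilde.isB_basicOpen s⟩
        rw [← resL_jL, ← c.eq, resL_appLE]
        change (𝒮.presheaf.map (homOfLE (Y.basicOpen_le t)).op ≫ u.appLE _ _ hs).hom c.e = _
        refine congrArg (fun φ : 𝒮.presheaf.obj (op c.U) ⟶ 𝒮L.presheaf.obj (op (X.basicOpen s)) => φ.hom c.e) ?_
        rw [RelSpec.QHom.appLE_eq, RelSpec.QHom.appLE_eq, ← Category.assoc,
          ← u.naturality (Y.basicOpen_le t), Category.assoc, ← Functor.map_comp]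
        rfl }
  obtain ⟨L₁, lam₁, hL₁⟩ := (RelTilde.Datum.self 𝒮L).exists_isTilde hPL (1 : ℤ)
  obtain ⟨θ, hθ, -⟩ := C.existsUnique_comap 1 hP hPL hO1 hL₁
  haveI : IsIso (((Scheme.Modules.pullbackPushforwardAdjunction g).homEquiv O1 L₁).symm θ) :=
    C.isIso_adjunct_comap 1 (fun _ _ => rfl) hgen hO1 hL₁ θ hθ
  obtain ⟨φ, hφ⟩ := exists_isFund hjl hPL hL₁
  haveI : IsIso (((Scheme.Modules.pullbackPushforwardAdjunction pL).homEquiv L L₁).symm φ) := by
    refine RelTilde.isIso_adjunct pL φ hLq hL₁.isQCoh fun z => ?_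
    obtain ⟨U, hU, e, hxU, -, he⟩ := exists_triv hL (O := ⊤) (x := pL.base z) trivial
    refine ⟨U, hU, pL ⁻¹ᵁ U, hU.preimage pL, le_rfl, hxU,
      RelTilde.isBC_of_isGen pL φ le_rfl e he ?_⟩
    exact isGen_fund hjl hL₁ hφ U hU e le_rfl
      (le_top.trans (basicOpen_gen_eq_top hLq hjl hU he).ge)
  refine ⟨?_⟩
  exact ((Scheme.Modules.pullbackId X).app L).symm ≪≫
    (Scheme.Modules.pullbackCongr (IsIso.inv_hom_id pL).symm).app L ≪≫
    ((Scheme.Modules.pullbackComp (inv pL) pL).app L).symm ≪≫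
    (Scheme.Modules.pullback (inv pL)).mapIso
      (asIso (((Scheme.Modules.pullbackPushforwardAdjunction pL).homEquiv L L₁).symm φ) ≪≫
        (asIso (((Scheme.Modules.pullbackPushforwardAdjunction g).homEquiv O1 L₁).symm θ)).symm) ≪≫
    (Scheme.Modules.pullbackComp (inv pL) g).app O1

include hL hLq hjl hPL hcov in
/-- Everywhere surjective in degree one: `r_{L,ψ}` is defined everywhere. -/
theorem domQ_eq_top_of_degOne : RelProj.domQ u pL chartL = ⊤ := top_le_iff.mp fun z _ => by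
  obtain ⟨c, hc⟩ := hcov (pL z)
  refine (Rel.mem_domQ_of_nonvanishing hL hLq hjl u hPL c.hU one_pos c.he (V := ⟨c.U', c.hU'⟩)
    ⟨c.le, fun a ha => ?_⟩ hc).1
  obtain ⟨b, rfl⟩ := exists_coeff hLq hjl c.hU' c.gen ha
  rw [SetLike.mem_coe, pow_one, c.eq]
  exact Ideal.mul_mem_left _ _ (Ideal.mem_span_singleton_self _)

include hL hLq hjl hgen hP hPL hr hcov in
/-- An immersion `r_{L,ψ}` from an algebra generated in degree one gives very ampleness. -/
theorem isRelVeryAmple_of_degOne [IsImmersion r] : RelProj.IsRelVeryAmple q L := by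
  have htop := domQ_eq_top_of_degOne hL hLq hjl hPL hcov
  haveI := isIso_pL hL hLq hjl hPL
  haveI : IsIso (RelProj.domQ u pL chartL).ι := by
    rw [htop]; exact (Scheme.topIso PL).isIso_hom
  obtain ⟨O1, lam, hO1⟩ := (RelTilde.Datum.self 𝒮).exists_isTilde hP (1 : ℤ)
  obtain ⟨d⟩ := nonempty_pullback_twist_iso_degOne hL hLq hgen hjl hP hPL hr hcov htop hO1
  refine isRelVeryAmple_of_immersion q L hgen p ch hP O1 lam
    ((RelTilde.isRelTwist_iff 𝒮 1 O1 lam).mpr hO1)
    (inv pL ≫ inv (RelProj.domQ u pL chartL).ι ≫ r) ?_ d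
  rw [Category.assoc, Category.assoc, RelProjLib.qmap_over u hP hPL hr, IsIso.inv_hom_id_assoc,
    IsIso.inv_hom_id_assoc]

end Groth.Agent.SymAlg
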