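import Groth.Agent.SymAlg.RLRel
import Groth.Agent.TMul.RelAmple
import Groth.Agent.TMul.AmpleBasis

/-!
Tensor powers of an invertible module inside its symmetric algebra, and the extension lemma for
sections of the algebra.
-/

set_option autoImplicit false
set_option backward.isDefEq.respectTransparency false
set_option linter.style.haveILetI false

universe u

open CategoryTheory CategoryTheory.Limits AlgebraicGeometry TopologicalSpace Opposite
open Groth.Agent.QC (res resO res_res res_smul resO_resO app_res res_self)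

noncomputable section

namespace Groth.Agent.SymAlg

open Groth.Agent
open TMul (IsGen pw tm)

variable {X : Scheme.{u}} {L : X.Modules} {𝒮L : RelProj.QCGrAlg X} (j : L ⟶ 𝒮L.toModule)

/-- A section of the module underlying the algebra, as an element of the algebra. -/
abbrev toA {U : X.Opens} (a : Γ(𝒮L.toModule, U)) : 𝒮L.presheaf.obj (op U) := a

lemma toA_smul {U : X.Opens} (r : Γ(X, U)) (a : Γ(𝒮L.toModule, U)) :
    toA (r • a) = strL 𝒮L U r * toA a := rfl

/-- The product with a section of the module, as a section of the underlying module. -/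
def mulFun (U : X.Opens) (a : Γ(𝒮L.toModule, U)) (m : Γ(L, U)) : Γ(𝒮L.toModule, U) :=
  (toA a * jL j U m : 𝒮L.presheaf.obj (op U))

lemma toA_mulFun (U : X.Opens) (a : Γ(𝒮L.toModule, U)) (m : Γ(L, U)) :
    toA (mulFun j U a m) = toA a * jL j U m := rfl

/-- Multiplication by a section of the module. -/
def mulBil (U : X.Opens) :
    Γ(𝒮L.toModule, U) →ₗ[Γ(X, U)] Γ(L, U) →ₗ[Γ(X, U)] Γ(𝒮L.toModule, U) :=
  LinearMap.mk₂ _ (mulFun j U)
    (fun a b m => add_mul (toA a) (toA b) (jL j U m))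
    (fun r a m => by
      change toA (r • a) * jL j U m = strL 𝒮L U r * (toA a * jL j U m)
      rw [toA_smul, mul_assoc])
    (fun a m m' => by
      change toA a * jL j U (m + m') = toA a * jL j U m + toA a * jL j U m'
      rw [← mul_add]
      exact congrArg _ (map_add (j.app U).hom m m'))
    (fun r a m => by
      change toA a * jL j U (r • m) = strL 𝒮L U r * (toA a * jL j U m)
      rw [show jL j U (r • m) = strL 𝒮L U r * jL j U m from Scheme.Modules.Hom.app_smul j r m]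
      ring)

/-- A map out of a tensor power, as a linear map on sections. -/
def secLin {M N : X.Modules} (φ : M ⟶ N) (U : X.Opens) : Γ(M, U) →ₗ[Γ(X, U)] Γ(N, U) where
  toFun t := φ.app U t
  map_add' := map_add (φ.app U).hom
  map_smul' r t := Scheme.Modules.Hom.app_smul φ r t

/-- One step of the map of tensor powers into the algebra. -/
def powStep {M : X.Modules} (φ : M ⟶ 𝒮L.toModule) : CohB1.tensorMod M L ⟶ 𝒮L.toModule :=
  TMul.lift (fun U => (mulBil j U).comp (secLin φ U))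
    (fun {V U} h t m => by
      change resL 𝒮L h (toA (φ.app U t) * jL j U m) =
        toA (φ.app V (res _ h t)) * jL j V (res L h m)
      rw [map_mul, resL_jL]
      congr 1
      exact app_res φ h t)

lemma powStep_tm {M : X.Modules} (φ : M ⟶ 𝒮L.toModule) (U : X.Opens) (t : Γ(M, U)) (m : Γ(L, U)) :
    toA ((powStep j φ).app U (tm t m)) = toA (φ.app U t) * jL j U m :=
  TMul.lift_tm _ (fun {V U} h t m => by
    change resL 𝒮L h (toA (φ.app U t) * jL j U m) =
      toA (φ.app V (res _ h t)) * jL j V (res L h m)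
    rw [map_mul, resL_jL]
    congr 1
    exact app_res φ h t) t m

/-- The map of tensor powers into the algebra. -/
def powTo : ∀ n : ℕ, CohB1.tensorPow L n ⟶ 𝒮L.toModule
  | 0 => ⟨letI := 𝒮L.moduleSect
      PresheafOfModules.homMk
        { app := fun U => AddCommGrpCat.ofHom (𝒮L.str.app U).hom.toAddMonoidHom
          naturality := fun U V h => by
            ext r
            exact congr($(𝒮L.str.naturality h) r) }
        fun U r m => map_mul (𝒮L.str.app U).hom r m⟩
  | n + 1 => powStep j (powTo n)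

/-- `powTo` on sections, with values in the algebra. -/
def theta (n : ℕ) (U : X.Opens) (t : Γ(CohB1.tensorPow L n, U)) : 𝒮L.presheaf.obj (op U) :=
  (powTo j n).app U t

lemma theta_res (n : ℕ) {V U : X.Opens} (h : V ≤ U) (t : Γ(CohB1.tensorPow L n, U)) :
    resL 𝒮L h (theta j n U t) = theta j n V (res _ h t) :=
  app_res (powTo j n) h t

lemma theta_smul (n : ℕ) (U : X.Opens) (r : Γ(X, U)) (t : Γ(CohB1.tensorPow L n, U)) :
    theta j n U (r • t) = strL 𝒮L U r * theta j n U t :=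
  Scheme.Modules.Hom.app_smul (powTo j n) r t

lemma theta_pw (U : X.Opens) (e : Γ(L, U)) :
    ∀ n : ℕ, theta j n U (pw e n) = jL j U e ^ n
  | 0 => (map_one (𝒮L.str.app (op U)).hom).trans (pow_zero _).symm
  | n + 1 => by
    rw [pow_succ, ← theta_pw U e n]
    change (powTo j (n + 1)).app U (tm (pw e n) e) = toA ((powTo j n).app U (pw e n)) * jL j U e
    exact powStep_tm j (powTo j n) U (pw e n) e

variable {j} (hL : PicF.IsInvertible L) (hLq : Coh.IsQCoh L) (hj : RelProj.IsGrSymAlg L 𝒮L j)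

/-- Sections of the algebra agreeing locally are equal. -/
lemma eq_of_locally {O : X.Opens} {a b : 𝒮L.presheaf.obj (op O)}
    (h : ∀ x ∈ O, ∃ (V : X.Opens) (hV : V ≤ O), x ∈ V ∧ resL 𝒮L hV a = resL 𝒮L hV b) : a = b := by
  choose V hV hx he using h
  exact TopCat.Sheaf.eq_of_locally_eq'
    (⟨𝒮L.presheaf, 𝒮L.isSheaf⟩ : TopCat.Sheaf CommRingCat.{u} X.carrier)
    (fun x : O => V x.1 x.2) O (fun x => homOfLE (hV x.1 x.2))
    (fun x hxO => Opens.mem_iSup.mpr ⟨⟨x, hxO⟩, hx x hxO⟩) a b fun x => he x.1 x.2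

include hL hLq hj in
/-- Sections of the tensor power have degree `n`. -/
lemma theta_mem {V : X.Opens} (hV : IsAffineOpen V) (n : ℕ) (t : Γ(CohB1.tensorPow L n, V)) :
    theta j n V t ∈ 𝒮L.deg V hV n := by
  classical
  have hd : (DirectSum.decompose (𝒮L.deg V hV) (theta j n V t) n : 𝒮L.presheaf.obj (op V)) =
      theta j n V t := by
    refine eq_of_locally fun x hx => ?_
    obtain ⟨r, e, hxr, he⟩ := exists_triv_basic hL hV hx
    refine ⟨X.basicOpen r, X.basicOpen_le r, hxr, ?_⟩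
    obtain ⟨c, hc⟩ := (TMul.isGen_pw he n _ le_rfl).2 (res _ (X.basicOpen_le r) t)
    simp only [res_self] at hc
    have h1 : resL 𝒮L (X.basicOpen_le r) (theta j n V t) =
        strL 𝒮L (X.basicOpen r) c * jL j (X.basicOpen r) e ^ n := by
      rw [theta_res, ← hc, theta_smul, theta_pw]
    change 𝒮L.res hV (hV.basicOpen r) (X.basicOpen_le r) _ = _
    rw [GradedRingHom.map_directSumDecompose]
    change (DirectSum.decompose (𝒮L.deg (X.basicOpen r) (hV.basicOpen r))
      (resL 𝒮L (X.basicOpen_le r) (theta j n V t)) n : 𝒮L.presheaf.obj (op (X.basicOpen r))) = _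
    rw [h1, DirectSum.decompose_of_mem_same _ (mem_deg_mul_pow hj (hV.basicOpen r) c n)]
  rw [← hd]
  exact SetLike.coe_mem _

include hL hLq hj in
/-- Where a section generates, in terms of the algebra. -/
lemma exists_isGen_iff {O : X.Opens} (n : ℕ) (t : Γ(CohB1.tensorPow L n, O)) (x : X) :
    (∃ (W : X.Opens) (h : W ≤ O), x ∈ W ∧ IsGen (res _ h t)) ↔
      ∃ (V : X.Opens) (hV : IsAffineOpen V) (h : V ≤ O), x ∈ V ∧
        ((𝒮L.deg V hV n : AddSubgroup (𝒮L.presheaf.obj (op V))) : Set (𝒮L.presheaf.obj (op V))) ⊆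
          (Ideal.span {resL 𝒮L h (theta j n O t)} : Set (𝒮L.presheaf.obj (op V))) := by
  constructor
  · rintro ⟨W, hWO, hxW, hW⟩
    obtain ⟨V, hV, e, hxV, hVW, he⟩ := exists_triv hL hxW
    obtain ⟨c, hc⟩ := (TMul.isGen_pw he n V le_rfl).2 (res _ (hVW.trans hWO) t)
    simp only [res_self] at hc
    obtain ⟨d, hd⟩ := (hW V hVW).2 (pw e n)
    simp only [res_res, ← hc, smul_smul] at hd
    have hcd : d * c = 1 := (TMul.isGen_pw he n V le_rfl).1 (by
      simp only [res_self, one_smul]; exact hd)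
    refine ⟨V, hV, hVW.trans hWO, hxV, fun a ha => ?_⟩
    obtain ⟨c', rfl⟩ := exists_coeff hLq hj hV he ha
    rw [SetLike.mem_coe, Ideal.mem_span_singleton, theta_res, ← hc, theta_smul, theta_pw]
    refine ⟨strL 𝒮L V (c' * d), ?_⟩
    rw [map_mul]
    linear_combination (strL 𝒮L V c' * jL j V e ^ n) *
      (((map_mul (strL 𝒮L V) _ _).symm.trans (congrArg (strL 𝒮L V) hcd)).trans (map_one _)).symm
  · rintro ⟨V, hV, hVO, hxV, hs⟩
    obtain ⟨r, e, hxr, he⟩ := exists_triv_basic hL hV hxV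
    have hle : X.basicOpen r ≤ O := (X.basicOpen_le r).trans hVO
    obtain ⟨c, hc⟩ := (TMul.isGen_pw he n _ le_rfl).2 (res _ hle t)
    simp only [res_self] at hc
    have hxc := mem_basicOpen_of_span hLq hj (hV.basicOpen r) he hV (theta j n O t) hVO hle c
      (by rw [theta_res, ← hc, theta_smul, theta_pw]) hxV hxr hs
    refine ⟨X.basicOpen c, (X.basicOpen_le c).trans hle, hxc, ?_⟩
    rw [show res _ ((X.basicOpen_le c).trans hle) t =
      resO X (X.basicOpen_le c) c • res _ (X.basicOpen_le c) (pw e n) by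
        rw [← res_smul, hc, res_res]]
    exact TMul.isGen_smul ((TMul.isGen_pw he n).res _) (RingedSpace.isUnit_res_basicOpen _ c)

section extension

variable {Z : X.Opens} {n : ℕ} (a : 𝒮L.presheaf.obj (op Z))
  (ha : ∀ (V : X.Opens) (hV : IsAffineOpen V) (h : V ≤ Z), resL 𝒮L h a ∈ 𝒮L.deg V hV n)
  {O : X.Opens} (hOZ : O ≤ Z)
  (hO : ∀ x : X, x ∈ O ↔ ∃ (V : X.Opens) (hV : IsAffineOpen V) (h : V ≤ Z), x ∈ V ∧
    ((𝒮L.deg V hV n : AddSubgroup (𝒮L.presheaf.obj (op V))) : Set (𝒮L.presheaf.obj (op V))) ⊆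
      (Ideal.span {resL 𝒮L h a} : Set (𝒮L.presheaf.obj (op V))))

include hL hLq hj ha hO

omit hL ha in
lemma inter_eq_basicOpen {V : X.Opens} (hV : IsAffineOpen V) (hVZ : V ≤ Z) {e : Γ(L, V)}
    (he : IsGen e) {c : Γ(X, V)} (hc : resL 𝒮L hVZ a = strL 𝒮L V c * jL j V e ^ n) :
    V ⊓ O = X.basicOpen c := by
  refine le_antisymm ?_ (le_inf (X.basicOpen_le c) fun x hx => ?_)
  · rintro x ⟨hxV, hxO⟩
    obtain ⟨V', hV', hV'Z, hxV', hs⟩ := (hO x).mp hxO
    exact mem_basicOpen_of_span hLq hj hV he hV' a hV'Z hVZ c hc hxV' hxV hs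
  · have := subset_span_basicOpen hLq hj hV he n c
    rw [← hc, resL_resL] at this
    exact (hO x).mpr ⟨X.basicOpen c, hV.basicOpen c, (X.basicOpen_le c).trans hVZ, hx, this⟩

/-- Triviality data on a finite cover. -/
lemma exists_finite_triv {W : X.Opens} (hW : IsCompact (W : Set X)) (hWZ : W ≤ Z) :
    ∃ (ι : Type u) (_ : Fintype ι) (V : ι → X.Opens) (hV : ∀ i, IsAffineOpen (V i))
      (hle : ∀ i, V i ≤ W) (e : ∀ i, Γ(L, V i)) (c : ∀ i, Γ(X, V i)),
      (∀ x ∈ W, ∃ i, x ∈ V i) ∧ (∀ i, IsGen (e i)) ∧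
      (∀ i, resL 𝒮L ((hle i).trans hWZ) a = strL 𝒮L (V i) (c i) * jL j (V i) (e i) ^ n) ∧
      (∀ i, V i ⊓ O = X.basicOpen (c i)) := by
  choose V hV e hx hle he using fun x : W => exists_triv hL (O := W) (x := x.1) x.2
  obtain ⟨F, hF⟩ := hW.elim_finite_subcover (fun x : W => (V x : Set X)) (fun x => (V x).2)
    (fun x hxW => Set.mem_iUnion.mpr ⟨⟨x, hxW⟩, hx ⟨x, hxW⟩⟩)
  choose c hc using fun x : W => exists_coeff hLq hj (hV x) (he x) (ha _ (hV x) ((hle x).trans hWZ))
  refine ⟨{x // x ∈ F}, inferInstance, fun i => V i.1, fun i => hV i.1, fun i => hle i.1,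
    fun i => e i.1, fun i => c i.1, fun x hxW => ?_, fun i => he i.1, fun i => hc i.1,
    fun i => inter_eq_basicOpen hLq hj a hO (hV i.1) ((hle i.1).trans hWZ) (he i.1) (hc i.1)⟩
  obtain ⟨y, hyF, hxy⟩ := Set.mem_iUnion₂.mp (hF hxW)
  exact ⟨⟨y, hyF⟩, hxy⟩

/-- A section vanishing where `a` generates is killed by a power of `a`. -/
theorem exists_pow_mul_eq_zero {W : X.Opens} (hW : IsCompact (W : Set X)) (hWZ : W ≤ Z)
    (d : 𝒮L.presheaf.obj (op W))
    (hd : resL 𝒮L (inf_le_left : W ⊓ O ≤ W) d = 0) :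
    ∃ k : ℕ, resL 𝒮L hWZ a ^ k * d = 0 := by
  obtain ⟨ι, _, V, hV, hle, e, c, hcov, he, hc, hVO⟩ := exists_finite_triv hL hLq hj a ha hO hW hWZ
  have hk : ∀ i, ∃ k : ℕ, resL 𝒮L (hle i) (resL 𝒮L hWZ a ^ k * d) = 0 := fun i => by
    letI := (𝒮L.presheaf.map (homOfLE (X.basicOpen_le (c i))).op).hom.toAlgebra
    haveI : IsLocalization.Away (strL 𝒮L (V i) (c i)) (𝒮L.presheaf.obj (op (X.basicOpen (c i)))) :=
      𝒮L.isQC (V i) (hV i) (c i)
    have h0 : resL 𝒮L (X.basicOpen_le (c i)) (resL 𝒮L (hle i) d) = 0 := by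
      have hle' : X.basicOpen (c i) ≤ W ⊓ O :=
        (hVO i).ge.trans (inf_le_inf_right O (hle i))
      rw [resL_resL, ← resL_resL hle' inf_le_left, hd, map_zero]
    obtain ⟨⟨_, k, rfl⟩, hk⟩ := (IsLocalization.map_eq_zero_iff
      (Submonoid.powers (strL 𝒮L (V i) (c i))) (𝒮L.presheaf.obj (op (X.basicOpen (c i)))) _).mp h0
    refine ⟨k, ?_⟩
    rw [map_mul, map_pow, resL_resL, hc i, mul_pow, mul_right_comm, hk, zero_mul]
  choose k hk using hk
  refine ⟨Finset.univ.sup k, eq_of_locally fun x hx => ?_⟩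
  obtain ⟨i, hi⟩ := hcov x hx
  refine ⟨V i, hle i, hi, ?_⟩
  obtain ⟨l, hl⟩ := Nat.exists_eq_add_of_le (Finset.le_sup (f := k) (Finset.mem_univ i))
  rw [hl, add_comm, pow_add, mul_assoc, map_mul, hk i, mul_zero, map_zero]

/-- A section over the locus where `a` generates extends after multiplication by a power of `a`. -/
theorem exists_pow_mul_extend (hZ : IsCompact (Z : Set X)) (hqs : IsQuasiSeparated (Z : Set X))
    (d : 𝒮L.presheaf.obj (op O)) :
    ∃ (k : ℕ) (g : 𝒮L.presheaf.obj (op Z)),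
      resL 𝒮L hOZ g = resL 𝒮L hOZ a ^ k * d := by
  classical
  obtain ⟨ι, _, V, hV, hle, e, c, hcov, he, hc, hVO⟩ :=
    exists_finite_triv hL hLq hj a ha hO hZ le_rfl
  have hcO : ∀ i, X.basicOpen (c i) ≤ O := fun i => (hVO i).ge.trans inf_le_right
  have hN : ∀ i, ∃ (N : ℕ) (y : 𝒮L.presheaf.obj (op (V i))),
      resL 𝒮L (X.basicOpen_le (c i)) y =
        resL 𝒮L (hcO i) (resL 𝒮L hOZ a ^ N * d) := fun i => by
    letI := (𝒮L.presheaf.map (homOfLE (X.basicOpen_le (c i))).op).hom.toAlgebra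
    haveI : IsLocalization.Away (strL 𝒮L (V i) (c i)) (𝒮L.presheaf.obj (op (X.basicOpen (c i)))) :=
      𝒮L.isQC (V i) (hV i) (c i)
    obtain ⟨N, y, hy⟩ := IsLocalization.Away.surj (strL 𝒮L (V i) (c i)) (resL 𝒮L (hcO i) d)
    refine ⟨N, y * (jL j (V i) (e i) ^ n) ^ N, ?_⟩
    have h2 : resL 𝒮L (X.basicOpen_le (c i)) y =
        resL 𝒮L (hcO i) d * resL 𝒮L (X.basicOpen_le (c i)) (strL 𝒮L (V i) (c i)) ^ N := hy.symm
    rw [map_mul, h2, map_mul (resL 𝒮L (hcO i)), map_pow (resL 𝒮L (hcO i)), resL_resL,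
      ← resL_resL (X.basicOpen_le (c i)) (hle i), hc i, map_mul, mul_pow, map_pow, map_pow]
    ring
  choose N y hy using hN
  let M := Finset.univ.sup N
  let b : ∀ i, 𝒮L.presheaf.obj (op (V i)) := fun i => resL 𝒮L (hle i) a ^ (M - N i) * y i
  have hb : ∀ i, resL 𝒮L (X.basicOpen_le (c i)) (b i) =
      resL 𝒮L (hcO i) (resL 𝒮L hOZ a ^ M * d) := fun i => by
    rw [map_mul, map_pow, hy i, map_mul (resL 𝒮L (hcO i)), map_pow (resL 𝒮L (hcO i)), resL_resL,
      resL_resL, ← mul_assoc, ← pow_add,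
      Nat.sub_add_cancel (Finset.le_sup (f := N) (Finset.mem_univ i)), map_mul, map_pow, resL_resL]
  have hpair : ∀ i l, ∃ k : ℕ, resL 𝒮L ((inf_le_left : V i ⊓ V l ≤ V i).trans (hle i)) a ^ k *
      (resL 𝒮L inf_le_left (b i) - resL 𝒮L inf_le_right (b l)) = 0 := fun i l => by
    refine exists_pow_mul_eq_zero hL hLq hj a ha hO
      (hqs (V i : Set X) (V l : Set X) (hle i) (V i).2 (hV i).isCompact (hle l) (V l).2
        (hV l).isCompact) ((inf_le_left : V i ⊓ V l ≤ V i).trans (hle i)) _ ?_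
    have h1 : V i ⊓ V l ⊓ O ≤ X.basicOpen (c i) :=
      (inf_le_inf_right O inf_le_left).trans (hVO i).le
    have h2 : V i ⊓ V l ⊓ O ≤ X.basicOpen (c l) :=
      (inf_le_inf_right O inf_le_right).trans (hVO l).le
    rw [map_sub, sub_eq_zero, resL_resL, resL_resL, ← resL_resL h1 (X.basicOpen_le (c i)),
      ← resL_resL h2 (X.basicOpen_le (c l)), hb i, hb l, resL_resL, resL_resL]
  choose k hk using hpair
  let K := Finset.univ.sup fun i => Finset.univ.sup fun l => k i l
  let 𝔉 : TopCat.Sheaf CommRingCat.{u} X.carrier := ⟨𝒮L.presheaf, 𝒮L.isSheaf⟩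
  obtain ⟨g, hg, -⟩ := TopCat.Sheaf.existsUnique_gluing' 𝔉 V Z (fun i => homOfLE (hle i))
    (fun x hx => Opens.mem_iSup.mpr (hcov x hx)) (fun i => resL 𝒮L (hle i) a ^ K * b i)
    (fun i l => by
      change resL 𝒮L inf_le_left (resL 𝒮L (hle i) a ^ K * b i) =
        resL 𝒮L inf_le_right (resL 𝒮L (hle l) a ^ K * b l)
      obtain ⟨m, hm⟩ := Nat.exists_eq_add_of_le
        (show k i l ≤ K from (Finset.le_sup (f := fun l => k i l) (Finset.mem_univ l)).trans
          (Finset.le_sup (f := fun i => Finset.univ.sup fun l => k i l) (Finset.mem_univ i)))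
      simp only [map_mul, map_pow, resL_resL]
      rw [hm, pow_add]
      linear_combination (resL 𝒮L ((inf_le_left : V i ⊓ V l ≤ V i).trans (hle i)) a ^ m) * hk i l)
  refine ⟨K + M, g, eq_of_locally fun x hx => ?_⟩
  obtain ⟨i, hi⟩ := hcov x (hOZ hx)
  refine ⟨X.basicOpen (c i), hcO i, (hVO i).le ⟨hi, hx⟩, ?_⟩
  have hgi : resL 𝒮L (hle i) g = resL 𝒮L (hle i) a ^ K * b i := hg i
  rw [resL_resL, ← resL_resL (X.basicOpen_le (c i)) (hle i), hgi, map_mul, hb i, map_pow, resL_resL,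
    map_mul, map_pow, resL_resL, map_mul, map_pow, resL_resL, pow_add, mul_assoc]

end extension

end Groth.Agent.SymAlg
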