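import Groth.Agent.SymAlg.VAmpleBC
import Groth.Prelude.Def_RelProj2

/-!
Formal operations on relatively very ample modules.
-/

set_option autoImplicit false
set_option backward.isDefEq.respectTransparency false
set_option linter.style.haveILetI false

universe u

open CategoryTheory CategoryTheory.Limits AlgebraicGeometry TopologicalSpace Opposite

noncomputable section

namespace Groth.Agent.SymAlg

variable {X X' Y Z : Scheme.{u}}

lemma isRelVeryAmple_of_iso {f : X ⟶ Y} {L L' : X.Modules} (e : L' ≅ L) (h : RelProj.IsRelVeryAmple f L) :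
    RelProj.IsRelVeryAmple f L' := by
  obtain ⟨E, hE, 𝒮, j, hj, P, p, chart, hP, O1, lam, hO1, i, hi, hip, ⟨d⟩⟩ := h
  exact ⟨E, hE, 𝒮, j, hj, P, p, chart, hP, O1, lam, hO1, i, hi, hip, ⟨e ≪≫ d⟩⟩

lemma isRelVeryAmple_comp_immersion {f : X ⟶ Y} {L : X.Modules} (s : X' ⟶ X) [IsImmersion s]
    (h : RelProj.IsRelVeryAmple f L) :
    RelProj.IsRelVeryAmple (s ≫ f) ((Scheme.Modules.pullback s).obj L) := by
  obtain ⟨E, hE, 𝒮, j, hj, P, p, chart, hP, O1, lam, hO1, i, hi, hip, ⟨d⟩⟩ := h
  haveI := hi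
  exact ⟨E, hE, 𝒮, j, hj, P, p, chart, hP, O1, lam, hO1, s ≫ i, inferInstance,
    by rw [Category.assoc, hip],
    ⟨(Scheme.Modules.pullback s).mapIso d ≪≫ (Scheme.Modules.pullbackComp s i).app O1⟩⟩

/-- Very ample for a composite gives very ample for the first factor. -/
theorem isRelVeryAmple_of_comp (f : X ⟶ Y) (g : Y ⟶ Z) {L : X.Modules}
    (h : RelProj.IsRelVeryAmple (f ≫ g) L) : RelProj.IsRelVeryAmple f L := by
  have h1 := isRelVeryAmple_baseChange g (IsPullback.of_hasPullback (f ≫ g) g) h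
  let s : X ⟶ pullback (f ≫ g) g := pullback.lift (𝟙 X) f (by simp)
  have hs : s ≫ pullback.fst (f ≫ g) g = 𝟙 X := pullback.lift_fst _ _ _
  haveI : IsImmersion (s ≫ pullback.fst (f ≫ g) g) := by rw [hs]; infer_instance
  haveI : IsImmersion s := IsImmersion.of_comp s (pullback.fst (f ≫ g) g)
  have h2 := isRelVeryAmple_comp_immersion s h1
  rw [show s ≫ pullback.snd (f ≫ g) g = f from pullback.lift_snd _ _ _] at h2
  exact isRelVeryAmple_of_iso (((Scheme.Modules.pullbackId X).app L).symm ≪≫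
    (Scheme.Modules.pullbackCongr hs.symm).app L ≪≫
    ((Scheme.Modules.pullbackComp s (pullback.fst (f ≫ g) g)).app L).symm) h2

/-- Very ampleness restricts over opens of the base. -/
theorem isRelVeryAmple_restrict {f : X ⟶ Y} {L : X.Modules} (h : RelProj.IsRelVeryAmple f L)
    (U : Y.Opens) : RelProj.IsRelVeryAmple (f ∣_ U) (L.restrict (f ⁻¹ᵁ U).ι) :=
  isRelVeryAmple_of_iso ((Scheme.Modules.restrictFunctorIsoPullback (f ⁻¹ᵁ U).ι).app L)
    (isRelVeryAmple_baseChange U.ι (isPullback_morphismRestrict f U).flip h)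

end Groth.Agent.SymAlg
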