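import Groth.Agent.SymAlg.CanonImm
import Groth.Agent.SymAlg.VAmpleOps
import Groth.Agent.QC.Localisation
import Groth.Agent.TMul.AmpleBasis

/-!
Relative very ampleness is local on the base.
-/

set_option autoImplicit false
set_option backward.isDefEq.respectTransparency false
set_option linter.style.haveILetI false

universe u

open CategoryTheory CategoryTheory.Limits AlgebraicGeometry TopologicalSpace Opposite

noncomputable section

namespace Groth.Agent.SymAlg

variable {X Y : Scheme.{u}}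

lemma isSeparated_of_isRelVeryAmple {f : X ⟶ Y} {L : X.Modules} (h : RelProj.IsRelVeryAmple f L) :
    IsSeparated f := by
  obtain ⟨E, hE, 𝒮, j, hj, P, p, chart, hP, O1, lam, hO1, i, hi, hip, -⟩ := h
  haveI := hi
  haveI := RelProjLib.isSeparated_p hP
  rw [← hip]
  infer_instance

set_option maxHeartbeats 1600000 in
/-- Very ampleness from very ampleness over a cover by affine opens of the base. -/
theorem isRelVeryAmple_of_local (q : X ⟶ Y) [QuasiCompact q] {L : X.Modules} (hL : PicF.IsInvertible L)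
    (h : ∀ y : Y, ∃ V : Y.Opens, y ∈ V ∧ IsAffineOpen V ∧
      RelProj.IsRelVeryAmple (q ∣_ V) (L.restrict (q ⁻¹ᵁ V).ι)) :
    RelProj.IsRelVeryAmple q L := by
  choose V hyV hV hva using h
  haveI : IsSeparated q := by
    refine (IsZariskiLocalAtTarget.iff_of_iSup_eq_top (P := @IsSeparated) V ?_).mpr fun y =>
      isSeparated_of_isRelVeryAmple (hva y)
    exact eq_top_iff.mpr fun y _ => Opens.mem_iSup.mpr ⟨y, hyV y⟩
  have hLq : Coh.IsQCoh L := TMul.isQCoh_of_isInvertible hL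
  haveI : L.IsQuasicoherent := hLq
  have hF : Coh.IsQCoh ((Scheme.Modules.pushforward q).obj L) := QC.isQCoh_pushforward q
  obtain ⟨𝒮, jF, hjF⟩ := exists_isGrSymAlg hF
  obtain ⟨𝒮L, jl, hjl⟩ := exists_isGrSymAlg hLq
  obtain ⟨u, hu⟩ := exists_canon hF hjF hjl
  obtain ⟨P, p, ch, hP⟩ := RelProjLib.exists_isRelProj 𝒮
  obtain ⟨PL, pL, chartL, hPL⟩ := RelProjLib.exists_isRelProj 𝒮L
  obtain ⟨r, hr, -⟩ := RelProjLib.existsUnique_qmap u hP hPL
  haveI := isIso_pL hL hLq hjl hPL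
  choose n a hn ha hxNV hO hsurj using fun x : X =>
    exists_local_data hL hLq hjF hjl hu (hV (q.base x)) (hva (q.base x)) x (hyV (q.base x))
  have hNV : ∀ z : PL, ∃ W : X.affineOpens, pL z ∈ W.1 ∧
      Rel.Nonvanishing u (hV (q.base (pL z))) (n (pL z)) (a (pL z)) W := fun z => by
    obtain ⟨⟨W, hW⟩, hzW⟩ := Opens.mem_iSup.mp (hxNV (pL z))
    exact ⟨W, hzW, hW⟩
  have htop : RelProj.domQ u pL chartL = ⊤ := top_le_iff.mp fun z _ => by
    obtain ⟨W, hzW, hW⟩ := hNV z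
    exact (Rel.mem_domQ_of_nonvanishing hL hLq hjl u hPL (hV _) (hn _) (ha _) hW hzW).1
  haveI : IsIso (RelProj.domQ u pL chartL).ι := by
    rw [htop]; exact (Scheme.topIso PL).isIso_hom
  let D : X → P.Opens := fun x => Rel.DPlus p ch (hV (q.base x)) (a x)
  have hclosed : ∀ x, IsClosedImmersion (r ∣_ D x) := fun x =>
    (Rel.isClosedImmersion_restrict_iff hL hLq hjl u hPL hr (hV (q.base x)) hP (hn x) (ha x) (hO x)
      (NV_le u (hV (q.base x)) (n x) (a x)) rfl).mpr (hsurj x)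
  have hpre : r ⁻¹ᵁ (⨆ x, D x) = ⊤ := top_le_iff.mp fun w _ => by
    obtain ⟨W, hzW, hW⟩ := hNV ((RelProj.domQ u pL chartL).ι w)
    obtain ⟨w', hw', e⟩ := (Rel.mem_preimage_basicOpen_iff hL hLq hjl u hPL hr (hV _) hP (hn _) (ha _)
      _).mpr ⟨W, hzW, hW⟩
    obtain rfl := (RelProj.domQ u pL chartL).ι.isOpenEmbedding.injective e
    exact Opens.mem_iSup.mpr ⟨_, hw'⟩
  haveI : IsImmersion r := by
    obtain ⟨e, he⟩ := eq_comp_restrict r hpre
    haveI : IsClosedImmersion (r ∣_ ⨆ x, D x) := prop_restrict_iSup r @IsClosedImmersion D hclosed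
    rw [he]
    infer_instance
  have hcov : ∀ x : X, ∃ c : GenPair q L, x ∈ c.U' := fun x =>
    exists_genPair hL (hV (q.base x)) (hva (q.base x)) x (hyV (q.base x))
  obtain ⟨O1, lam, hO1⟩ := (RelTilde.Datum.self 𝒮).exists_isTilde hP (1 : ℤ)
  obtain ⟨d⟩ := nonempty_pullback_twist_iso hL hLq hF hjF hjl hu hP hPL hr hcov htop hO1
  refine ⟨_, hF, 𝒮, jF, hjF, P, p, ch, hP, O1, lam, (RelTilde.isRelTwist_iff 𝒮 1 O1 lam).mpr hO1,
    inv pL ≫ inv (RelProj.domQ u pL chartL).ι ≫ r, inferInstance, ?_, ⟨d⟩⟩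
  rw [Category.assoc, Category.assoc, RelProjLib.qmap_over u hP hPL hr, IsIso.inv_hom_id_assoc,
    IsIso.inv_hom_id_assoc]

/-- Very ampleness passes to smaller opens of the base. -/
theorem isRelVeryAmple_restrict_le {q : X ⟶ Y} {L : X.Modules} {U V : Y.Opens} (hVU : V ≤ U)
    (h : RelProj.IsRelVeryAmple (q ∣_ U) (L.restrict (q ⁻¹ᵁ U).ι)) :
    RelProj.IsRelVeryAmple (q ∣_ V) (L.restrict (q ⁻¹ᵁ V).ι) := by
  have sq : IsPullback (X.homOfLE (q.preimage_mono hVU)) (q ∣_ V) (q ∣_ U) (Y.homOfLE hVU) := by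
    refine IsPullback.of_right (h₁₂ := (q ⁻¹ᵁ U).ι) (h₂₂ := U.ι) (v₁₃ := q) ?_ ?_
      (isPullback_morphismRestrict q U).flip
    · simpa using (isPullback_morphismRestrict q V).flip
    · rw [← cancel_mono U.ι, Category.assoc, Category.assoc, Scheme.homOfLE_ι, morphismRestrict_ι,
        morphismRestrict_ι, Scheme.homOfLE_ι_assoc]
  refine isRelVeryAmple_of_iso ?_ (isRelVeryAmple_baseChange (Y.homOfLE hVU) sq h)
  exact (Scheme.Modules.restrictFunctorIsoPullback (q ⁻¹ᵁ V).ι).app L ≪≫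
    (Scheme.Modules.pullbackCongr (X.homOfLE_ι (q.preimage_mono hVU)).symm).app L ≪≫
    ((Scheme.Modules.pullbackComp (X.homOfLE (q.preimage_mono hVU)) (q ⁻¹ᵁ U).ι).app L).symm ≪≫
    ((Scheme.Modules.pullback (X.homOfLE (q.preimage_mono hVU))).mapIso
      ((Scheme.Modules.restrictFunctorIsoPullback (q ⁻¹ᵁ U).ι).app L)).symm

end Groth.Agent.SymAlg
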