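import Groth.Agent.SymAlg.RLImmData
import Groth.Agent.SymAlg.VAmple
import Groth.Agent.SymAlg.VAmpleLocal
import Groth.Agent.QC.FTIdeal
import Groth.Agent.SymAlg.PowSym

/-!
Reduction of `r_{L,φ}` to finite type submodules.
-/

set_option autoImplicit false
set_option backward.isDefEq.respectTransparency false
set_option linter.style.haveILetI false

universe u

open CategoryTheory CategoryTheory.Limits AlgebraicGeometry TopologicalSpace Opposite
open scoped HomogeneousIdeal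
open Groth.Agent.QC (res resO res_res res_self res_smul app_res Sub LocFinGen GenOn genSub)

noncomputable section

namespace Groth.Agent.SymAlg

open Groth.Agent

section SubSup

variable {Y : Scheme.{u}} {F : Y.Modules}

/-- The sum of two subsheaves. -/
def subSup (S T : Sub F) : Sub F where
  obj O :=
    { carrier := {s | ∀ x ∈ O, ∃ (W : Y.Opens) (h : W ≤ O), x ∈ W ∧ res F h s ∈ S.obj W ⊔ T.obj W}
      zero_mem' := fun x hx => ⟨O, le_rfl, hx, by rw [map_zero]; exact zero_mem _⟩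
      add_mem' := fun {a b} ha hb x hx => by
        obtain ⟨W, h, hxW, ha⟩ := ha x hx
        obtain ⟨V, g, hxV, hb⟩ := hb x hx
        refine ⟨W ⊓ V, inf_le_left.trans h, ⟨hxW, hxV⟩, ?_⟩
        obtain ⟨a₁, h1, a₂, h2, ea⟩ := Submodule.mem_sup.mp ha
        obtain ⟨b₁, k1, b₂, k2, eb⟩ := Submodule.mem_sup.mp hb
        rw [map_add, ← res_res F (inf_le_left : W ⊓ V ≤ W) h a,
          ← res_res F (inf_le_right : W ⊓ V ≤ V) g b, ← ea, ← eb, map_add, map_add]
        refine add_mem (add_mem (Submodule.mem_sup_left (S.res_mem _ h1)) (Submodule.mem_sup_right (T.res_mem _ h2)))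
          (add_mem (Submodule.mem_sup_left (S.res_mem _ k1)) (Submodule.mem_sup_right (T.res_mem _ k2)))
      smul_mem' := fun c a ha x hx => by
        obtain ⟨W, h, hxW, ha⟩ := ha x hx
        exact ⟨W, h, hxW, by rw [res_smul]; exact Submodule.smul_mem _ _ ha⟩ }
  res_mem := fun {O' O} hO {s} hs x hx => by
    obtain ⟨W, h, hxW, hs⟩ := hs x (hO hx)
    refine ⟨W ⊓ O', inf_le_right, ⟨hxW, hx⟩, ?_⟩
    obtain ⟨a₁, h1, a₂, h2, ea⟩ := Submodule.mem_sup.mp hs
    rw [res_res, ← res_res F (inf_le_left : W ⊓ O' ≤ W) h s, ← ea, map_add]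
    exact add_mem (Submodule.mem_sup_left (S.res_mem _ h1)) (Submodule.mem_sup_right (T.res_mem _ h2))
  local' := fun {O} s hs x hx => by
    obtain ⟨W, h, hxW, hs⟩ := hs x hx
    obtain ⟨W', h', hxW', hs'⟩ := hs x hxW
    rw [res_res] at hs'
    exact ⟨W', h'.trans h, hxW', hs'⟩

lemma mem_subSup_left {S T : Sub F} {O : Y.Opens} {s : Γ(F, O)} (hs : s ∈ S.obj O) :
    s ∈ (subSup S T).obj O :=
  fun _ hx => ⟨O, le_rfl, hx, by rw [res_self]; exact Submodule.mem_sup_left hs⟩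

lemma mem_subSup_right {S T : Sub F} {O : Y.Opens} {s : Γ(F, O)} (hs : s ∈ T.obj O) :
    s ∈ (subSup S T).obj O :=
  fun _ hx => ⟨O, le_rfl, hx, by rw [res_self]; exact Submodule.mem_sup_right hs⟩

lemma locFinGen_subSup {S T : Sub F} (hS : LocFinGen S ⊤) (hT : LocFinGen T ⊤) :
    LocFinGen (subSup S T) ⊤ := by
  classical
  intro x hx
  obtain ⟨D, hD, hxD, -, A, hA⟩ := hS x hx
  obtain ⟨D', hD', hxD', -, B, hB⟩ := hT x hx
  obtain ⟨E, hE, hxE, hEle⟩ := exists_isAffineOpen_mem_and_subset (U := D ⊓ D') (x := x) ⟨hxD, hxD'⟩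
  have h₁ : E ≤ D := fun y hy => (hEle hy).1
  have h₂ : E ≤ D' := fun y hy => (hEle hy).2
  have hA' := hA.mono h₁
  have hB' := hB.mono h₂
  refine ⟨E, hE, hxE, le_top, A.image (res F h₁) ∪ B.image (res F h₂), ⟨fun t ht => ?_, fun O hO s hs y hy _ => ?_⟩⟩
  · rw [Finset.coe_union, Finset.coe_image, Finset.coe_image] at ht
    rcases ht with ht | ht
    · exact mem_subSup_left (hA'.mem t ht)
    · exact mem_subSup_right (hB'.mem t ht)
  · obtain ⟨W, hW, hyW, hs⟩ := hs y hy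
    obtain ⟨a, ha, b, hb, e⟩ := Submodule.mem_sup.mp hs
    obtain ⟨W₁, g₁, g₁', hy₁, ha'⟩ := hA'.le W (hW.trans hO) ha y hyW (hO hy)
    obtain ⟨W₂, g₂, g₂', hy₂, hb'⟩ := hB'.le W (hW.trans hO) hb y hyW (hO hy)
    refine ⟨W₁ ⊓ W₂, inf_le_left.trans (g₁.trans hW), inf_le_left.trans g₁', ⟨hy₁, hy₂⟩, ?_⟩
    rw [← res_res F ((inf_le_left : W₁ ⊓ W₂ ≤ W₁).trans g₁) hW s, ← e, map_add]
    refine add_mem ?_ ?_
    · rw [← res_res F (inf_le_left : W₁ ⊓ W₂ ≤ W₁) g₁]
      refine Submodule.span_mono ?_ (QC.res_mem_span _ ha')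
      rw [QC.image_res_res, Finset.coe_union, Finset.coe_image, Finset.coe_image]
      exact Set.image_mono Set.subset_union_left
    · rw [← res_res F (inf_le_right : W₁ ⊓ W₂ ≤ W₂) g₂]
      refine Submodule.span_mono ?_ (QC.res_mem_span _ hb')
      rw [QC.image_res_res, Finset.coe_union, Finset.coe_image, Finset.coe_image]
      exact Set.image_mono Set.subset_union_right

/-- A finite type subsheaf containing finitely many given sections. -/
theorem exists_ft_containing [CompactSpace Y] [QuasiSeparatedSpace Y] [F.IsQuasicoherent]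
    {κ : Type u} [Finite κ] (V : κ → Y.affineOpens) (s : ∀ b, Γ(F, (V b).1)) :
    ∃ S : Sub F, LocFinGen S ⊤ ∧ ∀ b, s b ∈ S.obj (V b).1 := by
  classical
  haveI := Fintype.ofFinite κ
  have hzero : ∃ S : Sub F, LocFinGen S ⊤ := by
    obtain ⟨S, hS, -⟩ := QC.exists_extend_qcqs (genSub (∅ : Set Γ(F, (⊥ : Y.Opens)))) (W := ⊥)
      (fun x hx => hx.elim) (by rw [Opens.coe_bot]; exact isCompact_empty)
    exact ⟨S, hS⟩
  suffices h : ∀ t : Finset κ, ∃ S : Sub F, LocFinGen S ⊤ ∧ ∀ b ∈ t, s b ∈ S.obj (V b).1 by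
    obtain ⟨S, hS, h⟩ := h Finset.univ
    exact ⟨S, hS, fun b => h b (Finset.mem_univ b)⟩
  intro t
  induction t using Finset.induction_on with
  | empty => exact hzero.imp fun S hS => ⟨hS, by simp⟩
  | insert b t _ ih =>
    obtain ⟨S, hS, h⟩ := ih
    have hgen : LocFinGen (genSub ({s b} : Set Γ(F, (V b).1))) (V b).1 := fun x hx =>
      ⟨(V b).1, (V b).2, hx, le_rfl, {s b},
        ⟨fun t ht => QC.mem_genSub_of_mem (by simpa using ht), fun O _ => by rw [Finset.coe_singleton]⟩⟩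
    obtain ⟨T, hT, hTV⟩ := QC.exists_extend_qcqs _ hgen (V b).2.isCompact
    refine ⟨subSup S T, locFinGen_subSup hS hT, fun c hc => ?_⟩
    rcases Finset.mem_insert.mp hc with rfl | hc
    · refine mem_subSup_right ?_
      rw [hTV _ le_rfl]
      exact QC.mem_genSub_of_mem rfl
    · exact mem_subSup_left (h c hc)

end SubSup

section Comp

variable {X Y : Scheme.{u}} {q : X ⟶ Y} {𝒯 𝒮 : RelProj.QCGrAlg Y} {ℬ : RelProj.QCGrAlg X}
  (v : 𝒯.toQCAlg ⟶ 𝒮.toQCAlg) (hv : RelProj.IsGradedHom v) (u : RelProj.QGrHom q 𝒮 ℬ)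

/-- The composite of a graded homomorphism and a graded `q`-morphism. -/
def compQ : RelProj.QGrHom q 𝒯 ℬ where
  app U := v.hom.app (op U) ≫ u.app U
  naturality {U V} i := by
    rw [Category.assoc, u.naturality i, ← Category.assoc, ← v.hom.naturality, Category.assoc]
  str_app U := by
    rw [← Category.assoc, ← NatTrans.comp_app, v.comm]
    exact u.str_app U
  map_mem U hU U' hU' hle {d x} hx := u.map_mem U hU U' hU' hle (hv U hU d x hx)

lemma compQ_app (U : Y.Opens) : (compQ v hv u).app U = v.hom.app (op U) ≫ u.app U := rfl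

end Comp

section Gen

variable {Y : Scheme.{u}} {F : Y.Modules} {𝒯 : RelProj.QCGrAlg Y} {j : F ⟶ 𝒯.toModule}

/-- An element of a symmetric algebra involves finitely many sections. -/
theorem exists_finset_mem_closure (hj : RelSpec.IsSymAlg F 𝒯.toQCAlg j) [F.IsQuasicoherent]
    {U : Y.Opens} (hU : IsAffineOpen U) (g : 𝒯.presheaf.obj (op U)) :
    ∃ T : Finset Γ(F, U), g ∈ Subring.closure
      (Set.range (SymAlgGen.strS 𝒯.toQCAlg U) ∪ SymAlgGen.jsec j U '' (T : Set Γ(F, U))) := by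
  classical
  have hg : g ∈ Subring.closure
      (Set.range (SymAlgGen.strS 𝒯.toQCAlg U) ∪ Set.range (SymAlgGen.jsec j U)) :=
    (SymAlgGen.gen_eq_top hj hU).ge (Subring.mem_top g)
  induction hg using Subring.closure_induction with
  | mem y hy =>
    rcases hy with hy | ⟨m, rfl⟩
    · exact ⟨∅, Subring.subset_closure (Or.inl hy)⟩
    · exact ⟨{m}, Subring.subset_closure (Or.inr ⟨m, by simp, rfl⟩)⟩
  | zero => exact ⟨∅, zero_mem _⟩
  | one => exact ⟨∅, one_mem _⟩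
  | add a b _ _ ha hb =>
    obtain ⟨T, hT⟩ := ha
    obtain ⟨T', hT'⟩ := hb
    refine ⟨T ∪ T', add_mem (Subring.closure_mono ?_ hT) (Subring.closure_mono ?_ hT')⟩ <;>
      rw [Finset.coe_union, Set.image_union] <;> grind
  | mul a b _ _ ha hb =>
    obtain ⟨T, hT⟩ := ha
    obtain ⟨T', hT'⟩ := hb
    refine ⟨T ∪ T', mul_mem (Subring.closure_mono ?_ hT) (Subring.closure_mono ?_ hT')⟩ <;>
      rw [Finset.coe_union, Set.image_union] <;> grind
  | neg a _ ha => exact ha.imp fun T hT => neg_mem hT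

end Gen

namespace Rel

variable {Y X : Scheme.{u}} {q : X ⟶ Y} {𝒮 : RelProj.QCGrAlg Y} {𝒮L : RelProj.QCGrAlg X}
  {u : RelProj.QGrHom q 𝒮 𝒮L}

/-- Only finitely many sections of the algebra matter for immersion data. -/
theorem ImmData.exists_finite_lift [LocallyOfFiniteType q] (hd : ImmData u) :
    ∃ (κ : Type u) (_ : Finite κ) (V : κ → Y.affineOpens) (g : ∀ b, 𝒮.presheaf.obj (op (V b).1)),
      ∀ (𝒯 : RelProj.QCGrAlg Y) (v : 𝒯.toQCAlg ⟶ 𝒮.toQCAlg) (_ : RelProj.IsGradedHom v)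
        (u' : RelProj.QGrHom q 𝒯 𝒮L) (_ : ∀ U : Y.Opens, u'.app U = v.hom.app (op U) ≫ u.app U),
        (∀ b, ∃ y, (v.hom.app (op (V b).1)).hom y = g b) → ImmData u' := by
  obtain ⟨ι, hι, U, n, f, hnf, hcov, hA⟩ := hd
  choose G hG using fun a => condSet_eq_univ_of_generators (U a).2 (hnf a).2 (NV_le u _ _ _) (hA a).1
  choose m hm s hs he using fun (a : ι) (x : {x // x ∈ G a}) => (hA a).2 x.1
  refine ⟨ι ⊕ Σ a, {x // x ∈ G a}, inferInstance, Sum.elim U (fun p => U p.1),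
    fun b => match b with | .inl a => f a | .inr p => s p.1 p.2, ?_⟩
  intro 𝒯 v hv u' hu' hy
  have hl : ∀ a, ∃ y, y ∈ 𝒯.deg (U a).1 (U a).2 (n a) ∧ (v.hom.app (op (U a).1)).hom y = f a := fun a => by
    obtain ⟨y, hy⟩ := hy (.inl a)
    exact exists_homogeneous_lift v hv (U a).2 (hnf a).2 y hy
  have hl2 : ∀ a (x : {x // x ∈ G a}), ∃ y, y ∈ 𝒯.deg (U a).1 (U a).2 (m a x * n a) ∧
      (v.hom.app (op (U a).1)).hom y = s a x := fun a x => by
    obtain ⟨y, hy⟩ := hy (.inr ⟨a, x⟩)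
    exact exists_homogeneous_lift v hv (U a).2 (hs a x) y hy
  choose ya hya hyf using hl
  choose yw hyw hys using hl2
  refine ⟨ι, hι, U, n, ya, fun a => ⟨(hnf a).1, hya a⟩, fun x => ?_, fun a => ?_⟩
  · obtain ⟨a, ha⟩ := hcov x
    refine ⟨a, ?_⟩
    rw [NV_map u v u' hu', hyf]
    exact ha
  · have e : NV u (U a).2 (n a) (f a) = NV u' (U a).2 (n a) (ya a) := by
      rw [NV_map u v u' hu', hyf]
    refine ⟨e ▸ (hA a).1, condSet_congr_all u' (U a).2 _ _ e (NV_le u _ _ _) _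
      (hG a u' _ (hya a) fun x hx => ?_)⟩
    refine ⟨m a ⟨x, hx⟩, hm a ⟨x, hx⟩, _, hyw a ⟨x, hx⟩, ?_⟩
    rw [appLE_map u v u' hu', appLE_map u v u' hu', hyf, hys]
    exact he a ⟨x, hx⟩

end Rel

section Reduce

variable {Y X PL : Scheme.{u}} {q : X ⟶ Y} {F : Y.Modules} {𝒯 : RelProj.QCGrAlg Y}
  {jF : F ⟶ 𝒯.toModule} {𝒮L : RelProj.QCGrAlg X}

/-- A finite type submodule keeping immersion data and containing given sections. -/
theorem exists_ft_reduction [CompactSpace Y] [QuasiSeparatedSpace Y] [LocallyOfFiniteType q]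
    (hFq : Coh.IsQCoh F) (hj : RelProj.IsGrSymAlg F 𝒯 jF) (u : RelProj.QGrHom q 𝒯 𝒮L)
    (hd : Rel.ImmData u) {κ : Type u} [Finite κ] (V₀ : κ → Y.affineOpens) (s₀ : ∀ b, Γ(F, (V₀ b).1)) :
    ∃ (E : Y.Modules) (_ : Coh.IsQCoh E) (_ : CohB1.IsFT E) (ι : E ⟶ F)
      (_ : ∀ U : Y.Opens, Function.Injective (ι.app U))
      (_ : ∀ b, s₀ b ∈ Set.range (ι.app (V₀ b).1))
      (𝒯' : RelProj.QCGrAlg Y) (jE : E ⟶ 𝒯'.toModule) (_ : RelProj.IsGrSymAlg E 𝒯' jE)
      (u' : RelProj.QGrHom q 𝒯' 𝒮L)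
      (_ : ∀ (U : Y.Opens) (x : Γ(E, U)), (u'.app U).hom ((jE.app U) x) = (u.app U).hom ((jF.app U) ((ι.app U) x))),
      Rel.ImmData u' := by
  classical
  haveI : F.IsQuasicoherent := hFq
  obtain ⟨κ', hκ', V, g, hg⟩ := hd.exists_finite_lift
  choose T hT using fun b => exists_finset_mem_closure hj.1 (V b).2 (g b)
  obtain ⟨S, hS, hmem⟩ := exists_ft_containing (F := F)
    (κ := κ ⊕ Σ b, {t // t ∈ T b}) (Sum.elim V₀ (fun p => V p.1))
    (fun c => match c with | .inl b => s₀ b | .inr p => p.2.1)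
  obtain ⟨hEq, hEft⟩ := QC.Sub.isCoh_toModules hS
  obtain ⟨𝒯', jE, hjE⟩ := exists_isGrSymAlg hEq
  obtain ⟨v, hv, hvj⟩ := exists_gradedHom hEq hjE (S.ι ≫ jF) fun U hU x => hj.2 U hU (S.ι.app U x)
  refine ⟨S.toModules, hEq, hEft, S.ι, S.ι_app_injective, fun b => (S.range_ι_app _ _).mpr (hmem (.inl b)),
    𝒯', jE, hjE, compQ v hv u, fun U x => ?_, hg 𝒯' v hv _ (compQ_app v hv u) fun b => ?_⟩
  · rw [compQ_app]
    exact congrArg (u.app U).hom (congr(($hvj).app U x))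
  · let f := (v.hom.app (op (V b).1)).hom
    have hle : Subring.closure (Set.range (SymAlgGen.strS 𝒯.toQCAlg (V b).1) ∪
        SymAlgGen.jsec jF (V b).1 '' (T b : Set Γ(F, (V b).1))) ≤ f.range := by
      refine Subring.closure_le.mpr ?_
      rintro _ (⟨r, rfl⟩ | ⟨t, ht, rfl⟩)
      · exact ⟨(𝒯'.str.app (op (V b).1)).hom r, congr($(NatTrans.congr_app v.comm (op (V b).1)) r)⟩
      · obtain ⟨x, hx⟩ := (S.range_ι_app _ _).mpr (hmem (.inr ⟨b, t, ht⟩))
        refine ⟨jE.app (V b).1 x, ?_⟩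
        refine (congr(($hvj).app (V b).1 x)).trans ?_
        exact congrArg (jF.app (V b).1) hx
    exact hle (hT b)

end Reduce

section BaseLocal

variable {Y X : Scheme.{u}} {q : X ⟶ Y}

lemma qApp_res {𝒯 : RelProj.QCGrAlg Y} {ℬ : RelProj.QCGrAlg X} (u : RelProj.QGrHom q 𝒯 ℬ)
    {V U : Y.Opens} (h : V ≤ U) (a : 𝒯.presheaf.obj (op U)) :
    resL ℬ (q.preimage_mono h) ((u.app U).hom a) =
      (u.app V).hom ((𝒯.presheaf.map (homOfLE h).op).hom a) :=
  congr(($(u.naturality h)).hom a)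

/-- Sections over inverse images are determined over the affine opens of the base. -/
theorem eq_of_affine_base (ℬ : RelProj.QCGrAlg X) {U : Y.Opens} {a b : ℬ.presheaf.obj (op (q ⁻¹ᵁ U))}
    (h : ∀ (V : Y.Opens), IsAffineOpen V → ∀ hV : V ≤ U,
      resL ℬ (q.preimage_mono hV) a = resL ℬ (q.preimage_mono hV) b) : a = b :=
  eq_of_locally fun x hx => by
    obtain ⟨V, hV, hxV, hle⟩ := exists_isAffineOpen_mem_and_subset (U := U) (x := q x) hx
    exact ⟨q ⁻¹ᵁ V, q.preimage_mono hle, hxV, h V hV hle⟩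

variable {E : Y.Modules} {𝒯' 𝒯 : RelProj.QCGrAlg Y} {jE : E ⟶ 𝒯'.toModule} {𝒮L : RelProj.QCGrAlg X}

/-- A `q`-morphism out of a symmetric algebra is determined by its values on the module. -/
theorem app_eq_compQ (hjE : RelSpec.IsSymAlg E 𝒯'.toQCAlg jE) [E.IsQuasicoherent]
    (v : 𝒯'.toQCAlg ⟶ 𝒯.toQCAlg) (u' : RelProj.QGrHom q 𝒯' 𝒮L) (u : RelProj.QGrHom q 𝒯 𝒮L)
    (h : ∀ (U : Y.Opens) (x : Γ(E, U)),
      (u'.app U).hom ((jE.app U) x) = (u.app U).hom ((v.hom.app (op U)).hom ((jE.app U) x)))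
    (U : Y.Opens) : u'.app U = v.hom.app (op U) ≫ u.app U := by
  have key : ∀ (V : Y.Opens), IsAffineOpen V → u'.app V = v.hom.app (op V) ≫ u.app V := fun V hV => by
    refine CommRingCat.hom_ext (RingHom.eq_of_eqOn_set_dense (SymAlgGen.gen_eq_top hjE hV) ?_)
    rintro _ (⟨r, rfl⟩ | ⟨m, rfl⟩)
    · have h1 := congr(($(u'.str_app V)).hom r)
      have h2 := congr(($(u.str_app V)).hom r)
      have h3 := congr($(NatTrans.congr_app v.comm (op V)) r)
      refine h1.trans (h2.symm.trans ?_)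
      exact congrArg (u.app V).hom h3.symm
    · exact h V m
  refine CommRingCat.hom_ext (RingHom.ext fun a => eq_of_affine_base 𝒮L fun V hV hle => ?_)
  change resL 𝒮L (q.preimage_mono hle) ((u'.app U).hom a) =
    resL 𝒮L (q.preimage_mono hle) ((u.app U).hom ((v.hom.app (op U)).hom a))
  rw [qApp_res _ hle, qApp_res _ hle, key V hV]
  exact congrArg (u.app V).hom (congr($(v.hom.naturality (homOfLE hle).op) a))

end BaseLocal

section Canon

variable {Y X P PL : Scheme.{u}} {q : X ⟶ Y} {L : X.Modules}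
  {𝒮 : RelProj.QCGrAlg Y} {jF : (Scheme.Modules.pushforward q).obj L ⟶ 𝒮.toModule}
  {𝒮L : RelProj.QCGrAlg X} {jl : L ⟶ 𝒮L.toModule} {u : RelProj.QGrHom q 𝒮 𝒮L}

/-- The canonical morphism on sections over arbitrary opens. -/
theorem isCanon_all (hu : IsCanon jF jl u) (U : Y.Opens) (m : Γ(L, q ⁻¹ᵁ U)) :
    (u.app U).hom (jFs jF U m) = jL jl (q ⁻¹ᵁ U) m :=
  eq_of_affine_base 𝒮L fun V hV hle => by
    rw [qApp_res _ hle, resL_jL, ← hu V hV]
    exact congrArg (u.app V).hom (app_res jF hle _)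

set_option maxHeartbeats 1600000 in
/-- The canonical morphism of a very ample module has immersion data. -/
theorem canon_immData [CompactSpace Y] [QuasiCompact q] (hL : PicF.IsInvertible L) (hLq : Coh.IsQCoh L)
    (hjF : RelProj.IsGrSymAlg ((Scheme.Modules.pushforward q).obj L) 𝒮 jF)
    (hjl : RelProj.IsGrSymAlg L 𝒮L jl) (hu : IsCanon jF jl u)
    (h : RelProj.IsRelVeryAmple q L) : Rel.ImmData u := by
  haveI : CompactSpace X := QuasiCompact.compactSpace_of_compactSpace q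
  have hy : ∀ y : Y, ∃ V : Y.Opens, IsAffineOpen V ∧ y ∈ V := fun y => by
    obtain ⟨V, hV, hyV, -⟩ := exists_isAffineOpen_mem_and_subset (show y ∈ (⊤ : Y.Opens) from trivial)
    exact ⟨V, hV, hyV⟩
  choose V hV hyV using hy
  choose n a hn ha hxNV hO hsurj using fun x : X =>
    exists_local_data hL hLq hjF hjl hu (hV (q.base x)) (isRelVeryAmple_restrict h (V (q.base x))) x (hyV (q.base x))
  obtain ⟨t, ht⟩ := isCompact_univ.elim_finite_subcover
    (fun x => (Rel.NV u (hV (q.base x)) (n x) (a x) : Set X))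
    (fun x => (Rel.NV u (hV (q.base x)) (n x) (a x)).2) (fun x _ => Set.mem_iUnion.2 ⟨x, hxNV x⟩)
  refine ⟨{x : X // x ∈ t}, inferInstance, fun c => ⟨V (q.base c.1), hV _⟩, fun c => n c.1,
    fun c => a c.1, fun c => ⟨hn _, ha _⟩, fun x => ?_, fun c => ⟨hO c.1, hsurj c.1⟩⟩
  obtain ⟨i, hi, hxi⟩ := Set.mem_iUnion₂.1 (ht (Set.mem_univ x))
  exact ⟨⟨i, hi⟩, hxi⟩

set_option maxHeartbeats 1600000 in
/-- A very ample module gives a finite type `E ⊆ q_* L` with `r_{L,φ}` an immersion. -/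
theorem exists_ft_veryAmple [CompactSpace Y] [QuasiSeparatedSpace Y] (q : X ⟶ Y) [QuasiCompact q]
    [LocallyOfFiniteType q] {L : X.Modules} (hL : PicF.IsInvertible L) (hLq : Coh.IsQCoh L)
    {jl : L ⟶ 𝒮L.toModule} (hjl : RelProj.IsGrSymAlg L 𝒮L jl)
    (h : RelProj.IsRelVeryAmple q L) :
    ∃ (E : Y.Modules) (_ : Coh.IsQCoh E) (_ : CohB1.IsFT E) (ι : E ⟶ (Scheme.Modules.pushforward q).obj L)
      (_ : ∀ U : Y.Opens, Function.Injective (ι.app U))
      (𝒯 : RelProj.QCGrAlg Y) (jE : E ⟶ 𝒯.toModule) (_ : RelProj.IsGrSymAlg E 𝒯 jE)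
      (u : RelProj.QGrHom q 𝒯 𝒮L)
      (_ : ∀ (U : Y.Opens) (x : Γ(E, U)), (u.app U).hom ((jE.app U) x) = jL jl (q ⁻¹ᵁ U) ((ι.app U) x)),
      (∀ x : X, ∃ (U : Y.Opens) (hU : IsAffineOpen U) (e : Γ(E, U)) (V : X.Opens) (hV : IsAffineOpen V)
          (hVU : V ≤ q ⁻¹ᵁ U), x ∈ V ∧
            ((𝒮L.deg V hV 1 : AddSubgroup (𝒮L.presheaf.obj (op V))) : Set (𝒮L.presheaf.obj (op V))) ⊆
              (Ideal.span {(u.appLE U V hVU).hom ((jE.app U) e)} : Set (𝒮L.presheaf.obj (op V)))) ∧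
      Rel.ImmData u := by
  classical
  haveI : CompactSpace X := QuasiCompact.compactSpace_of_compactSpace q
  haveI : IsSeparated q := isSeparated_of_isRelVeryAmple h
  haveI : L.IsQuasicoherent := hLq
  have hF : Coh.IsQCoh ((Scheme.Modules.pushforward q).obj L) := QC.isQCoh_pushforward q
  obtain ⟨𝒮, jF, hjF⟩ := exists_isGrSymAlg hF
  obtain ⟨u, hu⟩ := exists_canon hF hjF hjl
  have hd := canon_immData hL hLq hjF hjl hu h
  have hcov : ∀ x : X, ∃ c : GenPair q L, x ∈ c.U' := fun x => by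
    obtain ⟨V, hV, hyV, -⟩ := exists_isAffineOpen_mem_and_subset (show q x ∈ (⊤ : Y.Opens) from trivial)
    exact exists_genPair hL hV (isRelVeryAmple_restrict h V) x hyV
  choose c hc using hcov
  obtain ⟨t, ht⟩ := isCompact_univ.elim_finite_subcover (fun x => ((c x).U' : Set X))
    (fun x => (c x).U'.2) (fun x _ => Set.mem_iUnion.2 ⟨x, hc x⟩)
  obtain ⟨E, hEq, hEft, ι, hι, hs, 𝒯, jE, hjE, u', hu', hd'⟩ :=
    exists_ft_reduction hF hjF u hd (κ := {x : X // x ∈ t}) (fun b => ⟨(c b.1).U, (c b.1).hU⟩)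
      (fun b => (c b.1).m)
  have hu'' : ∀ (U : Y.Opens) (x : Γ(E, U)), (u'.app U).hom ((jE.app U) x) = jL jl (q ⁻¹ᵁ U) ((ι.app U) x) :=
    fun U x => (hu' U x).trans (isCanon_all hu U _)
  refine ⟨E, hEq, hEft, ι, hι, 𝒯, jE, hjE, u', hu'', fun x => ?_, hd'⟩
  obtain ⟨i, hi, hxi⟩ := Set.mem_iUnion₂.1 (ht (Set.mem_univ x))
  obtain ⟨e, he⟩ := hs ⟨i, hi⟩
  refine ⟨(c i).U, (c i).hU, e, (c i).U', (c i).hU', (c i).le, hxi, fun b hb => ?_⟩
  obtain ⟨r, rfl⟩ := exists_coeff hLq hjl (c i).hU' (c i).gen hb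
  rw [SetLike.mem_coe, pow_one, show (u'.appLE (c i).U (c i).U' (c i).le).hom ((jE.app (c i).U) e) =
    jL jl (c i).U' (res L (c i).le (c i).m) by
      rw [RelSpec.QHom.appLE_eq, CommRingCat.hom_comp, RingHom.comp_apply]
      exact (congrArg _ ((hu'' _ e).trans (congrArg (jL jl _) he))).trans (app_res jl _ _)]
  exact Ideal.mul_mem_left _ _ (Ideal.mem_span_singleton_self _)

end Canon

end Groth.Agent.SymAlg
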