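import Groth.Agent.SymAlg.PnOfGens
import Groth.Agent.SymAlg.FTSub
import Groth.Agent.TMul.GlobGen

/-!
Very ampleness relative to projective space after twisting by a module generated by global sections.
-/

set_option autoImplicit false
set_option backward.isDefEq.respectTransparency false
set_option linter.style.haveILetI false
set_option linter.unusedSectionVars false

universe u

open CategoryTheory CategoryTheory.Limits DirectSum AlgebraicGeometry TopologicalSpace Opposite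
open scoped HomogeneousIdeal
open Groth.Agent.QC (res resO res_res res_self res_smul app_res)

noncomputable section

namespace Groth.Agent.SymAlg

open Groth.Agent
open TMul (IsGen tm homOf val)

variable {X Y : Scheme.{u}}

/-- Spanning families restrict to basic opens. -/
lemma span_basicOpen {F : Y.Modules} [F.IsQuasicoherent] {D : Y.Opens} (hD : IsAffineOpen D) {ι : Type u}
    (t : ι → Γ(F, D)) (h : Submodule.span Γ(Y, D) (Set.range t) = ⊤) (f : Γ(Y, D)) :
    Submodule.span Γ(Y, Y.basicOpen f) (Set.range fun i => res F (Y.basicOpen_le f) (t i)) = ⊤ := by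
  refine eq_top_iff.2 fun y _ => ?_
  rw [show (Set.range fun i => res F (Y.basicOpen_le f) (t i)) = res F (Y.basicOpen_le f) '' Set.range t from
    (Set.range_comp _ t)]
  exact Groth.Agent.QC.mem_span_basicOpen hD f h y

/-- A very ample module for a morphism of finite type comes from a module of finite type. -/
theorem exists_vAmpleFT [CompactSpace Y] [QuasiSeparatedSpace Y] (q : X ⟶ Y) [QuasiCompact q]
    [LocallyOfFiniteType q] {L : X.Modules} (hL : PicF.IsInvertible L) (h : RelProj.IsRelVeryAmple q L) :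
    ∃ (E : Y.Modules) (_ : Coh.IsQCoh E) (_ : CohB1.IsFT E) (𝒯 : RelProj.QCGrAlg Y) (j : E ⟶ 𝒯.toModule)
      (_ : RelProj.IsGrSymAlg E 𝒯 j) (𝒮L : RelProj.QCGrAlg X) (jl : L ⟶ 𝒮L.toModule)
      (_ : RelProj.IsGrSymAlg L 𝒮L jl) (κ : E ⟶ (Scheme.Modules.pushforward q).obj L)
      (u : RelProj.QGrHom q 𝒯 𝒮L),
      Extends j jl κ u ∧ (∀ x : X, ∃ c : DegOnePair u jl, x ∈ c.U') ∧
      ∀ x : X, ∃ (U₀ : Y.Opens) (hU₀ : IsAffineOpen U₀), q x ∈ U₀ ∧
        ∀ r : Γ(Y, U₀), q x ∈ Y.basicOpen r → LocalAt u (Y.basicOpen r) (hU₀.basicOpen r) x := by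
  have hLq : Coh.IsQCoh L := TMul.isQCoh_of_isInvertible hL
  obtain ⟨𝒮L, jl, hjl⟩ := exists_isGrSymAlg hLq
  obtain ⟨E, hEq, hEft, κ, -, 𝒯, j, hj, u, hu, hs, ι, -, U, n, f, hnf, hcov, hA⟩ :=
    exists_ft_veryAmple q hL hLq hjl h
  refine ⟨E, hEq, hEft, 𝒯, j, hj, 𝒮L, jl, hjl, κ, u, fun V _ m => hu V m, fun x => ?_, fun x => ?_⟩
  · obtain ⟨U', hU', e, V, hV, hVU, hxV, hspan⟩ := hs x
    exact exists_degOnePair hL hLq hjl hU' (hj.2 U' hU' e) hV hVU hspan hxV
  · obtain ⟨a, ha⟩ := hcov x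
    exact ⟨(U a).1, (U a).2, Rel.NV_le u (U a).2 (n a) (f a) ha, fun r hr =>
      localAt_basicOpen hL hjl ⟨n a, f a, (hnf a).1, (hnf a).2, ha, (hA a).1, (hA a).2⟩ r hr⟩

set_option maxHeartbeats 1600000 in
/-- Over an affine base very ample means very ample relative to a projective space. -/
theorem isRelVeryAmplePn_of_affine [IsAffine Y] (q : X ⟶ Y) [QuasiCompact q] [LocallyOfFiniteType q]
    {L : X.Modules} (hL : PicF.IsInvertible L) (h : RelProj.IsRelVeryAmple q L) :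
    RelAmple.IsRelVeryAmplePn q L := by
  obtain ⟨E, hE, hEft, 𝒯, j, hj, 𝒮L, jl, hjl, κ, u, hu, hp, hd⟩ := exists_vAmpleFT q hL h
  haveI : E.IsQuasicoherent := hE
  have hY : IsAffineOpen (⊤ : Y.Opens) := isAffineOpen_top Y
  obtain ⟨T, hT⟩ := ((Groth.Agent.QC.isFT_iff_finite_sections (M := E)).mp hEft ⟨⊤, hY⟩).fg_top
  let e₀ : {t // t ∈ T} → Γ(E, ⊤) := fun t => t.1
  have he₀ : Submodule.span Γ(Y, ⊤) (Set.range e₀) = ⊤ := by
    rw [← hT]; congr 1; ext y; simp [e₀]
  let O := Coh.structureModule X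
  let τ : {t // t ∈ T} → Γ(CohB1.tensorMod L O, ⊤) := fun t =>
    tm (res L (Scheme.Hom.preimage_top q).ge (sec κ ⊤ t.1)) (show Γ(O, ⊤) from (1 : Γ(X, ⊤)))
  refine ProjMor.isRelVeryAmplePn_congr (SecTwist.unitorR L)
    (isRelVeryAmplePn_of_gens hL (TMul.isInvertible_structureModule (X := X)) hE hj hjl hu hp τ fun x => ?_)
  obtain ⟨U₀, hU₀, hxU₀, hloc⟩ := hd x
  obtain ⟨r, r', heq, hxr⟩ := exists_basicOpen_le_affine_inter hU₀ hY (q x) ⟨hxU₀, trivial⟩
  have hspan : ∀ (U : Y.Opens), U = Y.basicOpen r' →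
      Submodule.span Γ(Y, U) (Set.range fun t => res E (le_top : U ≤ ⊤) (e₀ t)) = ⊤ := by
    rintro _ rfl; exact span_basicOpen hY e₀ he₀ r'
  refine ⟨Y.basicOpen r, hU₀.basicOpen r, fun t => res E le_top (e₀ t), (1 : Γ(X, q ⁻¹ᵁ Y.basicOpen r)),
    hloc r hxr, hspan _ heq, TMul.isGen_one _, fun t => ?_⟩
  rw [TMul.res_tm]
  refine congrArg₂ (fun a b => tm a b) ?_ (map_one (resO X (le_top : q ⁻¹ᵁ Y.basicOpen r ≤ ⊤)))
  exact (res_res _ _ _ _).trans (app_res κ le_top _)

/-- The unit of pull-back. -/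
def unitP (q : X ⟶ Y) (N : Y.Modules) : N ⟶ (Scheme.Modules.pushforward q).obj ((Scheme.Modules.pullback q).obj N) :=
  (Scheme.Modules.pullbackPushforwardAdjunction q).unit.app N

lemma isGen_unitP (q : X ⟶ Y) {N : Y.Modules} (hN : PicF.IsInvertible N) {U : Y.Opens} {s : Γ(N, U)}
    (hs : IsGen s) :
    IsGen (X := X) (N := (Scheme.Modules.pullback q).obj N) (U := q ⁻¹ᵁ U) (sec (unitP q N) U s) :=
  isGen_pullθ q (Iso.refl _) (PicLoc.isInvertible_pullback q hN) (TMul.isQCoh_of_isInvertible hN) s hs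

attribute [irreducible] unitP

/-- The bilinear map underlying the twist map. -/
def twistBil {q : X ⟶ Y} {L : X.Modules} {E : Y.Modules} (κ : E ⟶ (Scheme.Modules.pushforward q).obj L)
    (N : Y.Modules) (U : Y.Opens) : Γ(E, U) →ₗ[Γ(Y, U)] Γ(N, U) →ₗ[Γ(Y, U)]
      Γ((Scheme.Modules.pushforward q).obj (CohB1.tensorMod L ((Scheme.Modules.pullback q).obj N)), U) :=
  LinearMap.mk₂ Γ(Y, U)
    (fun m n => (show Γ((Scheme.Modules.pushforward q).obj
        (CohB1.tensorMod L ((Scheme.Modules.pullback q).obj N)), U) from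
      tm (M := L) (sec κ U m) (sec (unitP q N) U n)))
    (fun a b n => by rw [sec, map_add]; exact TMul.tm_add _ _ _)
    (fun r a n => by rw [sec, Scheme.Modules.Hom.app_smul]; exact TMul.smul_tm _ _ _)
    (fun a n n' => by simp only [sec, map_add]; exact TMul.add_tm _ _ _)
    (fun r a n => by simp only [sec, Scheme.Modules.Hom.app_smul]; exact TMul.tm_smul _ _ _)

lemma res_twistBil {q : X ⟶ Y} {L : X.Modules} {E : Y.Modules} (κ : E ⟶ (Scheme.Modules.pushforward q).obj L)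
    (N : Y.Modules) {V U : Y.Opens} (h : V ≤ U) (m : Γ(E, U)) (n : Γ(N, U)) :
    res _ h (twistBil κ N U m n) = twistBil κ N V (res E h m) (res N h n) := by
  simp only [twistBil, LinearMap.mk₂_apply, sec]
  rw [← app_res κ h, ← app_res (unitP q N) h]
  exact TMul.res_tm (q.preimage_mono h) _ _

lemma twistBil_apply {q : X ⟶ Y} {L : X.Modules} {E : Y.Modules} (κ : E ⟶ (Scheme.Modules.pushforward q).obj L)
    (N : Y.Modules) (U : Y.Opens) (m : Γ(E, U)) (n : Γ(N, U)) :
    twistBil κ N U m n = tm (M := L) (sec κ U m) (sec (unitP q N) U n) := rfl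

attribute [irreducible] twistBil

/-- The twist map on sections. -/
def twistMap {q : X ⟶ Y} {L : X.Modules} {E : Y.Modules} (κ : E ⟶ (Scheme.Modules.pushforward q).obj L)
    (N : Y.Modules) : CohB1.tensorMod E N ⟶ (Scheme.Modules.pushforward q).obj
      (CohB1.tensorMod L ((Scheme.Modules.pullback q).obj N)) :=
  TMul.lift (P := (Scheme.Modules.pushforward q).obj (CohB1.tensorMod L ((Scheme.Modules.pullback q).obj N)))
    (twistBil κ N) (fun h m n => res_twistBil κ N h m n)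

lemma twistMap_tm {q : X ⟶ Y} {L : X.Modules} {E : Y.Modules} (κ : E ⟶ (Scheme.Modules.pushforward q).obj L)
    (N : Y.Modules) (U : Y.Opens) (m : Γ(E, U)) (n : Γ(N, U)) :
    sec (twistMap κ N) U (tm m n) = tm (M := L) (sec κ U m) (sec (unitP q N) U n) :=
  (TMul.lift_tm _ _ m n).trans (twistBil_apply κ N U m n)

attribute [irreducible] twistMap

set_option maxHeartbeats 1600000 in
/-- If `E ⊗ N` is generated by global sections then `L ⊗ q^*N` is very ample relative to a projective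
space. -/
theorem eventually_isRelVeryAmplePn_twist (q : X ⟶ Y) [QuasiCompact q] [LocallyOfFiniteType q]
    {L : X.Modules} (hL : PicF.IsInvertible L) (h : RelProj.IsRelVeryAmple q L)
    {K : Y.Modules} (hK : CohB1.IsAmple K) :
    ∃ n₀ : ℕ, ∀ n, n₀ ≤ n → RelAmple.IsRelVeryAmplePn q
      (CohB1.tensorMod L ((Scheme.Modules.pullback q).obj (CohB1.tensorPow K n))) := by
  classical
  have := hK.2.1
  have := TMul.isSeparated_of_isAmple hK
  obtain ⟨E, hE, hEft, 𝒯, j, hj, 𝒮L, jl, hjl, κ, u, hu, hp, hd⟩ := exists_vAmpleFT q hL h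
  haveI : E.IsQuasicoherent := hE
  obtain ⟨n₀, hn₀⟩ := TMul.exists_forall_genOn hK (F := E) hEft
  refine ⟨n₀, fun n hn => ?_⟩
  let N := CohB1.tensorPow K n
  have hN : PicF.IsInvertible N := TMul.isInvertible_tensorPow hK.1 n
  have hNq : Coh.IsQCoh N := TMul.isQCoh_of_isInvertible hN
  let G := CohB1.tensorMod E N
  haveI hG : G.IsQuasicoherent := TMul.isQCoh_tensor hN
  have hGft : CohB1.IsFT G := TMul.isFT_tensor hN hEft
  choose D hD hyD hgen using hn₀ n hn
  obtain ⟨C, hC⟩ := isCompact_univ.elim_finite_subcover (fun y : Y => (D y : Set Y)) (fun y => (D y).2)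
    (fun y _ => Set.mem_iUnion.2 ⟨y, hyD y⟩)
  have hfin : ∀ y : Y, ∃ T : Finset Γ(G, ⊤),
      Submodule.span Γ(Y, D y) (res G (le_top : D y ≤ ⊤) '' (T : Set Γ(G, ⊤))) = ⊤ := fun y => by
    obtain ⟨S, hS⟩ := ((Groth.Agent.QC.isFT_iff_finite_sections (M := G)).mp hGft ⟨D y, hD y⟩).fg_top
    have hmem : ∀ g : Γ(G, D y), ∃ T : Finset Γ(G, ⊤),
        g ∈ Submodule.span Γ(Y, D y) (res G (le_top : D y ≤ ⊤) '' (T : Set Γ(G, ⊤))) := fun g => by
      have hg : g ∈ Submodule.span Γ(Y, D y) (Set.range (res G (le_top : D y ≤ ⊤))) := (hgen y) ▸ trivial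
      obtain ⟨T', hT', hgT⟩ := Submodule.mem_span_finite_of_mem_span hg
      choose pre hpre using fun b : {b // b ∈ T'} => hT' b.2
      refine ⟨Finset.univ.image pre, Submodule.span_mono (fun b hb => ?_) hgT⟩
      exact ⟨pre ⟨b, hb⟩, Finset.mem_coe.2 (Finset.mem_image.2 ⟨_, Finset.mem_univ _, rfl⟩), hpre ⟨b, hb⟩⟩
    choose T hT using hmem
    refine ⟨S.biUnion T, eq_top_iff.2 ?_⟩
    rw [← hS, Submodule.span_le]
    intro g hg
    exact Submodule.span_mono (Set.image_mono (Finset.coe_subset.2 (Finset.subset_biUnion_of_mem T hg))) (hT g)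
  choose T hT using hfin
  let ι : Type u := {t : Γ(G, ⊤) // t ∈ C.biUnion T}
  let τ : ι → Γ(CohB1.tensorMod L ((Scheme.Modules.pullback q).obj N), ⊤) := fun t =>
    res (CohB1.tensorMod L ((Scheme.Modules.pullback q).obj N)) (Scheme.Hom.preimage_top q).ge
      (sec (twistMap κ N) ⊤ t.1)
  refine isRelVeryAmplePn_of_gens hL (PicLoc.isInvertible_pullback q hN) hE hj hjl hu hp τ fun x => ?_
  obtain ⟨U₀, hU₀, hxU₀, hloc⟩ := hd x
  obtain ⟨y, hy, hxy⟩ := Set.mem_iUnion₂.1 (hC (Set.mem_univ (q x)))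
  obtain ⟨Vs, s, hxs, hs⟩ := TMul.exists_isGen hN (q x)
  obtain ⟨f, hf, hxf⟩ := (hD y).exists_basicOpen_le (⟨q x, hxs⟩ : Vs) hxy
  obtain ⟨r, r', heq, hxr⟩ :=
    exists_basicOpen_le_affine_inter hU₀ ((hD y).basicOpen f) (q x) ⟨hxU₀, hxf⟩
  have hspan : ∀ (U : Y.Opens), U = Y.basicOpen r' →
      Submodule.span Γ(Y, U) (Set.range fun t : ι => res G (le_top : U ≤ ⊤) t.1) = ⊤ := by
    rintro _ rfl
    have h0 : Submodule.span Γ(Y, D y) (Set.range fun t : ι => res G (le_top : D y ≤ ⊤) t.1) = ⊤ := by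
      refine eq_top_iff.2 ((hT y).ge.trans (Submodule.span_mono ?_))
      rintro _ ⟨t, ht, rfl⟩
      exact ⟨⟨t, Finset.mem_biUnion.2 ⟨y, hy, ht⟩⟩, rfl⟩
    have h1 := span_basicOpen ((hD y).basicOpen f) _ (span_basicOpen (hD y) _ h0 f) r'
    simp only [res_res] at h1
    exact h1
  let U := Y.basicOpen r
  have hUs : U ≤ Vs := heq.le.trans ((Y.basicOpen_le r').trans hf)
  let sU := res N hUs s
  have hsU : IsGen sU := isGen_res hUs hs
  have hbij : ∀ g : Γ(G, U), ∃ m : Γ(E, U), tm m sU = g := fun g => by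
    obtain ⟨m, hm⟩ := (TMul.tm_bijective (M := E) hsU U le_rfl).2 g
    exact ⟨m, by simpa only [res_self] using hm⟩
  choose e he using hbij
  refine ⟨U, hU₀.basicOpen r, fun t : ι => e (res G (le_top : U ≤ ⊤) t.1), sec (unitP q N) U sU, hloc r hxr, ?_,
    isGen_unitP q hN hsU, fun t => ?_⟩
  · refine eq_top_iff.2 fun m _ => ?_
    have hm : tm m sU ∈ Submodule.span Γ(Y, U) (Set.range fun t : ι => res G (le_top : U ≤ ⊤) t.1) :=
      hspan U heq ▸ trivial
    let Φ : Γ(E, U) →ₗ[Γ(Y, U)] Γ(G, U) :=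
      { toFun := fun m => tm m sU
        map_add' := fun a b => TMul.tm_add _ _ _
        map_smul' := fun c a => TMul.smul_tm c a _ }
    have hΦ : Function.Injective Φ := fun a b hab => (TMul.tm_bijective (M := E) hsU U le_rfl).1 (by
      simp only [res_self]
      exact hab)
    have hle : Submodule.span Γ(Y, U) (Set.range fun t : ι => res G (le_top : U ≤ ⊤) t.1) ≤
        (Submodule.span Γ(Y, U) (Set.range fun t : ι => e (res G (le_top : U ≤ ⊤) t.1))).map Φ := by
      rw [Submodule.map_span, Submodule.span_le]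
      rintro _ ⟨t, rfl⟩
      exact Submodule.subset_span ⟨_, ⟨t, rfl⟩, he _⟩
    obtain ⟨m', hm', e'⟩ := hle hm
    exact hΦ e' ▸ hm'
  · refine Eq.trans (res_res _ _ _ _) ?_
    refine Eq.trans (app_res (twistMap κ N) (le_top : U ≤ ⊤) t.1) ?_
    change (twistMap κ N).app U (res G (le_top : U ≤ ⊤) t.1) = _
    rw [← he (res G (le_top : U ≤ ⊤) t.1)]
    exact twistMap_tm κ N U _ _

end Groth.Agent.SymAlg
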