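import Groth.Agent.SymAlg.PnOfFT
import Groth.Agent.SymAlg.VAmpleOps
import Groth.Agent.SymAlg.VAmplePnLocal
import Groth.Agent.SymAlg.BundleCrit

/-!
Very ampleness of `L ⊗ f^* K^n` for a composite morphism.
-/

set_option autoImplicit false
set_option backward.isDefEq.respectTransparency false
set_option linter.style.haveILetI false
set_option linter.unusedSectionVars false

universe u

open CategoryTheory CategoryTheory.Limits AlgebraicGeometry TopologicalSpace Opposite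

noncomputable section

namespace Groth.Agent.SymAlg

open Groth.Agent

variable {X Y Z : Scheme.{u}}

/-- `P^N_Y` is the base change of `P^N_Z`. -/
lemma exists_isPullback_proj (g : Y ⟶ Z) (N : ℕ) :
    ∃ m : CohB1.ProjSpaceOver N Y ⟶ CohB1.ProjSpaceOver N Z,
      IsPullback m (CohB1.ProjSpaceOver.toBase N Y) (CohB1.ProjSpaceOver.toBase N Z) g ∧
      m ≫ ProjMor.pz N Z = ProjMor.pz N Y := by
  let m : CohB1.ProjSpaceOver N Y ⟶ CohB1.ProjSpaceOver N Z :=
    pullback.lift (ProjMor.pz N Y) (CohB1.ProjSpaceOver.toBase N Y ≫ g)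
      (specULiftZIsTerminal.hom_ext _ _)
  have h1 : m ≫ ProjMor.pz N Z = ProjMor.pz N Y := pullback.lift_fst _ _ _
  have h2 : m ≫ CohB1.ProjSpaceOver.toBase N Z = CohB1.ProjSpaceOver.toBase N Y ≫ g := pullback.lift_snd _ _ _
  refine ⟨m, IsPullback.of_right ?_ h2 (IsPullback.of_hasPullback _ _), h1⟩
  have e : g ≫ specULiftZIsTerminal.from Z = specULiftZIsTerminal.from Y :=
    specULiftZIsTerminal.hom_ext _ _
  rw [e]
  exact h1 ▸ (IsPullback.of_hasPullback _ _)

/-- `O(1)` of `P^N` over an affine scheme is very ample. -/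
lemma isRelVeryAmple_twistOver [IsAffine Z] (N : ℕ) :
    RelProj.IsRelVeryAmple (CohB1.ProjSpaceOver.toBase N Z) (Twist.twistOver N Z 1) := by
  haveI := Groth.Agent.HQProj.isProper_toBase N Z
  refine isRelVeryAmple_of_pn_affine _ ?_ ⟨N, 𝟙 _, inferInstance, Category.id_comp _,
    ⟨((Scheme.Modules.pullbackId _).app (Twist.twistOver N Z 1)).symm⟩⟩
  exact ProjMor.isInvertible_pull1 (ProjMor.genDegOne_projSpace N (ULift.{u} ℤ)) (ProjMor.pz N Z)

/-- Twisting a module very ample relative to `P^N_Y` by a module very ample over the base. -/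
theorem isRelVeryAmple_comp_of_pn [IsAffine Z] (f : X ⟶ Y) (g : Y ⟶ Z) {A : X.Modules}
    (hA : RelAmple.IsRelVeryAmplePn f A) {K : Y.Modules} (hK : PicF.IsInvertible K)
    (hKva : RelProj.IsRelVeryAmple g K) :
    RelProj.IsRelVeryAmple (f ≫ g) (CohB1.tensorMod A ((Scheme.Modules.pullback f).obj K)) := by
  obtain ⟨N, i, hi, hif, ⟨φ⟩⟩ := hA
  replace hif : i ≫ CohB1.ProjSpaceOver.toBase N Y = f := hif
  haveI := hi
  obtain ⟨m, hm, hm1⟩ := exists_isPullback_proj g N
  have hO : PicF.IsInvertible (Twist.twistOver N Z 1) :=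
    ProjMor.isInvertible_pull1 (ProjMor.genDegOne_projSpace N (ULift.{u} ℤ)) (ProjMor.pz N Z)
  have h := isRelVeryAmple_comp_immersion i
    (isRelVeryAmple_external hm hO (isRelVeryAmple_twistOver N) hK hKva rfl)
  rw [show i ≫ m ≫ CohB1.ProjSpaceOver.toBase N Z = f ≫ g by rw [hm.w, reassoc_of% hif]] at h
  obtain ⟨e⟩ := TMul.nonempty_pullTensorIso i
    ((Scheme.Modules.pullback m).obj (Twist.twistOver N Z 1))
    ((Scheme.Modules.pullback (CohB1.ProjSpaceOver.toBase N Y)).obj K)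
  let e₀ : (Scheme.Modules.pullback m).obj (Twist.twistOver N Z 1) ≅ Twist.twistOver N Y 1 :=
    (Scheme.Modules.pullbackComp m (ProjMor.pz N Z)).app _ ≪≫ (Scheme.Modules.pullbackCongr hm1).app _
  refine isRelVeryAmple_of_iso (PicGrp.tensorModIso (φ ≪≫ (Scheme.Modules.pullback i).mapIso e₀.symm) ?_ ≪≫ e) h
  exact (Scheme.Modules.pullbackCongr hif.symm).app K ≪≫
    ((Scheme.Modules.pullbackComp i (CohB1.ProjSpaceOver.toBase N Y)).app K).symm

/-- The composite over an affine base. -/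
theorem eventually_comp_affine [IsAffine Z] (f : X ⟶ Y) [QuasiCompact f] [LocallyOfFiniteType f]
    (g : Y ⟶ Z) [QuasiCompact g] {L : X.Modules} (hL : PicF.IsInvertible L)
    (hLva : RelProj.IsRelVeryAmple f L) {K : Y.Modules} (hK : PicF.IsInvertible K)
    (hKva : RelProj.IsRelVeryAmple g K) :
    ∃ n₀ : ℕ, ∀ n : ℕ, n₀ ≤ n → RelProj.IsRelVeryAmple (f ≫ g)
      (CohB1.tensorMod L ((Scheme.Modules.pullback f).obj (CohB1.tensorPow K n))) := by
  obtain ⟨m₀, hm₀⟩ := eventually_isRelVeryAmplePn_twist f hL hLva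
    ((TMul.isRelAmple_iff_isAmple (f := g)).mp (isRelAmple_of_isRelVeryAmple g hK hKva))
  refine ⟨m₀ + 1, fun n hn => ?_⟩
  obtain ⟨k, rfl⟩ := Nat.exists_eq_add_of_le (show 1 ≤ n by omega)
  rw [add_comm 1 k]
  have h := isRelVeryAmple_comp_of_pn f g (hm₀ k (by omega)) hK hKva
  obtain ⟨e⟩ := TMul.nonempty_pullTensorIso f (CohB1.tensorPow K k) K
  exact isRelVeryAmple_of_iso ((PicGrp.tensorModIso (Iso.refl L) e).symm ≪≫ (TMul.assocIso _ _ _).symm) h

set_option maxHeartbeats 800000 in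
/-- The composite over any quasi-compact base. -/
theorem eventually_comp [CompactSpace Z] (f : X ⟶ Y) [QuasiCompact f] [LocallyOfFiniteType f]
    (g : Y ⟶ Z) [QuasiCompact g] {L : X.Modules} (hL : PicF.IsInvertible L)
    (hLva : RelProj.IsRelVeryAmple f L) {K : Y.Modules} (hK : PicF.IsInvertible K)
    (hKva : RelProj.IsRelVeryAmple g K) :
    ∃ n₀ : ℕ, 0 < n₀ ∧ ∀ n : ℕ, n₀ ≤ n → RelProj.IsRelVeryAmple (f ≫ g)
      (CohB1.tensorMod L ((Scheme.Modules.pullback f).obj (CohB1.tensorPow K n))) := by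
  classical
  have hloc : ∀ V : Z.affineOpens, ∃ n₀ : ℕ, ∀ n, n₀ ≤ n →
      RelProj.IsRelVeryAmple ((f ≫ g) ∣_ V.1)
        ((CohB1.tensorMod L ((Scheme.Modules.pullback f).obj (CohB1.tensorPow K n))).restrict
          ((f ≫ g) ⁻¹ᵁ V.1).ι) := fun V => by
    haveI : IsAffine V.1.toScheme := V.2
    let W := g ⁻¹ᵁ V.1
    obtain ⟨n₀, h⟩ := eventually_comp_affine (f ∣_ W) (g ∣_ V.1)
      (TMul.isInvertible_restrict (f ⁻¹ᵁ W).ι hL) (isRelVeryAmple_restrict hLva W)
      (TMul.isInvertible_restrict W.ι hK) (isRelVeryAmple_restrict hKva V.1)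
    refine ⟨n₀, fun n hn => ?_⟩
    have hn' := h n hn
    rw [← morphismRestrict_comp] at hn'
    obtain ⟨e₁⟩ := TMul.nonempty_restrictTensorIso (f ⁻¹ᵁ W).ι L
      ((Scheme.Modules.pullback f).obj (CohB1.tensorPow K n))
    obtain ⟨e₂⟩ := TMul.nonempty_restrictPowIso W.ι K n
    refine isRelVeryAmple_of_iso ?_ hn'
    refine e₁.symm ≪≫ PicGrp.tensorModIso (Iso.refl _) ?_
    exact (Scheme.Modules.restrictFunctorIsoPullback (f ⁻¹ᵁ W).ι).app _ ≪≫
      (Scheme.Modules.pullbackComp (f ⁻¹ᵁ W).ι f).app _ ≪≫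
      (Scheme.Modules.pullbackCongr (morphismRestrict_ι f W).symm).app _ ≪≫
      ((Scheme.Modules.pullbackComp (f ∣_ W) W.ι).app _).symm ≪≫
      (Scheme.Modules.pullback (f ∣_ W)).mapIso
        (((Scheme.Modules.restrictFunctorIsoPullback W.ι).app _).symm ≪≫ e₂.symm)
  choose d hd using hloc
  obtain ⟨T, hT⟩ := isCompact_univ.elim_finite_subcover (fun V : Z.affineOpens => (V.1 : Set Z))
    (fun V => V.1.2) (fun z _ => by
      obtain ⟨V, hV, hz, -⟩ := exists_isAffineOpen_mem_and_subset (show z ∈ (⊤ : Z.Opens) from trivial)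
      exact Set.mem_iUnion.2 ⟨⟨V, hV⟩, hz⟩)
  refine ⟨T.sup d + 1, Nat.succ_pos _, fun n hn => isRelVeryAmple_of_local (f ≫ g)
    (TMul.isInvertible_tensorMod hL (PicLoc.isInvertible_pullback f (TMul.isInvertible_tensorPow hK n)))
    fun z => ?_⟩
  obtain ⟨V, hV, hz⟩ := Set.mem_iUnion₂.1 (hT (Set.mem_univ z))
  exact ⟨V.1, hz, V.2, hd V n ((Finset.le_sup hV).trans (by omega))⟩

end Groth.Agent.SymAlg
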