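import Groth.Agent.SymAlg.RLImmData
import Groth.Agent.SymAlg.VAmpleLocal
import Groth.Agent.ProjMor.Segre
import Groth.Agent.HQProj.Basic

/-!
A module very ample relative to a projective space is very ample relative to a projective bundle.
-/

set_option autoImplicit false
set_option backward.isDefEq.respectTransparency false
set_option linter.style.haveILetI false
set_option linter.unusedSectionVars false
set_option maxHeartbeats 800000

universe u

open CategoryTheory CategoryTheory.Limits AlgebraicGeometry TopologicalSpace Opposite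
open Groth.Agent.QC (res resO res_res res_self app_res)

noncomputable section

namespace Groth.Agent.SymAlg

open Groth.Agent
open TMul (IsGen homOf val_homOf)
open ProjMor (pz chartOver)

variable {X Y : Scheme.{u}}

/-- The functions on a chart of `P^n` over an affine base are generated by the base and the ratios. -/
theorem chartOver_generated (n : ℕ) (j : Fin (n + 1)) {V : Y.Opens} (hV : IsAffineOpen V) :
    Subring.closure (Set.range ((CohB1.ProjSpaceOver.toBase n Y).appLE V (chartOver n j V) inf_le_right).hom ∪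
      Set.range fun k => ((pz n Y).appLE (ProjMor.chart n j) (chartOver n j V) inf_le_left).hom
        (ProjMor.ratio n j k)) = ⊤ := by
  let K := Subring.closure (Set.range ((CohB1.ProjSpaceOver.toBase n Y).appLE V (chartOver n j V) inf_le_right).hom ∪
    Set.range fun k => ((pz n Y).appLE (ProjMor.chart n j) (chartOver n j V) inf_le_left).hom
      (ProjMor.ratio n j k))
  have H : IsPullback (pz n Y) (CohB1.ProjSpaceOver.toBase n Y)
      (CohB1.ProjSpace.toSpec n (ULift.{u} ℤ)) (specULiftZIsTerminal.from Y) := IsPullback.of_hasPullback _ _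
  have hpo := (isIso_pushoutSection_iff H (US := ⊤) (UT := V) (UX := ProjMor.chart n j) (UY := chartOver n j V)
    le_top le_top rfl).1 (isIso_pushoutSection_of_isAffineOpen H le_top le_top rfl (isAffineOpen_top _) hV
      (ProjMor.isAffineOpen_chart n j))
  have hpz : ∀ z, ((pz n Y).appLE (ProjMor.chart n j) (chartOver n j V) inf_le_left).hom z ∈ K := by
    intro z
    let d := GrT.deh (CohB1.polyGrading n (ULift.{u} ℤ)) (MvPolynomial.isHomogeneous_X (ULift.{u} ℤ) j)
    obtain ⟨p, rfl⟩ := ProjMor.exists_deh_eq (MvPolynomial.isHomogeneous_X (ULift.{u} ℤ) j :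
      MvPolynomial.X j ∈ CohB1.polyGrading n (ULift.{u} ℤ) 1) z
    induction p using MvPolynomial.induction_on with
    | C a =>
      have e := RingHom.congr_fun (ProjMor.ext_uliftInt
        ((((pz n Y).appLE (ProjMor.chart n j) (chartOver n j V) inf_le_left).hom).comp (d.comp MvPolynomial.C))
        ((Int.castRingHom Γ(CohB1.ProjSpaceOver n Y, chartOver n j V)).comp ULift.ringEquiv.toRingHom)) a
      exact (show ((pz n Y).appLE (ProjMor.chart n j) (chartOver n j V) inf_le_left).hom (d (MvPolynomial.C a)) ∈ K from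
        e ▸ intCast_mem K _)
    | add p q hp hq => rw [map_add, map_add]; exact add_mem hp hq
    | mul_X p k hp =>
      rw [map_mul, map_mul]
      exact mul_mem hp (Subring.subset_closure (Or.inr ⟨k, rfl⟩))
  let a : Γ(CohB1.ProjSpace n (ULift.{u} ℤ), ProjMor.chart n j) ⟶ CommRingCat.of K :=
    CommRingCat.ofHom ((((pz n Y).appLE (ProjMor.chart n j) (chartOver n j V) inf_le_left).hom).codRestrict K hpz)
  let b : Γ(Y, V) ⟶ CommRingCat.of K :=
    CommRingCat.ofHom ((((CohB1.ProjSpaceOver.toBase n Y).appLE V (chartOver n j V) inf_le_right).hom).codRestrict K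
      fun z => Subring.subset_closure (Or.inl ⟨z, rfl⟩))
  let ι : CommRingCat.of K ⟶ Γ(CohB1.ProjSpaceOver n Y, chartOver n j V) := CommRingCat.ofHom K.subtype
  haveI : Mono ι := ConcreteCategory.mono_of_injective _ Subtype.val_injective
  obtain ⟨g, hid⟩ : ∃ g : Γ(CohB1.ProjSpaceOver n Y, chartOver n j V) ⟶ CommRingCat.of K, g ≫ ι = 𝟙 _ := ⟨hpo.desc a b (by rw [← cancel_mono ι, Category.assoc, Category.assoc]; exact hpo.w),
    hpo.hom_ext (by rw [← Category.assoc, IsPushout.inl_desc, Category.comp_id]; rfl)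
      (by rw [← Category.assoc, IsPushout.inr_desc, Category.comp_id]; rfl)⟩
  refine eq_top_iff.2 fun z _ => ?_
  have h : ((g.hom z : K) : Γ(CohB1.ProjSpaceOver n Y, chartOver n j V)) = z := congr(($hid).hom z)
  rw [← h]
  exact (g.hom z).2

variable {q : X ⟶ Y} {L : X.Modules} (hL : PicF.IsInvertible L)
  (hLq : Coh.IsQCoh L) {𝒮 : RelProj.QCGrAlg Y}
  {jF : (Scheme.Modules.pushforward q).obj L ⟶ 𝒮.toModule}
  (hjF : RelProj.IsGrSymAlg ((Scheme.Modules.pushforward q).obj L) 𝒮 jF)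
  {𝒮L : RelProj.QCGrAlg X} {jl : L ⟶ 𝒮L.toModule} (hjl : RelProj.IsGrSymAlg L 𝒮L jl)
  {u : RelProj.QGrHom q 𝒮 𝒮L} (hu : IsCanon jF jl u) (hY : IsAffineOpen (⊤ : Y.Opens))
  {n : ℕ} (i : X ⟶ CohB1.ProjSpaceOver n Y) (s : Fin (n + 1) → Γ(L, ⊤))
  (hs : ∀ j, CohB1.genLocus L (homOf (s j)) = (i ≫ pz n Y) ⁻¹ᵁ ProjMor.chart n j ∧ ∀ k,
        ProjMor.ev (i ≫ pz n Y) (ProjMor.chart n j) ((i ≫ pz n Y) ⁻¹ᵁ ProjMor.chart n j) le_rfl (ProjMor.ratio n j k) •
            res L (le_top : (i ≫ pz n Y) ⁻¹ᵁ ProjMor.chart n j ≤ ⊤) (s j) =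
          res L (le_top : (i ≫ pz n Y) ⁻¹ᵁ ProjMor.chart n j ≤ ⊤) (s k))

lemma jL_smul {U : X.Opens} (b : Γ(X, U)) (e : Γ(L, U)) : jL jl U (b • e) = strL 𝒮L U b * jL jl U e :=
  (Scheme.Modules.Hom.app_smul jl b e).trans rfl

include hY hs in
lemma isGen_coord (j : Fin (n + 1)) :
    IsGen (res L (le_top : i ⁻¹ᵁ chartOver n j ⊤ ≤ ⊤) (s j)) := by
  have h := (ProjMor.isGen_homOf (s j)).res (V := i ⁻¹ᵁ chartOver n j ⊤) (by
    rw [(hs j).1]; exact i.preimage_mono inf_le_left)
  rwa [res_res] at h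

include hL hLq hjF hjl hu hY hs in
/-- Sections with affine non-vanishing locus and surjective fractions. -/
theorem exists_local_data_pn (hi : IsImmersion i) (hif : i ≫ CohB1.ProjSpaceOver.toBase n Y = q) (x : X) :
    ∃ (m : ℕ) (a : 𝒮.presheaf.obj (op ⊤)), 0 < m ∧ a ∈ 𝒮.deg ⊤ hY m ∧ x ∈ Rel.NV u hY m a ∧
      IsAffineOpen (Rel.NV u hY m a) ∧
      ∀ z, z ∈ Rel.condSet u hY m a (Rel.NV u hY m a) (Rel.NV_le u _ _ _) := by
  classical
  obtain ⟨j, hxj⟩ : ∃ j, (i ≫ pz n Y) x ∈ ProjMor.chart n j := by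
    obtain ⟨g, hg, hgx⟩ := ProjMor.exists_notMem (ProjMor.genDegOne_projSpace n (ULift.{u} ℤ)) ((i ≫ pz n Y) x)
    by_contra hn
    push Not at hn
    obtain ⟨c, rfl⟩ := ProjMor.exists_of_mem_one (ProjMor.linForms_mem n (ULift.{u} ℤ))
      (ProjMor.adjoin_linForms n (ULift.{u} ℤ)) hg
    refine hgx ?_
    rw [ProjMor.linForms, Fintype.linearCombination_apply]
    refine Submodule.sum_mem _ fun k _ => ?_
    rw [Algebra.smul_def]
    refine Ideal.mul_mem_left _ _ ?_
    by_contra hmem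
    exact hn k ((ProjectiveSpectrum.mem_basicOpen _ _ _).mpr hmem)
  let W := chartOver n j (⊤ : Y.Opens)
  have hW : IsAffineOpen W := ProjMor.isAffineOpen_chartOver n j hY
  have hxW : i x ∈ W := ⟨hxj, trivial⟩
  let U := i ⁻¹ᵁ W
  let mj : Γ(L, q ⁻¹ᵁ ⊤) := res L (le_top : q ⁻¹ᵁ ⊤ ≤ ⊤) (s j)
  let f := jFs jF ⊤ mj
  have hf : f ∈ 𝒮.deg ⊤ hY 1 := hjF.2 ⊤ hY mj
  have hψf : ∀ (V : X.Opens) (h : V ≤ q ⁻¹ᵁ ⊤), (u.appLE ⊤ V h).hom f = jL jl V (res L le_top (s j)) :=
    fun V h => by rw [appLE_jFs hu ⊤ hY h]; exact congrArg (jL jl V) (res_res L _ _ _)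
  have hgenU := isGen_coord hY i s hs j
  -- every function on the chart is a fraction
  have hH : ∀ g : Γ(CohB1.ProjSpaceOver n Y, W),
      (i.app W).hom g ∈ Rel.condSubring u hY hf (le_top' U) := by
    intro g
    have hle : Subring.closure (Set.range ((CohB1.ProjSpaceOver.toBase n Y).appLE ⊤ (chartOver n j ⊤) inf_le_right).hom ∪
        Set.range fun k => ((pz n Y).appLE (ProjMor.chart n j) (chartOver n j ⊤) inf_le_left).hom
          (ProjMor.ratio n j k)) ≤ Subring.comap (i.app W).hom (Rel.condSubring u hY hf (le_top' U)) :=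
      Subring.closure_le.2 (by
        rintro _ (⟨b, rfl⟩ | ⟨k, rfl⟩)
        · show _ ∈ Rel.condSubring u hY hf (le_top' U)
          have e : (i.app W).hom (((CohB1.ProjSpaceOver.toBase n Y).appLE ⊤ W inf_le_right).hom b) =
              (q.appLE ⊤ U (le_top' U)).hom b := by
            subst hif
            rw [← Scheme.Hom.appLE_eq_app, ← CommRingCat.comp_apply, Scheme.Hom.appLE_comp_appLE]
          exact e ▸ Rel.appLE_mem_condSubring u hY hf _ b
        · show _ ∈ Rel.condSubring u hY hf (le_top' U)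
          have hU1 : U ≤ (i ≫ pz n Y) ⁻¹ᵁ ProjMor.chart n j := i.preimage_mono inf_le_left
          have e : (i.app W).hom (((pz n Y).appLE (ProjMor.chart n j) W inf_le_left).hom (ProjMor.ratio n j k)) =
              resO X hU1 (ProjMor.ev (i ≫ pz n Y) (ProjMor.chart n j) _ le_rfl (ProjMor.ratio n j k)) := by
            refine Eq.trans ?_ (ProjMor.ev_res _ _ hU1 _).symm
            rw [← Scheme.Hom.appLE_eq_app, ← CommRingCat.comp_apply, Scheme.Hom.appLE_comp_appLE]
            rfl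
          refine ⟨1, one_pos, jFs jF ⊤ (res L (le_top : q ⁻¹ᵁ ⊤ ≤ ⊤) (s k)), ?_, ?_⟩
          · rw [one_mul]; exact hjF.2 ⊤ hY _
          · rw [pow_one, e, hψf, appLE_jFs hu ⊤ hY, res_res]
            refine (jL_smul _ _).symm.trans (congrArg (jL jl U) ?_)
            have h := congrArg (res L hU1) ((hs j).2 k)
            rw [QC.res_smul, res_res, res_res] at h
            exact h)
    rw [chartOver_generated n j hY] at hle
    exact hle (Subring.mem_top g)
  -- a function with basic open in the coborder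
  obtain ⟨h, hhle, hxh⟩ := hW.exists_basicOpen_le (V := i.coborderRange) ⟨i x, subset_coborder ⟨x, rfl⟩⟩ hxW
  let c : Γ(X, U) := (i.app W).hom h
  let D := (CohB1.ProjSpaceOver n Y).basicOpen h
  let U' := X.basicOpen c
  have hpre : i ⁻¹ᵁ D = U' := Scheme.preimage_basicOpen i h
  haveI : IsClosedImmersion (i ∣_ D) := isClosedImmersion_restrict_of_le i hhle
  haveI : IsAffine D.toScheme := hW.basicOpen h
  haveI hDaff : IsAffine (i ⁻¹ᵁ D).toScheme := isAffine_of_isAffineHom (i ∣_ D)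
  have hU' : IsAffineOpen U' := hpre ▸ (hDaff : IsAffineOpen (i ⁻¹ᵁ D))
  have hU'U : U' ≤ U := X.basicOpen_le c
  obtain ⟨m, hm, s', hs', hs'e⟩ := hH h
  rw [mul_one] at hs'
  let a := s' * f
  have ha : a ∈ 𝒮.deg ⊤ hY (m + 1) := SetLike.mul_mem_graded hs' hf
  have hNV : Rel.NV u hY (m + 1) a = U' := by
    refine Opens.ext (Set.ext fun y => ?_)
    obtain ⟨V, hV, e, hyV, -, he⟩ := exists_triv hL (O := ⊤) (x := y) trivial
    obtain ⟨b, hb⟩ := (he V le_rfl).2 (res L le_top (s j))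
    simp only [res_self] at hb
    obtain ⟨g, hg⟩ := exists_coeff hLq hjl hV he (Graded.map_mem (u.gradedAt ⊤ hY V hV (le_top' V)) hs')
    have hfV : (u.appLE ⊤ V (le_top' V)).hom f = strL 𝒮L V b * jL jl V e := by
      rw [hψf, ← hb, jL_smul]
    have haV : resL 𝒮L (le_top' V) ((u.app ⊤).hom a) = strL 𝒮L V (g * b) * jL jl V e ^ (m + 1) := by
      show (u.appLE ⊤ V (le_top' V)).hom a = _
      rw [map_mul, hfV, show (u.appLE ⊤ V (le_top' V)).hom s' = _ from hg, map_mul]
      ring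
    have hkey : y ∈ X.basicOpen (g * b) ↔ y ∈ U' := by
      have hDb : V ⊓ U = X.basicOpen b := by
        have := TMul.genLocus_inf (homOf (s j)) he (c := b) (by rw [val_homOf]; exact hb.symm)
        rw [← this, (hs j).1]
        exact le_antisymm (fun z hz => ⟨hz.1, hz.2.1⟩) (fun z hz => ⟨hz.1, hz.2, trivial⟩)
      rw [X.basicOpen_mul]
      constructor
      · rintro ⟨h1, h2⟩
        have h2U : y ∈ U := (hDb.ge h2).2
        have heq := congrArg (resL 𝒮L (show X.basicOpen b ≤ U from hDb.ge.trans inf_le_right)) hs'e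
        rw [map_mul, map_pow, resL_strL, resL_appLE, resL_appLE,
          ← resL_appLE u (X.basicOpen_le b) (le_top' V), ← resL_appLE u (X.basicOpen_le b) (le_top' V),
          hfV, show (u.appLE ⊤ V (le_top' V)).hom s' = _ from hg, map_mul, map_mul, map_pow, resL_strL, resL_strL,
          resL_jL, mul_pow, ← mul_assoc, ← map_pow, ← map_mul] at heq
        have hcoef := coeff_inj hLq hjl (hV.basicOpen b) (isGen_res _ he) heq
        have hy : y ∈ X.basicOpen (resO X (X.basicOpen_le b) g) := (Scheme.basicOpen_res X g _).ge ⟨h2, h1⟩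
        rw [← hcoef, X.basicOpen_mul] at hy
        exact ((Scheme.basicOpen_res X c _).le hy.1).2
      · intro hy
        have hyU : y ∈ U := hU'U hy
        have h2 : y ∈ X.basicOpen b := hDb.le ⟨hyV, hyU⟩
        refine ⟨?_, h2⟩
        have heq := congrArg (resL 𝒮L (show X.basicOpen b ≤ U from hDb.ge.trans inf_le_right)) hs'e
        rw [map_mul, map_pow, resL_strL, resL_appLE, resL_appLE,
          ← resL_appLE u (X.basicOpen_le b) (le_top' V), ← resL_appLE u (X.basicOpen_le b) (le_top' V),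
          hfV, show (u.appLE ⊤ V (le_top' V)).hom s' = _ from hg, map_mul, map_mul, map_pow, resL_strL, resL_strL,
          resL_jL, mul_pow, ← mul_assoc, ← map_pow, ← map_mul] at heq
        have hcoef := coeff_inj hLq hjl (hV.basicOpen b) (isGen_res _ he) heq
        have hy' : y ∈ X.basicOpen (resO X (X.basicOpen_le b) g) := by
          rw [← hcoef, X.basicOpen_mul]
          refine ⟨(Scheme.basicOpen_res X c _).ge ⟨h2, hy⟩, ?_⟩
          rw [X.basicOpen_pow _ hm]
          exact (Scheme.basicOpen_res X b _).ge ⟨h2, h2⟩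
        exact ((Scheme.basicOpen_res X g _).le hy').2
    refine Iff.trans ?_ hkey
    constructor
    · intro hy
      obtain ⟨V', hV', hV'le, hyV', hspan⟩ := (mem_NV_iff u hY _ a y).1 hy
      exact mem_basicOpen_of_span hLq hjl hV he hV' ((u.app ⊤).hom a) hV'le (le_top' V) (g * b) haV hyV' hyV hspan
    · intro hy
      refine (mem_NV_iff u hY _ a y).2 ⟨X.basicOpen (g * b), hV.basicOpen _, le_top' _, hy, ?_⟩
      have := subset_span_basicOpen hLq hjl hV he (m + 1) (g * b)
      rwa [← haV, resL_resL] at this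
  refine ⟨m + 1, a, by omega, ha, hNV ▸ (hpre.le hxh : x ∈ U'), hNV ▸ hU', ?_⟩
  refine Rel.condSet_congr_all u hY _ _ hNV.symm (le_top' U') _ ?_
  intro z
  let CS := Rel.condSubring u hY ha (le_top' U')
  show z ∈ CS
  have hres : ∀ y ∈ Rel.condSubring u hY hf (le_top' U), resO X hU'U y ∈ CS := by
    rintro y ⟨l, hl, s₁, hs₁, he₁⟩
    refine ⟨l, hl, s₁ * s' ^ l, ?_, ?_⟩
    · have := SetLike.mul_mem_graded hs₁ (SetLike.pow_mem_graded l hs')
      exact (show l * 1 + l • m = l * (m + 1) by rw [smul_eq_mul]; ring) ▸ this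
    · have h1 := congrArg (resL 𝒮L hU'U) he₁
      rw [map_mul, map_pow, resL_appLE, resL_appLE, resL_strL] at h1
      rw [map_mul, map_mul, map_pow, ← h1, mul_pow]
      ring
  obtain ⟨d, hd⟩ : ∃ d : Γ(X, U'), d * resO X hU'U c = 1 :=
    (RingedSpace.isUnit_res_basicOpen _ c : IsUnit (resO X hU'U c)).exists_left_inv
  have hdmem : d ∈ CS := by
    refine ⟨1, one_pos, f ^ (m + 1), ?_, ?_⟩
    · have := SetLike.pow_mem_graded (m + 1) hf
      exact (show (m + 1) • 1 = 1 * (m + 1) by simp) ▸ this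
    · have h1 := congrArg (resL 𝒮L hU'U) hs'e
      rw [map_mul, map_pow, resL_appLE, resL_appLE, resL_strL] at h1
      show strL 𝒮L U' d * ((u.appLE ⊤ U' (le_top' U')).hom (s' * f)) ^ 1 = _
      rw [pow_one, map_mul, ← h1, ← mul_assoc, ← mul_assoc, ← map_mul, hd, map_one, one_mul, map_pow,
        ← pow_succ]
  -- functions on `U'` come from the chart
  have hsurj := (IsClosedImmersion.isAffine_surjective_of_isAffine (f := i ∣_ D)).2
  obtain ⟨w, hw⟩ : ∃ w, resO X hpre.ge ((i.app D).hom w) = z := by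
    obtain ⟨v, hv⟩ := hsurj ((i ⁻¹ᵁ D).topIso.inv (resO X hpre.le z))
    obtain ⟨v', rfl⟩ := (ConcreteCategory.bijective_of_isIso D.topIso.inv).2 v
    rw [ProjMor.appTop_morphismRestrict] at hv
    refine ⟨v', ?_⟩
    rw [(ConcreteCategory.bijective_of_isIso (i ⁻¹ᵁ D).topIso.inv).1 hv, QC.resO_resO, QC.resO_self]
  haveI := hW.isLocalization_basicOpen h
  obtain ⟨⟨g, ⟨_, k, rfl⟩⟩, hgk⟩ := IsLocalization.surj (Submonoid.powers h) w
  have hnat : ∀ g' : Γ(CohB1.ProjSpaceOver n Y, W), resO X hpre.ge ((i.app D).hom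
      (algebraMap _ Γ(CohB1.ProjSpaceOver n Y, D) g')) = resO X hU'U ((i.app W).hom g') := by
    intro g'
    show (X.presheaf.map _).hom ((i.app D).hom (((CohB1.ProjSpaceOver n Y).presheaf.map _).hom g')) =
      (X.presheaf.map _).hom ((i.app W).hom g')
    show ((((CohB1.ProjSpaceOver n Y).presheaf.map (homOfLE ((CohB1.ProjSpaceOver n Y).basicOpen_le h)).op ≫ i.app D) ≫
        X.presheaf.map (homOfLE hpre.ge).op)).hom g' = _
    rw [i.naturality, Category.assoc, ← Functor.map_comp]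
    rfl
  have hz := congrArg (fun v => resO X hpre.ge ((i.app D).hom v)) hgk
  simp only [map_mul, hnat, hw, map_pow] at hz
  have hz' : z = resO X hU'U ((i.app W).hom g) * d ^ k := by
    rw [← hz, mul_assoc, ← mul_pow, mul_comm _ d, hd, one_pow, mul_one]
  exact hz' ▸ mul_mem (hres _ (hH g)) (pow_mem hdmem k)

set_option maxHeartbeats 1600000 in
/-- Very ample relative to projective space over an affine base gives very ample. -/
theorem isRelVeryAmple_of_pn_affine [IsAffine Y] (q : X ⟶ Y) [QuasiCompact q] {L : X.Modules}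
    (hL : PicF.IsInvertible L) (h : RelAmple.IsRelVeryAmplePn q L) : RelProj.IsRelVeryAmple q L := by
  obtain ⟨n, i, hi, hif, ⟨φ⟩⟩ := h
  replace hif : i ≫ CohB1.ProjSpaceOver.toBase n Y = q := hif
  obtain ⟨s, hs⟩ := ProjMor.exists_coordinate_sections i φ
  haveI := hi
  haveI : IsSeparated q := by
    haveI := Groth.Agent.HQProj.isProper_toBase n Y
    rw [← hif]; infer_instance
  have hLq : Coh.IsQCoh L := TMul.isQCoh_of_isInvertible hL
  haveI : L.IsQuasicoherent := hLq
  have hF : Coh.IsQCoh ((Scheme.Modules.pushforward q).obj L) := QC.isQCoh_pushforward q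
  obtain ⟨𝒮, jF, hjF⟩ := exists_isGrSymAlg hF
  obtain ⟨𝒮L, jl, hjl⟩ := exists_isGrSymAlg hLq
  obtain ⟨u, hu⟩ := exists_canon hF hjF hjl
  obtain ⟨P, p, ch, hP⟩ := RelProjLib.exists_isRelProj 𝒮
  obtain ⟨PL, pL, chartL, hPL⟩ := RelProjLib.exists_isRelProj 𝒮L
  obtain ⟨r, hr, -⟩ := RelProjLib.existsUnique_qmap u hP hPL
  haveI := isIso_pL hL hLq hjl hPL
  have hY : IsAffineOpen (⊤ : Y.Opens) := isAffineOpen_top Y
  choose m a hm ha hxNV hO hsurj using
    exists_local_data_pn hL hLq hjF hjl hu hY i s hs hi hif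
  have hNV : ∀ z : PL, ∃ W : X.affineOpens, pL z ∈ W.1 ∧
      Rel.Nonvanishing u hY (m (pL z)) (a (pL z)) W := fun z => by
    obtain ⟨⟨W, hW⟩, hzW⟩ := Opens.mem_iSup.mp (hxNV (pL z))
    exact ⟨W, hzW, hW⟩
  have htop : RelProj.domQ u pL chartL = ⊤ := top_le_iff.mp fun z _ => by
    obtain ⟨W, hzW, hW⟩ := hNV z
    exact (Rel.mem_domQ_of_nonvanishing hL hLq hjl u hPL hY (hm _) (ha _) hW hzW).1
  haveI : IsIso (RelProj.domQ u pL chartL).ι := by
    rw [htop]; exact (Scheme.topIso PL).isIso_hom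
  let D : X → P.Opens := fun x => Rel.DPlus p ch hY (a x)
  have hclosed : ∀ x, IsClosedImmersion (r ∣_ D x) := fun x =>
    (Rel.isClosedImmersion_restrict_iff hL hLq hjl u hPL hr hY hP (hm x) (ha x) (hO x)
      (Rel.NV_le u _ _ _) rfl).mpr (hsurj x)
  have hpre : r ⁻¹ᵁ (⨆ x, D x) = ⊤ := top_le_iff.mp fun w _ => by
    obtain ⟨W, hzW, hW⟩ := hNV ((RelProj.domQ u pL chartL).ι w)
    obtain ⟨w', hw', e⟩ := (Rel.mem_preimage_basicOpen_iff hL hLq hjl u hPL hr hY hP (hm _) (ha _)
      _).mpr ⟨W, hzW, hW⟩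
    obtain rfl := (RelProj.domQ u pL chartL).ι.isOpenEmbedding.injective e
    exact Opens.mem_iSup.mpr ⟨_, hw'⟩
  haveI : IsImmersion r := by
    obtain ⟨e, he⟩ := eq_comp_restrict r hpre
    haveI : IsClosedImmersion (r ∣_ ⨆ x, D x) := prop_restrict_iSup r @IsClosedImmersion D hclosed
    rw [he]
    infer_instance
  have hcov : ∀ x : X, ∃ c : GenPair q L, x ∈ c.U' := fun x => by
    obtain ⟨g, hg, hgx⟩ := ProjMor.exists_notMem (ProjMor.genDegOne_projSpace n (ULift.{u} ℤ)) ((i ≫ pz n Y) x)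
    obtain ⟨c, rfl⟩ := ProjMor.exists_of_mem_one (ProjMor.linForms_mem n (ULift.{u} ℤ))
      (ProjMor.adjoin_linForms n (ULift.{u} ℤ)) hg
    obtain ⟨j, hj⟩ : ∃ j, (i ≫ pz n Y) x ∈ ProjMor.chart n j := by
      by_contra hn
      push Not at hn
      refine hgx ?_
      rw [ProjMor.linForms, Fintype.linearCombination_apply]
      refine Submodule.sum_mem _ fun k _ => ?_
      rw [Algebra.smul_def]
      refine Ideal.mul_mem_left _ _ ?_
      by_contra hmem
      exact hn k ((ProjectiveSpectrum.mem_basicOpen _ _ _).mpr hmem)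
    obtain ⟨U', hU', hxU', hle⟩ := exists_isAffineOpen_mem_and_subset
      (show x ∈ i ⁻¹ᵁ chartOver n j (⊤ : Y.Opens) from ⟨hj, trivial⟩)
    have hgen := (isGen_coord hY i s hs j).res (show U' ≤ i ⁻¹ᵁ chartOver n j (⊤ : Y.Opens) from hle)
    rw [res_res] at hgen
    exact ⟨⟨⊤, hY, U', hU', le_top' U', res L le_top (s j), by rw [res_res]; exact hgen⟩, hxU'⟩
  obtain ⟨O1, lam, hO1⟩ := (RelTilde.Datum.self 𝒮).exists_isTilde hP (1 : ℤ)
  obtain ⟨d⟩ := nonempty_pullback_twist_iso hL hLq hF hjF hjl hu hP hPL hr hcov htop hO1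
  refine ⟨_, hF, 𝒮, jF, hjF, P, p, ch, hP, O1, lam, (RelTilde.isRelTwist_iff 𝒮 1 O1 lam).mpr hO1,
    inv pL ≫ inv (RelProj.domQ u pL chartL).ι ≫ r, inferInstance, ?_, ⟨d⟩⟩
  rw [Category.assoc, Category.assoc, RelProjLib.qmap_over u hP hPL hr, IsIso.inv_hom_id_assoc,
    IsIso.inv_hom_id_assoc]

end Groth.Agent.SymAlg
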