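import Groth.Agent.SymAlg.ProjProper
import Groth.Agent.SymAlg.VAmplePn
import Groth.Agent.SymAlg.PnOfFT
import Groth.Agent.HQProj.Basic
import Groth.Agent.SymAlg.VAmpleComp

/-!
H-projective morphisms and projective morphisms.
-/

set_option autoImplicit false
set_option backward.isDefEq.respectTransparency false
set_option linter.style.haveILetI false
set_option linter.unusedSectionVars false

universe u

open CategoryTheory CategoryTheory.Limits AlgebraicGeometry TopologicalSpace Opposite

noncomputable section

namespace Groth.Agent.SymAlg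

open Groth.Agent

/-- A closed subscheme of a projective scheme is projective. -/
theorem isProjective_closedImm_comp {Y X X' : Scheme.{u}} {f : X ⟶ Y} (s : X' ⟶ X) [IsClosedImmersion s]
    (h : RelProj.IsProjective f) : RelProj.IsProjective (s ≫ f) := by
  obtain ⟨E, 𝒯, j, P, p, ch, i, hE, hft, hj, hP, hi, hip⟩ := exists_closedImm_bundle h
  exact isProjective_of_closedImm_bundle hE hft hj hP (s ≫ i) (by rw [Category.assoc, hip])

/-- A proper morphism over an affine base with an immersion into projective space is projective. -/
theorem isProjective_toBase_affine (n : ℕ) (S : Scheme.{u}) [IsAffine S] :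
    RelProj.IsProjective (CohB1.ProjSpaceOver.toBase n S) := by
  haveI := Groth.Agent.HQProj.isProper_toBase n S
  have hL : PicF.IsInvertible (Twist.twistOver n S 1) :=
    ProjMor.isInvertible_pull1 (ProjMor.genDegOne_projSpace n (ULift.{u} ℤ)) (ProjMor.pz n S)
  exact isProjective_of_ftData _ (ftData_of_isRelVeryAmple _ hL (isRelVeryAmple_twistOver n))

/-- Projective space over any base is projective. -/
theorem isProjective_toBase (n : ℕ) (S : Scheme.{u}) :
    RelProj.IsProjective (CohB1.ProjSpaceOver.toBase n S) := by
  let S₀ : Scheme.{u} := Spec (CommRingCat.of (ULift.{u} ℤ))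
  let t := CohB1.ProjSpace.toSpec n (ULift.{u} ℤ)
  let g := specULiftZIsTerminal.from S
  let a : CohB1.ProjSpaceOver n S ⟶ CohB1.ProjSpaceOver n S₀ :=
    pullback.map t g t (specULiftZIsTerminal.from S₀) (𝟙 _) g (𝟙 _) (by simp)
      (specULiftZIsTerminal.hom_ext _ _)
  have hsq : IsPullback a (CohB1.ProjSpaceOver.toBase n S) (CohB1.ProjSpaceOver.toBase n S₀) g := by
    refine IsPullback.of_right (h₁₂ := pullback.fst t (specULiftZIsTerminal.from S₀))
      (h₂₂ := specULiftZIsTerminal.from S₀) (v₁₃ := t) ?_ ?_ (IsPullback.of_hasPullback _ _)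
    · have e1 : a ≫ pullback.fst t (specULiftZIsTerminal.from S₀) = pullback.fst t g := by
        simp [a]
      have e2 : g ≫ specULiftZIsTerminal.from S₀ = specULiftZIsTerminal.from S :=
        specULiftZIsTerminal.hom_ext _ _
      rw [e1, e2]
      exact IsPullback.of_hasPullback _ _
    · exact pullback.lift_snd _ _ _
  exact isProjective_baseChange hsq (isProjective_toBase_affine n S₀)

/-- H-projective morphisms are projective. -/
theorem isProjective_of_isHProjective {X S : Scheme.{u}} {f : X ⟶ S} (h : RelProj.IsHProjective f) :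
    RelProj.IsProjective f := by
  obtain ⟨n, i, hi, rfl⟩ := h
  exact isProjective_closedImm_comp i (isProjective_toBase n S)

/-- An immersion of a proper scheme into projective space gives H-projectivity. -/
theorem isHProjective_of_pn {X S : Scheme.{u}} (f : X ⟶ S) [IsProper f] {L : X.Modules}
    (h : RelAmple.IsRelVeryAmplePn f L) : RelProj.IsHProjective f := by
  obtain ⟨n, i, hi, hif, -⟩ := h
  replace hif : i ≫ CohB1.ProjSpaceOver.toBase n S = f := hif
  haveI := hi
  haveI := Groth.Agent.HQProj.isProper_toBase n S
  haveI : IsProper (i ≫ CohB1.ProjSpaceOver.toBase n S) := hif ▸ (inferInstance : IsProper f)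
  haveI : IsProper i := IsProper.of_comp i (CohB1.ProjSpaceOver.toBase n S)
  exact ⟨n, i, IsClosedImmersion.of_isPreimmersion i i.isClosedMap.isClosed_range, hif⟩

/-- Over an affine base projective morphisms are H-projective. -/
theorem isHProjective_of_affine {X S : Scheme.{u}} [IsAffine S] {f : X ⟶ S}
    (h : RelProj.IsProjective f) : RelProj.IsHProjective f := by
  obtain ⟨hf, L, hL⟩ := isProper_and_ftData_of_isProjective h
  exact isHProjective_of_pn f (isRelVeryAmplePn_of_affine f hL.1 hL.isRelVeryAmple)

/-- Projectivity over an open restricts to smaller opens. -/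
theorem isProjective_restrict_of_le {X S : Scheme.{u}} (f : X ⟶ S) {U W : S.Opens} (h : W ≤ U)
    (hf : RelProj.IsProjective (f ∣_ U)) : RelProj.IsProjective (f ∣_ W) := by
  have e : f ⁻¹ᵁ W ≤ f ⁻¹ᵁ U := fun z hz => h hz
  refine isProjective_baseChange (g' := X.homOfLE e) (g := S.homOfLE h) ?_ hf
  refine IsPullback.of_bot ?_ ?_ (isPullback_morphismRestrict f U) |> IsPullback.flip
  · rw [Scheme.homOfLE_ι, Scheme.homOfLE_ι]
    exact isPullback_morphismRestrict f W
  · rw [← cancel_mono U.ι, Category.assoc, Category.assoc, morphismRestrict_ι, Scheme.homOfLE_ι,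
      morphismRestrict_ι, Scheme.homOfLE_ι_assoc]

end Groth.Agent.SymAlg
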