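import Groth.Agent.SymAlg.Inv
import Groth.Agent.RelProjLib.QMap

/-!
`Proj` of the symmetric algebra of an invertible module is the base; non-vanishing loci.
-/

set_option autoImplicit false
set_option backward.isDefEq.respectTransparency false
set_option linter.style.haveILetI false

universe u

open CategoryTheory CategoryTheory.Limits AlgebraicGeometry TopologicalSpace Opposite
open scoped HomogeneousIdeal

noncomputable section

namespace Groth.Agent.SymAlg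

open Groth.Agent TMul

variable {X : Scheme.{u}} {L : X.Modules} (hL : PicF.IsInvertible L) (hLq : Coh.IsQCoh L)
  {𝒮L : RelProj.QCGrAlg X} {j : L ⟶ 𝒮L.toModule} (hj : RelProj.IsGrSymAlg L 𝒮L j)
  {PL : Scheme.{u}} {pL : PL ⟶ X}
  {chartL : ∀ (U : X.Opens) (hU : IsAffineOpen U),
    ((pL ⁻¹ᵁ U : PL.Opens) : Scheme.{u}) ≅ Proj (𝒮L.deg U hU)}
  (hPL : RelProj.IsRelProj 𝒮L pL chartL)

include hL in
/-- Small affine neighbourhoods with generators. -/
lemma exists_triv {O : X.Opens} {x : X} (hx : x ∈ O) :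
    ∃ (V : X.Opens) (_ : IsAffineOpen V) (e : Γ(L, V)), x ∈ V ∧ V ≤ O ∧ IsGen e := by
  obtain ⟨U, e, hxU, he⟩ := TMul.exists_isGen hL x
  obtain ⟨V, hV, hxV, hle⟩ := exists_isAffineOpen_mem_and_subset (U := O ⊓ U) (x := x) ⟨hx, hxU⟩
  have h₂ : V ≤ U := fun y hy => (hle hy).2
  exact ⟨V, hV, QC.res L h₂ e, hxV, fun y hy => (hle hy).1, isGen_res h₂ he⟩

include hL in
/-- Basic open neighbourhoods with generators. -/
lemma exists_triv_basic {W : X.Opens} (hW : IsAffineOpen W) {x : X} (hx : x ∈ W) :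
    ∃ (r : Γ(X, W)) (e : Γ(L, X.basicOpen r)), x ∈ X.basicOpen r ∧ IsGen e := by
  obtain ⟨V, -, e, hxV, hle, he⟩ := exists_triv hL hx
  obtain ⟨r, hr, hxr⟩ := hW.exists_basicOpen_le (V := V) ⟨x, hxV⟩ hx
  exact ⟨r, QC.res L hr e, hxr, isGen_res hr he⟩

include hL hLq hj hPL in
/-- The structure morphism is an isomorphism. -/
theorem isIso_pL : IsIso pL := by
  refine (IsZariskiLocalAtTarget.iff_of_iSup_eq_top (P := MorphismProperty.isomorphisms Scheme.{u})
    (fun V : {V : X.affineOpens // ∃ e : Γ(L, V.1), IsGen e} => V.1.1) ?_).mpr fun V => ?_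
  · refine eq_top_iff.mpr fun x _ => ?_
    obtain ⟨V, hV, e, hxV, -, he⟩ := exists_triv hL (O := ⊤) (x := x) trivial
    exact Opens.mem_iSup.mpr ⟨⟨⟨V, hV⟩, e, he⟩, hxV⟩
  · obtain ⟨e, he⟩ := V.2
    exact ((MorphismProperty.isomorphisms Scheme.{u}).arrow_mk_iso_iff
      (Arrow.isoMk (chartL V.1.1 V.1.2) V.1.2.isoSpec
        (RelProjLib.chart_hom_affBase hPL V.1.1 V.1.2))).mpr (isIso_affBase hLq hj V.1.2 he)

include hLq hj hPL in
/-- `D₊(c e^n)` lies over `D(c)`. -/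
lemma mem_emb_triv_iff {V : X.Opens} (hV : IsAffineOpen V) {e : Γ(L, V)} (he : IsGen e)
    {n : ℕ} (hn : 0 < n) (c : Γ(X, V)) {z : PL} (hz : pL z ∈ V) :
    z ∈ RelProj.emb pL chartL V hV ''ᵁ
        Proj.basicOpen (𝒮L.deg V hV) (strL 𝒮L V c * jL j V e ^ n) ↔ pL z ∈ X.basicOpen c := by
  obtain ⟨y, rfl⟩ : z ∈ (RelProj.emb pL chartL V hV).opensRange := by
    rw [RelProjLib.opensRange_emb]; exact hz
  have h1 : pL (RelProj.emb pL chartL V hV y) = hV.fromSpec (RelProjLib.affBase 𝒮L V hV y) := by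
    rw [← Scheme.Hom.comp_apply, RelProjLib.emb_p hPL]
    rfl
  rw [h1]
  change _ ↔ RelProjLib.affBase 𝒮L V hV y ∈ hV.fromSpec ⁻¹ᵁ X.basicOpen c
  rw [hV.fromSpec_preimage_basicOpen, ← mem_basicOpen_iff_affBase hLq hj hV he hn c y]
  exact ⟨fun ⟨y', hy', h⟩ => (RelProj.emb pL chartL V hV).isOpenEmbedding.injective h ▸ hy',
    fun h => ⟨y, h, rfl⟩⟩

include hPL in
/-- Compatibility of `D₊` with restriction to basic opens. -/
lemma mem_emb_res_iff {W : X.Opens} (hW : IsAffineOpen W) (r : Γ(X, W)) (f : 𝒮L.presheaf.obj (op W))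
    {z : PL} (hz : pL z ∈ X.basicOpen r) :
    z ∈ RelProj.emb pL chartL W hW ''ᵁ Proj.basicOpen (𝒮L.deg W hW) f ↔
      z ∈ RelProj.emb pL chartL (X.basicOpen r) (hW.basicOpen r) ''ᵁ
        Proj.basicOpen (𝒮L.deg (X.basicOpen r) (hW.basicOpen r)) (resL 𝒮L (X.basicOpen_le r) f) := by
  let V : X.AffineZariskiSite := RelProjLib.azs (X.basicOpen r) (hW.basicOpen r)
  obtain ⟨y, rfl⟩ : z ∈ (RelProj.emb pL chartL (X.basicOpen r) (hW.basicOpen r)).opensRange := by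
    rw [RelProjLib.opensRange_emb]; exact hz
  have hle : V ≤ RelProjLib.azs W hW := ⟨r, rfl⟩
  have h1 : RelProj.emb pL chartL W hW ((RelProjLib.functor 𝒮L).map (homOfLE hle) y) =
      RelProj.emb pL chartL (X.basicOpen r) (hW.basicOpen r) y :=
    (Scheme.Hom.comp_apply _ _ _).symm.trans
      (congrArg (fun m : _ ⟶ PL => m y) (RelProjLib.functor_map_emb hPL (homOfLE hle)))
  constructor
  · rintro ⟨y', hy', h⟩
    obtain rfl := (RelProj.emb pL chartL W hW).isOpenEmbedding.injective (h.trans h1.symm)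
    exact ⟨y, hy', rfl⟩
  · rintro ⟨y', hy', h⟩
    obtain rfl := (RelProj.emb pL chartL (X.basicOpen r) (hW.basicOpen r)).isOpenEmbedding.injective h
    exact ⟨_, hy', h1⟩

include hLq hj in
/-- Where the coefficient is invertible the section generates. -/
lemma subset_span_basicOpen {V : X.Opens} (hV : IsAffineOpen V) {e : Γ(L, V)} (he : IsGen e)
    (n : ℕ) (c : Γ(X, V)) :
    ((𝒮L.deg (X.basicOpen c) (hV.basicOpen c) n :
        AddSubgroup (𝒮L.presheaf.obj (op (X.basicOpen c)))) : Set (𝒮L.presheaf.obj (op (X.basicOpen c)))) ⊆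
      (Ideal.span {resL 𝒮L (X.basicOpen_le c) (strL 𝒮L V c * jL j V e ^ n)} :
        Set (𝒮L.presheaf.obj (op (X.basicOpen c)))) := by
  intro a ha
  obtain ⟨c', rfl⟩ := exists_coeff hLq hj (hV.basicOpen c) (isGen_res (X.basicOpen_le c) he) ha
  obtain ⟨d, hd⟩ : ∃ d : Γ(X, X.basicOpen c), d * QC.resO X (X.basicOpen_le c) c = 1 :=
    (RingedSpace.isUnit_res_basicOpen _ c : IsUnit (QC.resO X (X.basicOpen_le c) c)).exists_left_inv
  rw [SetLike.mem_coe, Ideal.mem_span_singleton]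
  refine ⟨strL 𝒮L (X.basicOpen c) (c' * d), ?_⟩
  rw [map_mul, map_pow, resL_strL, resL_jL, map_mul]
  linear_combination (strL 𝒮L (X.basicOpen c) c' *
    jL j (X.basicOpen c) (QC.res L (X.basicOpen_le c) e) ^ n) *
      (((map_mul (strL 𝒮L (X.basicOpen c)) _ _).symm.trans
        (congrArg (strL 𝒮L (X.basicOpen c)) hd)).trans (map_one _)).symm

include hLq hj in
/-- Conversely a generating section has invertible coefficient. -/
lemma mem_basicOpen_of_span {V₀ : X.Opens} (hV₀ : IsAffineOpen V₀) {e : Γ(L, V₀)} (he : IsGen e)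
    {n : ℕ} {V : X.Opens} (hV : IsAffineOpen V) {O : X.Opens} (f : 𝒮L.presheaf.obj (op O))
    (hVO : V ≤ O) (hV₀O : V₀ ≤ O) (c : Γ(X, V₀))
    (hc : resL 𝒮L hV₀O f = strL 𝒮L V₀ c * jL j V₀ e ^ n) {x : X} (hx : x ∈ V) (hx₀ : x ∈ V₀)
    (hspan : ((𝒮L.deg V hV n : AddSubgroup (𝒮L.presheaf.obj (op V))) : Set (𝒮L.presheaf.obj (op V))) ⊆
      (Ideal.span {resL 𝒮L hVO f} : Set (𝒮L.presheaf.obj (op V)))) :
    x ∈ X.basicOpen c := by
  obtain ⟨r, s, hrs, hxr⟩ := exists_basicOpen_le_affine_inter hV hV₀ x ⟨hx, hx₀⟩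
  have hV₁ : IsAffineOpen (X.basicOpen r) := hV.basicOpen r
  have h₁ : X.basicOpen r ≤ V := X.basicOpen_le r
  have h₀ : X.basicOpen r ≤ V₀ := hrs.trans_le (X.basicOpen_le s)
  let V₁ := X.basicOpen r
  let e₁ := QC.res L h₀ e
  have he₁ : IsGen e₁ := isGen_res h₀ he
  letI := (𝒮L.presheaf.map (homOfLE (X.basicOpen_le r)).op).hom.toAlgebra
  haveI : IsLocalization.Away (strL 𝒮L V r) (𝒮L.presheaf.obj (op V₁)) := 𝒮L.isQC V hV r
  obtain ⟨⟨a, ⟨_, k, rfl⟩⟩, hak⟩ := IsLocalization.surj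
    (Submonoid.powers (strL 𝒮L V r)) (jL j V₁ e₁ ^ n)
  change jL j V₁ e₁ ^ n * resL 𝒮L h₁ (strL 𝒮L V r ^ k) = resL 𝒮L h₁ a at hak
  let a' : 𝒮L.presheaf.obj (op V) := (DirectSum.decompose (𝒮L.deg V hV) a n : 𝒮L.presheaf.obj (op V))
  have ha' : resL 𝒮L h₁ a' = jL j V₁ e₁ ^ n * resL 𝒮L h₁ (strL 𝒮L V r ^ k) := by
    change 𝒮L.res hV hV₁ h₁ a' = _
    rw [show a' = (DirectSum.decompose (𝒮L.deg V hV) a n : 𝒮L.presheaf.obj (op V)) from rfl,
      GradedRingHom.map_directSumDecompose, RelProj.QCGrAlg.res_apply, ← hak,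
      DirectSum.decompose_of_mem_same]
    rw [map_pow, resL_strL, ← map_pow, mul_comm]
    exact mem_deg_mul_pow hj hV₁ _ n
  obtain ⟨b, hb⟩ := Ideal.mem_span_singleton.mp (hspan (SetLike.coe_mem _ : a' ∈ 𝒮L.deg V hV n))
  have hf₁ : resL 𝒮L h₁ (resL 𝒮L hVO f) =
      strL 𝒮L V₁ (QC.resO X h₀ c) * jL j V₁ e₁ ^ n := by
    rw [resL_resL, show resL 𝒮L (h₁.trans hVO) f = resL 𝒮L h₀ (resL 𝒮L hV₀O f) from
      (resL_resL h₀ hV₀O f).symm, hc, map_mul, map_pow, resL_strL, resL_jL]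
  have h := congrArg (resL 𝒮L h₁) hb
  rw [ha', map_mul, hf₁, map_pow, resL_strL, ← map_pow] at h
  obtain ⟨p, hp⟩ := (evalL_bijective hLq hj hV₁ he₁).2 (resL 𝒮L h₁ b)
  rw [← hp] at h
  have h' : evalL j V₁ e₁ (Polynomial.monomial n (QC.resO X h₁ r ^ k)) =
      evalL j V₁ e₁ (p * Polynomial.monomial n (QC.resO X h₀ c)) := by
    rw [map_mul, Polynomial.coe_eval₂RingHom, Polynomial.eval₂_monomial, Polynomial.eval₂_monomial,
      ← Polynomial.coe_eval₂RingHom]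
    linear_combination h
  have h'' := congrArg (fun q => Polynomial.coeff q n) ((evalL_bijective hLq hj hV₁ he₁).1 h')
  rw [Polynomial.coeff_monomial_same, show ((p * Polynomial.monomial n (QC.resO X h₀ c)).coeff n) = p.coeff 0 * QC.resO X h₀ c by
    simpa using Polynomial.coeff_mul_monomial p n 0 (QC.resO X h₀ c)] at h''
  have hu : IsUnit (p.coeff 0 * QC.resO X h₀ c) := by
    rw [← h'']
    exact (RingedSpace.isUnit_res_basicOpen _ r : IsUnit (QC.resO X h₁ r)).pow k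
  have h3 : X.basicOpen r ≤ X.basicOpen c := by
    have := X.basicOpen_of_isUnit (isUnit_of_mul_isUnit_right hu)
    have e2 : X.basicOpen (QC.resO X h₀ c) = V₁ ⊓ X.basicOpen c := X.basicOpen_res c (homOfLE h₀).op
    rw [e2] at this
    exact inf_eq_left.mp this
  exact h3 hxr

include hL hLq hj hPL in
/-- `D₊(f)` lies over the non-vanishing locus of `f`. -/
theorem mem_emb_basicOpen_iff {W : X.Opens} (hW : IsAffineOpen W) {n : ℕ} (hn : 0 < n)
    {f : 𝒮L.presheaf.obj (op W)} (hf : f ∈ 𝒮L.deg W hW n) {z : PL} (hz : pL z ∈ W) :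
    z ∈ RelProj.emb pL chartL W hW ''ᵁ Proj.basicOpen (𝒮L.deg W hW) f ↔
      ∃ (V : X.Opens) (hV : IsAffineOpen V) (h : V ≤ W), pL z ∈ V ∧
        ((𝒮L.deg V hV n : AddSubgroup (𝒮L.presheaf.obj (op V))) : Set (𝒮L.presheaf.obj (op V))) ⊆
          (Ideal.span {resL 𝒮L h f} : Set (𝒮L.presheaf.obj (op V))) := by
  obtain ⟨r, e, hr, he⟩ := exists_triv_basic hL hW hz
  obtain ⟨c, hc⟩ := exists_coeff hLq hj (hW.basicOpen r) he
    (𝒮L.map_mem hW (hW.basicOpen r) (X.basicOpen_le r) hf)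
  change resL 𝒮L (X.basicOpen_le r) f = _ at hc
  rw [mem_emb_res_iff hPL hW r f hr, hc, mem_emb_triv_iff hLq hj hPL (hW.basicOpen r) he hn c hr]
  constructor
  · intro h
    refine ⟨X.basicOpen c, (hW.basicOpen r).basicOpen c, (X.basicOpen_le c).trans (X.basicOpen_le r),
      h, ?_⟩
    have := subset_span_basicOpen hLq hj (hW.basicOpen r) he n c
    rwa [← hc, resL_resL] at this
  · rintro ⟨V, hV, hle, hzV, hspan⟩
    exact mem_basicOpen_of_span hLq hj (hW.basicOpen r) he hV f hle (X.basicOpen_le r) c hc hzV hr hspan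

end Groth.Agent.SymAlg
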