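import Groth.Agent.SymAlg.CanonMap
import Groth.Agent.SymAlg.InvProj
import Groth.Agent.RelTilde.Tensor
import Groth.Agent.TMul.Pullback
import Groth.Agent.TMul.Assoc
import Groth.Agent.S2122

/-!
The inverse of an invertible module, as `O(-1)` on `Proj (⊕ K^n) = Y`.
-/

set_option autoImplicit false
set_option backward.isDefEq.respectTransparency false
set_option linter.style.haveILetI false

universe u

open CategoryTheory CategoryTheory.Limits AlgebraicGeometry TopologicalSpace Opposite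
open scoped HomogeneousIdeal

noncomputable section

namespace Groth.Agent.SymAlg

open Groth.Agent

/-- Every invertible module has an inverse. -/
theorem exists_inverse {Y : Scheme.{u}} {K : Y.Modules} (hK : PicF.IsInvertible K) :
    ∃ K' : Y.Modules, PicF.IsInvertible K' ∧
      Nonempty (CohB1.tensorMod K K' ≅ Coh.structureModule Y) := by
  have hKq : Coh.IsQCoh K := TMul.isQCoh_of_isInvertible hK
  obtain ⟨𝒮, j, hj⟩ := exists_isGrSymAlg hKq
  haveI : K.IsQuasicoherent := hKq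
  have hgen : 𝒮.IsGenDegOne := fun U hU => by
    refine top_le_iff.mp ?_
    rw [← SymAlgGen.gen_eq_top hj.1 hU]
    refine Subring.closure_mono ?_
    rintro _ (⟨r, rfl⟩ | ⟨m, rfl⟩)
    · exact Or.inl (𝒮.str_mem U hU r)
    · exact Or.inr (hj.2 U hU m)
  obtain ⟨P, p, ch, hP⟩ := RelProjLib.exists_isRelProj 𝒮
  haveI := isIso_pL hK hKq hj hP
  obtain ⟨O1, lam, hO1⟩ := (RelTilde.Datum.self 𝒮).exists_isTilde hP (1 : ℤ)
  obtain ⟨On, lamn, hOn⟩ := (RelTilde.Datum.self 𝒮).exists_isTilde hP (-1 : ℤ)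
  obtain ⟨O0, lam0, hO0⟩ := (RelTilde.Datum.self 𝒮).exists_isTilde hP (0 : ℤ)
  obtain ⟨φ, hφ⟩ := exists_isFund hj hP hO1
  haveI : IsIso (((Scheme.Modules.pullbackPushforwardAdjunction p).homEquiv K O1).symm φ) := by
    refine RelTilde.isIso_adjunct p φ hKq hO1.isQCoh fun z => ?_
    obtain ⟨U, hU, e, hxU, -, he⟩ := exists_triv hK (O := ⊤) (x := p.base z) trivial
    refine ⟨U, hU, p ⁻¹ᵁ U, hU.preimage p, le_rfl, hxU,
      RelTilde.isBC_of_isGen p φ le_rfl e he ?_⟩
    exact isGen_fund hj hO1 hφ U hU e le_rfl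
      (le_top.trans (basicOpen_gen_eq_top hKq hj hU he).ge)
  obtain ⟨t⟩ := RelTilde.nonempty_tensor_iso hP (show (-1 : ℤ) + 1 = 0 by norm_num) hOn hO1 hO0 hgen
  obtain ⟨z⟩ := RelTilde.nonempty_twistZero_iso hP hO0
  let K' := (Scheme.Modules.pullback (inv p)).obj On
  let eK : (Scheme.Modules.pullback (inv p)).obj O1 ≅ K :=
    (Scheme.Modules.pullback (inv p)).mapIso
      (asIso (((Scheme.Modules.pullbackPushforwardAdjunction p).homEquiv K O1).symm φ)).symm ≪≫
    (Scheme.Modules.pullbackComp (inv p) p).app K ≪≫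
    (Scheme.Modules.pullbackCongr (IsIso.inv_hom_id p)).app K ≪≫ (Scheme.Modules.pullbackId Y).app K
  obtain ⟨i⟩ := TMul.nonempty_pullTensorIso (inv p) On O1
  let e : CohB1.tensorMod K' K ≅ Coh.structureModule Y :=
    PicGrp.tensorModIso (Iso.refl _) eK.symm ≪≫ i ≪≫
      (Scheme.Modules.pullback (inv p)).mapIso (t ≪≫ z) ≪≫ PicLoc.pullbackStructureIso (inv p)
  exact ⟨K', Groth.Agent.S2122.result K' K e, ⟨TMul.commIso K K' ≪≫ e⟩⟩

end Groth.Agent.SymAlg
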