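import Groth.Agent.SymAlg.Exists
import Groth.Prelude.Def_RelProj2

/-!
The grading of the symmetric algebra of a quasi-coherent module.
-/

set_option autoImplicit false
set_option backward.isDefEq.respectTransparency false
set_option linter.style.haveILetI false

universe u

open CategoryTheory DirectSum AlgebraicGeometry TopologicalSpace Opposite
open AlgebraicGeometry.Scheme AlgebraicGeometry.Scheme.AffineZariskiSite
open scoped Polynomial

noncomputable section

namespace Groth.Agent.SymAlg

section Grader

variable {A : Type u} [CommRing A] (Φ : A →+* A[X])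

/-- `Φ` is the expansion of a grading. -/
structure IsGrader : Prop where
  eval_one : ∀ a, (Φ a).eval 1 = a
  idem : ∀ a d, Φ ((Φ a).coeff d) = Polynomial.C ((Φ a).coeff d) * Polynomial.X ^ d

/-- The elements of degree `d`. -/
def degOf (d : ℕ) : AddSubgroup A where
  carrier := {a | Φ a = Polynomial.C a * Polynomial.X ^ d}
  add_mem' := fun {a b} ha hb => by
    simp only [Set.mem_ofPred_eq] at *
    rw [map_add, ha, hb, map_add, add_mul]
  zero_mem' := by simp
  neg_mem' := fun {a} ha => by
    simp only [Set.mem_ofPred_eq] at *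
    rw [map_neg, ha, map_neg, neg_mul]

lemma mem_degOf {d : ℕ} {a : A} : a ∈ degOf Φ d ↔ Φ a = Polynomial.C a * Polynomial.X ^ d := Iff.rfl

lemma gradedMonoid_degOf : SetLike.GradedMonoid (degOf Φ) where
  one_mem := by rw [mem_degOf]; simp
  mul_mem i j a b ha hb := by
    rw [mem_degOf] at *
    rw [map_mul, ha, hb, map_mul, pow_add]
    ring

variable {Φ}

lemma coeff_mem (h : IsGrader Φ) (a : A) (d : ℕ) : (Φ a).coeff d ∈ degOf Φ d :=
  (mem_degOf Φ).mpr (h.idem a d)

open Classical in
/-- The components of `a`. -/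
def grFun (h : IsGrader Φ) (a : A) : ⨁ d, degOf Φ d :=
  DFinsupp.mk (Φ a).support fun d => ⟨(Φ a).coeff d.1, coeff_mem h a d.1⟩

lemma grFun_apply (h : IsGrader Φ) (a : A) (d : ℕ) : (grFun h a d : A) = (Φ a).coeff d := by
  classical
  rw [grFun, DFinsupp.mk_apply]
  split_ifs with h1
  · rfl
  · rw [Polynomial.notMem_support_iff.mp h1]; rfl

/-- The components, additively. -/
def grDec (h : IsGrader Φ) : A →+ ⨁ d, degOf Φ d :=
  AddMonoidHom.mk' (grFun h) fun a b => by
    refine DFinsupp.ext fun d => Subtype.ext ?_
    refine (grFun_apply h (a + b) d).trans ?_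
    rw [map_add, Polynomial.coeff_add]
    exact (congrArg₂ (· + ·) (grFun_apply h a d) (grFun_apply h b d)).symm

lemma grDec_apply (h : IsGrader Φ) (a : A) (d : ℕ) : (grDec h a d : A) = (Φ a).coeff d :=
  grFun_apply h a d

/-- The graded ring of an expansion. -/
@[reducible] def gradedRingOf (h : IsGrader Φ) : GradedRing (degOf Φ) :=
  haveI := gradedMonoid_degOf Φ
  { __ := gradedMonoid_degOf Φ
    __ := Decomposition.ofAddHom (degOf Φ) (grDec h)
      (by
        classical
        ext a
        change DirectSum.coeAddMonoidHom (degOf Φ) (grDec h a) = a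
        rw [DirectSum.coeAddMonoidHom_eq_dfinsuppSum, DFinsupp.sum]
        conv_rhs => rw [← h.eval_one a, Polynomial.eval_eq_sum, Polynomial.sum]
        have hsub : (grDec h a).support ⊆ (Φ a).support := fun d hd => by
          rw [DFinsupp.mem_support_iff] at hd
          rw [Polynomial.mem_support_iff, ← grDec_apply h a d]
          exact fun h0 => hd (Subtype.ext h0)
        rw [Finset.sum_subset hsub fun d _ hd' => by rw [DFinsupp.notMem_support_iff.mp hd']; rfl]
        exact Finset.sum_congr rfl fun d _ => by rw [one_pow, mul_one]; exact grDec_apply h a d)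
      (by
        refine DirectSum.addHom_ext' fun d => AddMonoidHom.ext fun x => ?_
        refine DFinsupp.ext fun e => Subtype.ext ?_
        simp only [AddMonoidHom.comp_apply, AddMonoidHom.id_apply, DirectSum.coeAddMonoidHom_of]
        rw [grDec_apply h, (mem_degOf Φ).mp x.2]
        by_cases hde : d = e
        · subst hde
          simp [DirectSum.of_eq_same]
        · simp [DirectSum.of_eq_of_ne _ _ _ (Ne.symm hde), Polynomial.coeff_X_pow, Ne.symm hde]) }

end Grader

section Sym

variable (R : Type u) [CommRing R] (M : Type u) [AddCommGroup M] [Module R M]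

/-- `ι m ↦ ι m X`. -/
def symExpand : SymmetricAlgebra R M →ₐ[R] (SymmetricAlgebra R M)[X] :=
  SymmetricAlgebra.lift
    { toFun := fun m => Polynomial.C (SymmetricAlgebra.ι R M m) * Polynomial.X
      map_add' := fun a b => by rw [map_add, map_add, add_mul]
      map_smul' := fun r a => by
        rw [map_smul, RingHom.id_apply, Algebra.smul_def, map_mul, mul_assoc, Algebra.smul_def]
        rfl }

lemma symExpand_ι (m : M) :
    symExpand R M (SymmetricAlgebra.ι R M m) = Polynomial.C (SymmetricAlgebra.ι R M m) * Polynomial.X :=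
  SymmetricAlgebra.lift_ι_apply _ m

lemma isGrader_symExpand : IsGrader (symExpand R M).toRingHom where
  eval_one a := by
    have h : (Polynomial.evalRingHom (1 : SymmetricAlgebra R M)).comp (symExpand R M).toRingHom =
        RingHom.id _ := by
      refine symHom_ext (fun r => ?_) (fun m => ?_)
      · change ((symExpand R M) (algebraMap R _ r)).eval 1 = _
        rw [AlgHom.commutes, Polynomial.algebraMap_apply, Polynomial.eval_C]
        rfl
      · change ((symExpand R M) (SymmetricAlgebra.ι R M m)).eval 1 = _
        rw [symExpand_ι]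
        simp
    exact congr($h a)
  idem a d := by
    let Φ := (symExpand R M).toRingHom
    let σ : (SymmetricAlgebra R M)[X] →+* (SymmetricAlgebra R M)[X][X] :=
      Polynomial.eval₂RingHom
        ((Polynomial.C : (SymmetricAlgebra R M)[X] →+* (SymmetricAlgebra R M)[X][X]).comp
          (Polynomial.C : SymmetricAlgebra R M →+* (SymmetricAlgebra R M)[X]))
        ((Polynomial.C (Polynomial.X : (SymmetricAlgebra R M)[X]) : (SymmetricAlgebra R M)[X][X]) * Polynomial.X)
    have h : (Polynomial.mapRingHom Φ).comp Φ = σ.comp Φ := by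
      refine symHom_ext (T := (SymmetricAlgebra R M)[X][X]) (fun r => ?_) (fun m => ?_)
      · change Polynomial.map Φ ((symExpand R M) (algebraMap R (SymmetricAlgebra R M) r)) = σ ((symExpand R M) (algebraMap R (SymmetricAlgebra R M) r))
        rw [AlgHom.commutes, Polynomial.algebraMap_apply, Polynomial.map_C]
        change Polynomial.C ((symExpand R M) (algebraMap R _ r)) = _
        rw [AlgHom.commutes, Polynomial.algebraMap_apply]
        simp [σ]
      · change Polynomial.map Φ ((symExpand R M) (SymmetricAlgebra.ι R M m)) =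
          σ ((symExpand R M) (SymmetricAlgebra.ι R M m))
        rw [symExpand_ι, Polynomial.map_mul, Polynomial.map_C, Polynomial.map_X]
        change Polynomial.C ((symExpand R M) _) * _ = _
        rw [symExpand_ι]
        simp only [σ, map_mul, Polynomial.coe_eval₂RingHom, Polynomial.eval₂_C, Polynomial.eval₂_X,
          RingHom.comp_apply]
        ring
    have h1 : (Polynomial.map Φ (Φ a)).coeff d = (σ (Φ a)).coeff d :=
      congrArg (fun p => Polynomial.coeff p d) (congr($h a))
    rw [Polynomial.coeff_map] at h1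
    refine h1.trans ?_
    simp only [σ, Polynomial.coe_eval₂RingHom]
    rw [Polynomial.eval₂_eq_sum, Polynomial.sum, Polynomial.finsetSum_coeff]
    have h2 : ∀ (e : ℕ) (c : SymmetricAlgebra R M),
        ((Polynomial.C.comp Polynomial.C) c * (Polynomial.C Polynomial.X * Polynomial.X) ^ e :
          (SymmetricAlgebra R M)[X][X]).coeff d =
        if d = e then Polynomial.C c * Polynomial.X ^ e else 0 := fun e c => by
      rw [(Polynomial.commute_X _).symm.mul_pow, ← map_pow, RingHom.comp_apply, ← mul_assoc, ← map_mul, Polynomial.coeff_C_mul,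
        Polynomial.coeff_X_pow, mul_ite, mul_one, mul_zero]
    simp only [h2, Finset.sum_ite_eq]
    split_ifs with hd
    · rfl
    · rw [show (symExpand R M).toRingHom = Φ from rfl, Polynomial.notMem_support_iff.mp hd]
      simp

end Sym

variable {S : Scheme.{u}} {E : S.Modules}

/-- Existence of the graded symmetric algebra. -/
theorem exists_isGrSymAlg (hE : Coh.IsQCoh E) :
    ∃ (𝒮 : RelProj.QCGrAlg S) (j : E ⟶ 𝒮.toModule), RelProj.IsGrSymAlg E 𝒮 j := by
  obtain ⟨A, j, γ, hA, hs, hj⟩ := exists_isSymAlg hE
  let e : ∀ U : S.AffineZariskiSite, A.presheaf.obj (op U.1) ≃+* SymmetricAlgebra Γ(S, U.1) Γ(E, U.1) :=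
    fun U => (γ.app (op U)).commRingCatIsoToRingEquiv
  let Φ : ∀ U : S.AffineZariskiSite, A.presheaf.obj (op U.1) →+* (A.presheaf.obj (op U.1))[X] :=
    fun U => (Polynomial.mapRingHom (e U).symm.toRingHom).comp
      ((symExpand Γ(S, U.1) Γ(E, U.1)).toRingHom.comp (e U).toRingHom)
  have hestr : ∀ (U : S.AffineZariskiSite) (r : Γ(S, U.1)),
      e U ((A.str.app (op U.1)).hom r) = algebraMap _ _ r := fun U r =>
    congr($(NatTrans.congr_app hs (op U)) r)
  have hstr : ∀ (U : S.AffineZariskiSite) (r : Γ(S, U.1)),
      Φ U ((A.str.app (op U.1)).hom r) = Polynomial.C ((A.str.app (op U.1)).hom r) := fun U r => by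
    change Polynomial.map _ ((symExpand _ _) (e U _)) = _
    rw [hestr, AlgHom.commutes, Polynomial.algebraMap_apply, Polynomial.map_C]
    refine congrArg Polynomial.C ?_
    rw [← hestr]
    exact (e U).symm_apply_apply _
  have hΦj : ∀ (U : S.AffineZariskiSite) (m : Γ(E, U.1)),
      Φ U (j.app U.1 m) =
        Polynomial.C (show A.presheaf.obj (op U.1) from j.app U.1 m) * Polynomial.X := fun U m => by
    rw [hj]
    change Polynomial.map _ ((symExpand _ _) (e U ((e U).symm _))) = _
    rw [RingEquiv.apply_symm_apply, symExpand_ι, Polynomial.map_mul, Polynomial.map_C, Polynomial.map_X]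
    rfl
  have hg : ∀ U, IsGrader (Φ U) := fun U => by
    have H := isGrader_symExpand Γ(S, U.1) Γ(E, U.1)
    refine ⟨fun a => ?_, fun a d => ?_⟩
    · change (Polynomial.map (e U).symm.toRingHom ((symExpand _ _).toRingHom (e U a))).eval 1 = a
      rw [Polynomial.eval_one_map, H.eval_one]
      exact (e U).symm_apply_apply a
    · change Polynomial.map (e U).symm.toRingHom ((symExpand _ _).toRingHom
        (e U ((Polynomial.map (e U).symm.toRingHom ((symExpand _ _).toRingHom (e U a))).coeff d))) = _
      rw [Polynomial.coeff_map]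
      change Polynomial.map _ ((symExpand _ _).toRingHom (e U ((e U).symm _))) = _
      rw [RingEquiv.apply_symm_apply, H.idem, Polynomial.map_mul, Polynomial.map_C,
        Polynomial.map_pow, Polynomial.map_X]
      refine congrArg (fun c => Polynomial.C c * Polynomial.X ^ d) ?_
      exact (Polynomial.coeff_map (e U).symm.toRingHom d).symm
  let 𝒮 : RelProj.QCGrAlg S :=
    { A with
      deg := fun U hU => degOf (Φ ⟨U, hU⟩)
      graded := fun U hU => gradedRingOf (hg ⟨U, hU⟩)
      str_mem := fun U hU r => by rw [mem_degOf, hstr ⟨U, hU⟩ r, pow_zero, mul_one]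
      map_mem := fun {U V} hU hV i {d x} hx => by
        let ρ : A.presheaf.obj (op U) →+* A.presheaf.obj (op V) :=
          (A.presheaf.map (homOfLE i).op).hom
        have hsym : (Φ ⟨V, hV⟩).comp (ρ.comp (e ⟨U, hU⟩).symm.toRingHom) =
            (Polynomial.mapRingHom ρ).comp ((Φ ⟨U, hU⟩).comp (e ⟨U, hU⟩).symm.toRingHom) := by
          refine symHom_ext (fun r => ?_) (fun m => ?_)
          · change Φ ⟨V, hV⟩ (ρ ((e ⟨U, hU⟩).symm (algebraMap _ _ r))) =
              Polynomial.map ρ (Φ ⟨U, hU⟩ ((e ⟨U, hU⟩).symm (algebraMap _ _ r)))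
            rw [← hestr ⟨U, hU⟩ r, RingEquiv.symm_apply_apply, hstr ⟨U, hU⟩ r, Polynomial.map_C,
              show ρ ((A.str.app (op U)).hom r) = (A.str.app (op V)).hom
                ((S.presheaf.map (homOfLE i).op).hom r) from
                (congr($(A.str.naturality (homOfLE i).op) r)).symm, hstr ⟨V, hV⟩]
          · change Φ ⟨V, hV⟩ (ρ ((γ.inv.app (op ⟨U, hU⟩)).hom _)) =
              Polynomial.map ρ (Φ ⟨U, hU⟩ ((γ.inv.app (op ⟨U, hU⟩)).hom _))
            rw [← hj ⟨U, hU⟩ m, hΦj ⟨U, hU⟩ m, Polynomial.map_mul, Polynomial.map_C, Polynomial.map_X,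
              show ρ (j.app U m) = j.app V (QC.res E i m) from QC.app_res j i m]
            exact hΦj ⟨V, hV⟩ _
        have hx' : Φ ⟨U, hU⟩ x = Polynomial.C x * Polynomial.X ^ d := hx
        have h1 := congr($hsym (e ⟨U, hU⟩ x))
        simp only [RingHom.comp_apply, RingEquiv.toRingHom_eq_coe, RingHom.coe_coe,
          RingEquiv.symm_apply_apply, hx', Polynomial.coe_mapRingHom, Polynomial.map_mul,
          Polynomial.map_C, Polynomial.map_pow, Polynomial.map_X] at h1
        exact h1 }
  exact ⟨𝒮, j, hA, fun U hU m => by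
    change Φ ⟨U, hU⟩ _ = _
    rw [hΦj ⟨U, hU⟩ m, pow_one]⟩

end Groth.Agent.SymAlg
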