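import Groth.Prelude.Def_RelSpec
import Groth.Agent.RelSpec.Basic

/-!
A quasi-coherent algebra from a coequifibered presheaf of rings on the affine opens.
-/

set_option autoImplicit false
set_option linter.style.haveILetI false
set_option backward.isDefEq.respectTransparency false

universe u

open CategoryTheory CategoryTheory.Limits AlgebraicGeometry TopologicalSpace Opposite
open AlgebraicGeometry.Scheme AlgebraicGeometry.Scheme.AffineZariskiSite

noncomputable section

namespace Groth.Agent.SymAlg

variable {S : Scheme.{u}} {F : S.AffineZariskiSiteᵒᵖ ⥤ CommRingCat.{u}}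
  {α : (toOpensFunctor S).op ⋙ S.presheaf ⟶ F} (H : α.Coequifibered)

instance : ((relativeGluingData H).functor ⋙ Scheme.forget).IsLocallyDirected :=
  Cover.RelativeGluingData.instIsLocallyDirectedI₀CompFunctorForgetOfIsThin ..

/-- The glued scheme. -/
def glSpec : Scheme.{u} := (relativeGluingData H).glued

/-- Its structure map. -/
def glBase : glSpec H ⟶ S := (relativeGluingData H).toBase

/-- Its charts. -/
def glChart (U : S.AffineZariskiSite) : Spec (F.obj (op U)) ⟶ glSpec H :=
  (relativeGluingData H).cover.f U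

instance (U : S.AffineZariskiSite) : IsOpenImmersion (glChart H U) :=
  (relativeGluingData H).cover.map_prop U

@[reassoc]
lemma glChart_glBase (U : S.AffineZariskiSite) :
    glChart H U ≫ glBase H = Spec.map (α.app (op U)) ≫ U.2.fromSpec := by
  refine (colimit.ι_desc _ U).trans ?_
  simp [relativeGluingData, IsAffineOpen.isoSpec_inv_ι]

lemma map_glChart {U V : S.AffineZariskiSite} (h : U ≤ V) :
    Spec.map (F.map (homOfLE h).op) ≫ glChart H V = glChart H U :=
  colimit.w (relativeGluingData H).functor (homOfLE h)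

lemma preimage_eq_range (U : S.AffineZariskiSite) :
    glBase H ⁻¹ᵁ U.1 = (glChart H U).opensRange := by
  have := (relativeGluingData H).toBase_preimage_eq_opensRange_ι U
  simpa [glBase, glChart] using! this

instance isAffineHom_glBase : IsAffineHom (glBase H) where
  isAffine_preimage U hU := by
    rw [preimage_eq_range H ⟨U, hU⟩]
    exact isAffineOpen_opensRange _

/-- Sections over the preimage of an affine open. -/
def glObj (U : S.AffineZariskiSite) : Γ(glSpec H, glBase H ⁻¹ᵁ U.1) ⟶ F.obj (op U) :=
  (glChart H U).appLE (glBase H ⁻¹ᵁ U.1) ⊤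
    (fun x _ => (preimage_eq_range H U).ge ⟨x, rfl⟩) ≫ (Scheme.ΓSpecIso _).hom

instance (U : S.AffineZariskiSite) : IsIso (glObj H U) := by
  have h := preimage_eq_range H U
  have : IsIso ((glChart H U).appLE (glBase H ⁻¹ᵁ U.1) ⊤ (fun x _ => h.ge ⟨x, rfl⟩)) := by
    have h2 : glChart H U ⁻¹ᵁ (glBase H ⁻¹ᵁ U.1) = ⊤ := by
      rw [h, Scheme.Hom.preimage_opensRange]
    have := (glChart H U).isIso_app (glBase H ⁻¹ᵁ U.1) h.le
    rw [Scheme.Hom.appLE]
    haveI : IsIso (homOfLE h2.ge) := ⟨homOfLE h2.le, Subsingleton.elim _ _, Subsingleton.elim _ _⟩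
    haveI : IsIso (homOfLE h2.ge).op := inferInstance
    haveI : IsIso ((Spec (F.obj (op U))).presheaf.map (homOfLE h2.ge).op) :=
      Functor.map_isIso _ _
    infer_instance
  rw [glObj]
  infer_instance

lemma glObj_naturality {U V : S.AffineZariskiSite} (h : U ≤ V) :
    (glSpec H).presheaf.map
        (homOfLE ((glBase H).preimage_mono (toOpens_mono h))).op ≫ glObj H U =
      glObj H V ≫ F.map (homOfLE h).op := by
  rw [glObj, glObj, Scheme.Hom.map_appLE_assoc, Category.assoc,
    ← Scheme.ΓSpecIso_naturality, ← Category.assoc]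
  congr 1
  rw [Scheme.Hom.appTop, Scheme.Hom.app_eq_appLE]
  rw [Scheme.Hom.appLE_comp_appLE]
  congr 1
  exact (map_glChart H h).symm

lemma app_glObj (U : S.AffineZariskiSite) :
    (glBase H).app U.1 ≫ glObj H U = α.app (op U) := by
  rw [glObj, ← Category.assoc, Scheme.Hom.app_eq_appLE, Scheme.Hom.appLE_comp_appLE]
  simp only [glChart_glBase]
  rw [Scheme.Hom.comp_appLE, U.2.fromSpec_app_self, Category.assoc, Category.assoc,
    Scheme.Hom.map_appLE_assoc]
  exact (congrArg _ (RelSpec.specMap_appLE_ΓSpecIso _ _)).trans (Iso.inv_hom_id_assoc _ _)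

/-- The quasi-coherent algebra. -/
def glAlg : RelSpec.QCAlg S := RelSpec.QCAlg.directImage (glBase H)

/-- Its values on the affine opens. -/
def glIso : (toOpensFunctor S).op ⋙ (glAlg H).presheaf ≅ F :=
  NatIso.ofComponents (fun U => asIso (glObj H U.unop)) fun {U V} i =>
    glObj_naturality H (U := V.unop) (V := U.unop) (leOfHom i.unop)

include H in
/-- A coequifibered presheaf of rings on the affine opens comes from a quasi-coherent algebra. -/
theorem exists_qcAlg : ∃ (A : RelSpec.QCAlg S) (γ : (toOpensFunctor S).op ⋙ A.presheaf ≅ F),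
    Functor.whiskerLeft (toOpensFunctor S).op A.str ≫ γ.hom = α := by
  refine ⟨glAlg H, glIso H, ?_⟩
  ext1
  ext1 U
  exact app_glObj H U.unop

end Groth.Agent.SymAlg
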