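import Groth.Prelude.Def_RelProj4
import Groth.Agent.SymAlg.InvProj
import Groth.Agent.RelProjLib.QMapPre

/-!
The morphism `r_{L,ψ}` of an invertible module into a relative Proj over an affine base.
-/

set_option autoImplicit false
set_option backward.isDefEq.respectTransparency false
set_option linter.style.haveILetI false

universe u

open CategoryTheory CategoryTheory.Limits AlgebraicGeometry TopologicalSpace Opposite
open scoped HomogeneousIdeal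

noncomputable section

namespace Groth.Agent.SymAlg

open Groth.Agent

section graded

variable {A σ : Type u} [CommRing A] [SetLike σ A] [AddSubgroupClass σ A] {𝒜 : ℕ → σ} [GradedRing 𝒜]

lemma isNilpotent_of_basicOpen_eq_bot {f : A} {n : ℕ} (hn : 0 < n) (hf : f ∈ 𝒜 n)
    (h : Proj.basicOpen 𝒜 f = ⊥) : IsNilpotent f := by
  rw [← mem_nilradical, nilradical_eq_sInf, Submodule.mem_sInf]
  intro p (hp : Ideal.IsPrime p)
  by_cases hirr : 𝒜₊.toIdeal ≤ p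
  · exact hirr (HomogeneousIdeal.mem_irrelevant_of_mem _ hn hf)
  · by_contra hfp
    let y : Proj 𝒜 := ⟨Ideal.homogeneousCore 𝒜 p, Ideal.IsPrime.homogeneousCore hp, fun hle =>
      hirr (le_trans (show 𝒜₊.toIdeal ≤ (Ideal.homogeneousCore 𝒜 p).toIdeal from hle)
        (Ideal.toIdeal_homogeneousCore_le 𝒜 p))⟩
    have : y ∈ Proj.basicOpen 𝒜 f := fun hy =>
      hfp (Ideal.toIdeal_homogeneousCore_le 𝒜 p (show f ∈ (Ideal.homogeneousCore 𝒜 p).toIdeal from hy))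
    rw [h] at this
    exact this

lemma exists_basicOpen_le {y : Proj 𝒜} {O : (Proj 𝒜).Opens} (hy : y ∈ O) :
    ∃ (n : ℕ) (f : A), 0 < n ∧ f ∈ 𝒜 n ∧ y ∈ Proj.basicOpen 𝒜 f ∧ Proj.basicOpen 𝒜 f ≤ O := by
  classical
  obtain ⟨_, ⟨g, rfl⟩, hyg, hgO⟩ :=
    (ProjectiveSpectrum.isTopologicalBasis_basic_opens 𝒜).exists_subset_of_mem_open hy O.2
  obtain ⟨h, d, hd, hh, hyh⟩ : ∃ (h : A) (d : ℕ), 0 < d ∧ h ∈ 𝒜 d ∧ y ∈ Proj.basicOpen 𝒜 h := by
    by_contra! hno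
    refine y.not_irrelevant_le ?_
    rw [HomogeneousIdeal.irrelevant_le]
    intro i hi x hx
    by_contra hxy
    exact hno x i hi hx hxy
  rw [SetLike.mem_coe, ProjectiveSpectrum.basicOpen_eq_union_of_projection, Opens.mem_iSup] at hyg
  obtain ⟨i, hi⟩ := hyg
  refine ⟨i + d, GradedRing.proj 𝒜 i g * h, by omega,
    SetLike.mul_mem_graded (SetLike.coe_mem _) hh, ?_, ?_⟩
  · rw [Proj.basicOpen_mul]
    exact ⟨hi, hyh⟩
  · intro z hz
    rw [Proj.basicOpen_mul] at hz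
    refine hgO ?_
    rw [SetLike.mem_coe, ProjectiveSpectrum.basicOpen_eq_union_of_projection, Opens.mem_iSup]
    exact ⟨i, hz.1⟩

end graded

variable {Y X P PL : Scheme.{u}} {q : X ⟶ Y} {L : X.Modules} (hL : PicF.IsInvertible L)
  (hLq : Coh.IsQCoh L) {𝒮 : RelProj.QCGrAlg Y} {𝒮L : RelProj.QCGrAlg X} {j : L ⟶ 𝒮L.toModule}
  (hj : RelProj.IsGrSymAlg L 𝒮L j) (u : RelProj.QGrHom q 𝒮 𝒮L) {p : P ⟶ Y}
  {chart : ∀ (U : Y.Opens) (hU : IsAffineOpen U), ((p ⁻¹ᵁ U : P.Opens) : Scheme.{u}) ≅ Proj (𝒮.deg U hU)}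
  {pL : PL ⟶ X}
  {chartL : ∀ (U : X.Opens) (hU : IsAffineOpen U), ((pL ⁻¹ᵁ U : PL.Opens) : Scheme.{u}) ≅ Proj (𝒮L.deg U hU)}
  (hPL : RelProj.IsRelProj 𝒮L pL chartL)
  {r : ((RelProj.domQ u pL chartL : PL.Opens) : Scheme.{u}) ⟶ P}
  (hr : RelProj.IsProjQMapOn u p chart pL chartL (RelProj.domQ u pL chartL) r)
  (hY : IsAffineOpen (⊤ : Y.Opens))

/-- Every open lies over the whole base. -/
lemma le_top' (V : X.Opens) : V ≤ q ⁻¹ᵁ ⊤ := le_top.trans (Scheme.Hom.preimage_top q).ge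

lemma resL_appLE {U : Y.Opens} {V W : X.Opens} (h : V ≤ W) (hW : W ≤ q ⁻¹ᵁ U)
    (f : 𝒮.presheaf.obj (op U)) :
    resL 𝒮L h ((u.appLE U W hW).hom f) = (u.appLE U V (h.trans hW)).hom f := by
  simp only [RelSpec.QHom.appLE, CommRingCat.hom_comp, RingHom.comp_apply]
  exact resL_resL h hW _

variable {n : ℕ} (hn : 0 < n) {f : 𝒮.presheaf.obj (op ⊤)}

/-- The section `t = ψ(f)` generates over `V`. -/
def Nonvanishing (_hY : IsAffineOpen (⊤ : Y.Opens)) (n : ℕ) (f : 𝒮.presheaf.obj (op ⊤))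
    (V : X.affineOpens) : Prop :=
  ((𝒮L.deg V.1 V.2 n : AddSubgroup (𝒮L.presheaf.obj (op (V.1 : X.Opens)))) :
      Set (𝒮L.presheaf.obj (op (V.1 : X.Opens)))) ⊆
    (Ideal.span {(u.appLE ⊤ (V.1 : X.Opens) (le_top' V.1)).hom f} :
      Set (𝒮L.presheaf.obj (op (V.1 : X.Opens))))

section

variable (hf : f ∈ 𝒮.deg ⊤ hY n)

include hL hLq hj hPL hn hf

/-- `D₊(ψ f)` in terms of non-vanishing. -/
lemma mem_emb_iff_exists {W : X.Opens} (hW : IsAffineOpen W) {z : PL} (hz : pL z ∈ W) :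
    z ∈ RelProj.emb pL chartL W hW ''ᵁ
        Proj.basicOpen (𝒮L.deg W hW) (u.gradedAt ⊤ hY W hW (le_top' W) f) ↔
      ∃ V : X.affineOpens, V.1 ≤ W ∧ pL z ∈ V.1 ∧ Nonvanishing u hY n f V := by
  rw [mem_emb_basicOpen_iff hL hLq hj hPL hW hn
    (Graded.map_mem (u.gradedAt ⊤ hY W hW (le_top' W)) hf) hz]
  have key : ∀ (V : X.Opens) (h : V ≤ W), resL 𝒮L h (u.gradedAt ⊤ hY W hW (le_top' W) f) =
      (u.appLE ⊤ V (le_top' V)).hom f := fun V h => resL_appLE u h (le_top' W) f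
  exact ⟨fun ⟨V, hV, h, hzV, hs⟩ => ⟨⟨V, hV⟩, h, hzV, by rw [key] at hs; exact hs⟩,
    fun ⟨V, h, hzV, hs⟩ => ⟨V.1, V.2, h, hzV, by rw [key]; exact hs⟩⟩

omit hn in
include hn in
lemma mem_domQ_of_nonvanishing {V : X.affineOpens} (hs : Nonvanishing u hY n f V) {z : PL}
    (hz : pL z ∈ V.1) :
    z ∈ RelProj.domQ u pL chartL ∧ z ∈ RelProj.emb pL chartL V.1 V.2 ''ᵁ
      Proj.basicOpen (𝒮L.deg V.1 V.2) (u.gradedAt ⊤ hY V.1 V.2 (le_top' V.1) f) := by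
  have h := (mem_emb_iff_exists hL hLq hj u hPL hY hn hf V.2 hz).mpr ⟨V, le_rfl, hz, hs⟩
  refine ⟨?_, h⟩
  obtain ⟨y, hy, rfl⟩ := h
  have : RelProj.emb pL chartL V.1 V.2 y ∈ RelProj.emb pL chartL V.1 V.2 ''ᵁ
      RelCone.domOpen (u.gradedAt ⊤ hY V.1 V.2 (le_top' V.1)) :=
    ⟨y, (RelCone.mem_domOpen _ _).mpr ⟨f, HomogeneousIdeal.mem_irrelevant_of_mem _ hn hf, hy⟩, rfl⟩
  rw [← RelProjLib.domQ_inf u hPL hY V.2 (le_top' V.1)] at this
  exact this.1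

include hr in
/-- The inverse image of `D₊(f)`. -/
theorem mem_preimage_basicOpen_iff (z : PL) :
    z ∈ (RelProj.domQ u pL chartL).ι ''ᵁ
        (r ⁻¹ᵁ (RelProj.emb p chart ⊤ hY ''ᵁ Proj.basicOpen (𝒮.deg ⊤ hY) f)) ↔
      ∃ V : X.affineOpens, pL z ∈ V.1 ∧ Nonvanishing u hY n f V := by
  constructor
  · rintro ⟨w, hw, rfl⟩
    obtain ⟨W, hW, hzW, -⟩ := exists_isAffineOpen_mem_and_subset (U := (⊤ : X.Opens))
      (x := pL ((RelProj.domQ u pL chartL).ι w)) trivial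
    obtain ⟨V, -, hV, hs⟩ := (mem_emb_iff_exists hL hLq hj u hPL hY hn hf hW hzW).mp
      ((RelProjLib.mem_preimage_iff u hPL hr hY hW (le_top' W) hn hf w hzW).mp hw)
    exact ⟨V, hV, hs⟩
  · rintro ⟨V, hzV, hs⟩
    obtain ⟨hdom, hmem⟩ := mem_domQ_of_nonvanishing hL hLq hj u hPL hY hn hf hs hzV
    exact ⟨⟨z, hdom⟩, (RelProjLib.mem_preimage_iff u hPL hr hY V.2 (le_top' V.1) hn hf ⟨z, hdom⟩ hzV).mpr hmem,
      rfl⟩

include hr in
/-- The inverse image of `D₊(f)` as an open. -/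
theorem preimage_basicOpen_eq :
    (RelProj.domQ u pL chartL).ι ''ᵁ
        (r ⁻¹ᵁ (RelProj.emb p chart ⊤ hY ''ᵁ Proj.basicOpen (𝒮.deg ⊤ hY) f)) =
      pL ⁻¹ᵁ ⨆ V : {V : X.affineOpens // Nonvanishing u hY n f V}, V.1.1 := by
  refine Opens.ext (Set.ext fun z => ?_)
  refine (mem_preimage_basicOpen_iff hL hLq hj u hPL hr hY hn hf z).trans ?_
  change _ ↔ pL z ∈ (⨆ V : {V : X.affineOpens // Nonvanishing u hY n f V}, V.1.1)
  rw [Opens.mem_iSup]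
  exact ⟨fun ⟨V, h, hs⟩ => ⟨⟨V, hs⟩, h⟩, fun ⟨V, h⟩ => ⟨V.1, h, V.2⟩⟩

end

include hL hLq hj hPL hY in
/-- When `r` is everywhere defined. -/
theorem domQ_eq_top_iff :
    RelProj.domQ u pL chartL = ⊤ ↔
      ∀ x : X, ∃ (n : ℕ) (_ : 0 < n) (s : 𝒮.presheaf.obj (op ⊤)) (_ : s ∈ 𝒮.deg ⊤ hY n)
        (V : X.affineOpens), x ∈ V.1 ∧ Nonvanishing u hY n s V := by
  constructor
  · intro h x
    haveI := isIso_pL hL hLq hj hPL
    obtain ⟨z, rfl⟩ : ∃ z, pL z = x := ⟨inv pL x, by rw [← Scheme.Hom.comp_apply, IsIso.inv_hom_id]; rfl⟩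
    obtain ⟨W, hW, hzW, -⟩ := exists_isAffineOpen_mem_and_subset (U := (⊤ : X.Opens))
      (x := pL z) trivial
    obtain ⟨d, hd, s, hs, hmem⟩ := RelProjLib.exists_idx_of_mem u hPL (h ▸ trivial : z ∈ _) hY hW
      (le_top' W) hzW
    rw [RelProjLib.opensRange_src] at hmem
    obtain ⟨V, -, hzV, hV⟩ := (mem_emb_iff_exists hL hLq hj u hPL hY hd hs hW hzW).mp hmem
    exact ⟨d, hd, s, hs, V, hzV, hV⟩
  · intro h
    refine eq_top_iff.mpr fun z _ => ?_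
    obtain ⟨n, hn, s, hs, V, hzV, hV⟩ := h (pL z)
    exact (mem_domQ_of_nonvanishing hL hLq hj u hPL hY hn hs hV hzV).1

include hL hLq hj hPL hr hY in
/-- When `r` is dominant. -/
theorem isDominant_r_iff :
    IsDominant r ↔
      ∀ (n : ℕ), 0 < n → ∀ s ∈ 𝒮.deg ⊤ hY n,
        (∀ x : X, ∃ (V : X.Opens) (_ : IsAffineOpen V),
          x ∈ V ∧ IsNilpotent ((u.appLE ⊤ V (le_top' V)).hom s)) → IsNilpotent s := by
  rw [isDominant_iff]
  constructor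
  · intro hd n hn s hs hnil
    refine isNilpotent_of_basicOpen_eq_bot hn hs (eq_bot_iff.mpr fun y hy => ?_)
    obtain ⟨_, ⟨a, ha, rfl⟩, w, hw⟩ := hd.inter_open_nonempty
      (RelProj.emb p chart ⊤ hY ''ᵁ Proj.basicOpen (𝒮.deg ⊤ hY) s : P.Opens) (Opens.isOpen _)
      ⟨_, y, hy, rfl⟩
    obtain ⟨V, hV, hzV, hnV⟩ := hnil (pL ((RelProj.domQ u pL chartL).ι w))
    have hwm : r w ∈ RelProj.emb p chart ⊤ hY ''ᵁ Proj.basicOpen (𝒮.deg ⊤ hY) s :=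
      ⟨a, ha, hw.symm⟩
    obtain ⟨b, hb, -⟩ := (RelProjLib.mem_preimage_iff u hPL hr hY hV (le_top' V) hn hs w hzV).mp hwm
    obtain ⟨k, hk⟩ := hnV
    refine False.elim (hb (b.isPrime.mem_of_pow_mem k ?_))
    change (u.appLE ⊤ V (le_top' V)).hom s ^ k ∈ _
    rw [hk]
    exact Ideal.zero_mem _
  · intro h
    refine dense_iff_inter_open.mpr fun O hO ⟨a, ha⟩ => ?_
    obtain ⟨y, rfl⟩ : a ∈ (RelProj.emb p chart ⊤ hY).opensRange := by
      rw [RelProjLib.opensRange_emb]; trivial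
    obtain ⟨n, s, hn, hs, hys, hsO⟩ :=
      exists_basicOpen_le (O := RelProj.emb p chart ⊤ hY ⁻¹ᵁ ⟨O, hO⟩) (y := y) ha
    have hnot : ¬ IsNilpotent s := fun ⟨k, hk⟩ =>
      hys (y.isPrime.mem_of_pow_mem k (hk.symm ▸ Ideal.zero_mem _))
    have h1 := mt (h n hn s hs) hnot
    push Not at h1
    obtain ⟨x, hx⟩ := h1
    obtain ⟨V, hV, e, hxV, -, he⟩ := exists_triv hL (O := ⊤) (x := x) trivial
    obtain ⟨c, hc⟩ := exists_coeff hLq hj hV he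
      (Graded.map_mem (u.gradedAt ⊤ hY V hV (le_top' V)) hs)
    have hcn : X.basicOpen c ≠ ⊥ := fun hb => hx V hV hxV <| by
      change IsNilpotent (u.gradedAt ⊤ hY V hV (le_top' V) s)
      rw [hc]
      exact Commute.isNilpotent_mul_right (Commute.all _ _) ((((Scheme.isNilpotent_iff_basicOpen_eq_bot_of_isCompact
        hV.isCompact c).mpr hb).map (strL 𝒮L V)))
    obtain ⟨x', hx'⟩ := (Opens.ne_bot_iff_nonempty (X.basicOpen c)).mp hcn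
    haveI := isIso_pL hL hLq hj hPL
    obtain ⟨z, rfl⟩ : ∃ z, pL z = x' :=
      ⟨inv pL x', by rw [← Scheme.Hom.comp_apply, IsIso.inv_hom_id]; rfl⟩
    have hzV : pL z ∈ V := X.basicOpen_le c hx'
    have hm : z ∈ RelProj.emb pL chartL V hV ''ᵁ
        Proj.basicOpen (𝒮L.deg V hV) (u.gradedAt ⊤ hY V hV (le_top' V) s) := by
      rw [hc]
      exact (mem_emb_triv_iff hLq hj hPL hV he hn c hzV).mpr hx'
    obtain ⟨U, -, hzU, hU⟩ := (mem_emb_iff_exists hL hLq hj u hPL hY hn hs hV hzV).mp hm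
    obtain ⟨w, hw, -⟩ := (mem_preimage_basicOpen_iff hL hLq hj u hPL hr hY hn hs z).mpr ⟨U, hzU, hU⟩
    obtain ⟨y', hy', h'⟩ := hw
    exact ⟨r w, h' ▸ hsO hy', w, rfl⟩

end Groth.Agent.SymAlg
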