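import Groth.Agent.SymAlg.ProjData
import Groth.Agent.TMul.AmpleBasis

/-!
Finite morphisms are projective.
-/

set_option autoImplicit false
set_option backward.isDefEq.respectTransparency false
set_option linter.style.haveILetI false
set_option linter.unusedSectionVars false

universe u

open CategoryTheory CategoryTheory.Limits DirectSum AlgebraicGeometry TopologicalSpace Opposite
open Groth.Agent.QC (res resO res_res res_self res_smul app_res)

noncomputable section

namespace Groth.Agent.SymAlg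

open Groth.Agent
open TMul (IsGen)

set_option maxHeartbeats 1600000 in
/-- A finite morphism has finite type very ample data for the structure module. -/
theorem ftData_of_isFinite {X Y : Scheme.{u}} (q : X ⟶ Y) [IsFinite q] :
    FTData q (Coh.structureModule X) := by
  have hL : PicF.IsInvertible (Coh.structureModule X) := TMul.isInvertible_structureModule
  have hLq := TMul.isQCoh_of_isInvertible hL
  haveI : (Coh.structureModule X).IsQuasicoherent := hLq
  obtain ⟨𝒮L, jl, hjl⟩ := exists_isGrSymAlg hLq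
  have hF : Coh.IsQCoh ((Scheme.Modules.pushforward q).obj (Coh.structureModule X)) := QC.isQCoh_pushforward q
  haveI : ((Scheme.Modules.pushforward q).obj (Coh.structureModule X)).IsQuasicoherent := hF
  have hft : CohB1.IsFT ((Scheme.Modules.pushforward q).obj (Coh.structureModule X)) :=
    QC.isFT_iff_finite_sections.mpr fun V => IsFinite.finite_app q V.1 V.2
  obtain ⟨𝒯, jF, hjF⟩ := exists_isGrSymAlg hF
  obtain ⟨u, hu⟩ := exists_canon hF hjF hjl
  have key : ∀ (U : Y.Opens) (hU : IsAffineOpen U), ∃ (e : 𝒯.presheaf.obj (op U)) (_ : e ∈ 𝒯.deg U hU 1)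
      (m : Γ(Coh.structureModule X, q ⁻¹ᵁ U)),
      IsGen m ∧ (u.appLE U (q ⁻¹ᵁ U) le_rfl).hom e = jL jl (q ⁻¹ᵁ U) m ∧
      ∀ t, t ∈ Rel.condSet u hU 1 e (q ⁻¹ᵁ U) le_rfl := by
    intro U hU
    let m : Γ(Coh.structureModule X, q ⁻¹ᵁ U) := (1 : Γ(X, q ⁻¹ᵁ U))
    have happ : ∀ y : Γ(Coh.structureModule X, q ⁻¹ᵁ U),
        (u.appLE U (q ⁻¹ᵁ U) le_rfl).hom (jFs jF U y) = jL jl (q ⁻¹ᵁ U) y := fun y => by
      rw [RelSpec.QHom.appLE_eq, CommRingCat.hom_comp, RingHom.comp_apply]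
      refine (congrArg _ (hu U hU y)).trans ?_
      exact (app_res jl _ _).trans (congrArg (jL jl _) (res_self _ _ y))
    refine ⟨jFs jF U m, hjF.2 U hU m, m, TMul.isGen_one _, happ m, fun t => ?_⟩
    refine ⟨1, one_pos, jFs jF U (t : Γ(Coh.structureModule X, q ⁻¹ᵁ U)), by
      rw [one_mul]; exact hjF.2 U hU _, ?_⟩
    rw [happ, happ, pow_one]
    refine (Scheme.Modules.Hom.app_smul jl t m).symm.trans (congrArg (jL jl _) ?_)
    exact mul_one t
  refine ⟨hL, 𝒮L, jl, hjl, _, hF, hft, 𝒯, jF, hjF, u, fun x => ?_, fun x => ?_⟩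
  · obtain ⟨U, hU, hxU, -⟩ := exists_isAffineOpen_mem_and_subset (x := q x) (U := ⊤) trivial
    obtain ⟨e, he, m, hm, heq, hc⟩ := key U hU
    have hA : IsAffineOpen (q ⁻¹ᵁ U) := hU.preimage q
    have hNV : Rel.NV u hU 1 e = q ⁻¹ᵁ U := by
      refine le_antisymm (Rel.NV_le u _ _ _) (Rel.Nonvanishing.le_NV u hU (V := ⟨q ⁻¹ᵁ U, hA⟩) ⟨le_rfl, ?_⟩)
      intro a ha
      obtain ⟨b, rfl⟩ := exists_coeff hLq hjl hA hm ha
      rw [SetLike.mem_coe, pow_one, heq]
      exact Ideal.mul_mem_left _ _ (Ideal.mem_span_singleton_self _)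
    exact ⟨U, hU, 1, e, one_pos, he, hNV.ge hxU, hNV ▸ hA,
      Rel.condSet_congr_all u hU _ _ hNV.symm le_rfl _ hc⟩
  · obtain ⟨U, hU, hxU, -⟩ := exists_isAffineOpen_mem_and_subset (x := q x) (U := ⊤) trivial
    obtain ⟨e, he, m, hm, heq, -⟩ := key U hU
    exact ⟨⟨U, hU, q ⁻¹ᵁ U, hU.preimage q, le_rfl, e, he, m, hm, heq⟩, hxU⟩

end Groth.Agent.SymAlg
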