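import Groth.Agent.SymAlg.PowSym

/-!
For a relatively ample invertible module the morphism `r_{L,σ}` is an open immersion with dense image.
-/

set_option autoImplicit false
set_option backward.isDefEq.respectTransparency false
set_option linter.style.haveILetI false

universe u

open CategoryTheory CategoryTheory.Limits AlgebraicGeometry TopologicalSpace Opposite
open Groth.Agent.QC (res resO res_res res_self)

noncomputable section

namespace Groth.Agent.SymAlg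

open Groth.Agent
open TMul (IsGen)

variable {X Y P PL : Scheme.{u}} {f : X ⟶ Y} {L : X.Modules} (hL : PicF.IsInvertible L)
  (hLq : Coh.IsQCoh L) {𝒜 : RelProj.QCGrAlg Y} {𝒮L : RelProj.QCGrAlg X} {j : L ⟶ 𝒮L.toModule}
  (hj : RelProj.IsGrSymAlg L 𝒮L j) (u : RelProj.QGrHom f 𝒜 𝒮L) {p : P ⟶ Y}
  {chart : ∀ (U : Y.Opens) (hU : IsAffineOpen U), ((p ⁻¹ᵁ U : P.Opens) : Scheme.{u}) ≅ Proj (𝒜.deg U hU)}
  {pL : PL ⟶ X}
  {chartL : ∀ (U : X.Opens) (hU : IsAffineOpen U), ((pL ⁻¹ᵁ U : PL.Opens) : Scheme.{u}) ≅ Proj (𝒮L.deg U hU)}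
  (hPL : RelProj.IsRelProj 𝒮L pL chartL)
  {r : ((RelProj.domQ u pL chartL : PL.Opens) : Scheme.{u}) ⟶ P}
  (hr : RelProj.IsProjQMapOn u p chart pL chartL (RelProj.domQ u pL chartL) r)

include hL hLq hj in
/-- A homogeneous element with the given section of a tensor power as image. -/
lemma exists_lift {U : Y.Opens} (hU : IsAffineOpen U) (hu : Function.Bijective (u.app U).hom) (n : ℕ) (t : Γ(CohB1.tensorPow L n, f ⁻¹ᵁ U)) :
    ∃ a ∈ 𝒜.deg U hU n, ∀ (V : X.Opens) (_ : IsAffineOpen V) (h : V ≤ f ⁻¹ᵁ U),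
      (u.appLE U V h).hom a = resL 𝒮L h (theta j n (f ⁻¹ᵁ U) t) := by
  classical
  obtain ⟨s, hs⟩ := hu.2 (theta j n (f ⁻¹ᵁ U) t)
  refine ⟨(DirectSum.decompose (𝒜.deg U hU) s n : 𝒜.presheaf.obj (op U)), SetLike.coe_mem _, fun V hV h => ?_⟩
  have hs' : (u.appLE U V h).hom s = resL 𝒮L h (theta j n (f ⁻¹ᵁ U) t) := congrArg (resL 𝒮L h) hs
  have hd : u.gradedAt U hU V hV h (DirectSum.decompose (𝒜.deg U hU) s n : 𝒜.presheaf.obj (op U)) =
      (DirectSum.decompose (𝒮L.deg V hV) (u.gradedAt U hU V hV h s) n : 𝒮L.presheaf.obj (op V)) :=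
    GradedRingHom.map_directSumDecompose (f := u.gradedAt U hU V hV h) ..
  change u.gradedAt U hU V hV h _ = _
  rw [hd, show u.gradedAt U hU V hV h s = (u.appLE U V h).hom s from rfl, hs',
    theta_res, DirectSum.decompose_of_mem_same _ (theta_mem hL hLq hj hV n _)]

include hL hLq hj in
/-- An element with affine non-vanishing locus through a given point. -/
theorem exists_element (hamp : RelAmple.IsRelAmple f L)
    {U : Y.Opens} (hU : IsAffineOpen U) (hu : Function.Bijective (u.app U).hom) {x : X} (hx : f x ∈ U) :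
    ∃ (n : ℕ) (a : 𝒜.presheaf.obj (op U)), 0 < n ∧ a ∈ 𝒜.deg U hU n ∧
      IsAffineOpen (Rel.NV u hU n a) ∧ x ∈ Rel.NV u hU n a := by
  let Z := f ⁻¹ᵁ U
  obtain ⟨-, -, hpt⟩ := hamp.2 ⟨U, hU⟩
  obtain ⟨n, s₀, hxs, hOaff⟩ := hpt ⟨x, hx⟩
  obtain ⟨e⟩ := TMul.nonempty_restrictPowIso Z.ι L (n + 1)
  let s := s₀ ≫ e.hom
  have hgl : CohB1.genLocus _ s = CohB1.genLocus _ s₀ := TMul.genLocus_comp s₀ e.hom
  rw [← hgl] at hxs hOaff
  have hZ : Z ≤ Z.ι ''ᵁ ⊤ := fun y hy => ⟨⟨y, hy⟩, trivial, rfl⟩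
  let t : Γ(CohB1.tensorPow L (n + 1), Z) := res _ hZ (TMul.val s ⊤)
  have hO : ∀ y, y ∈ Z.ι ''ᵁ CohB1.genLocus _ s ↔
      ∃ (W : X.Opens) (h : W ≤ Z), y ∈ W ∧ IsGen (res _ h t) := by
    intro y
    constructor
    · rintro ⟨y', hy', rfl⟩
      obtain ⟨W, hyW, hW⟩ := (TMul.mem_genLocus_iff s).mp hy'
      rw [TMul.isGen_restrict_iff] at hW
      refine ⟨Z.ι ''ᵁ W, Z.ι_image_le W, ⟨y', hyW, rfl⟩, ?_⟩
      rw [show res _ (Z.ι_image_le W) t = res _ (Z.ι.image_mono (le_top : W ≤ ⊤)) (TMul.val s ⊤) from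
        res_res _ _ _ _]
      exact hW
    · rintro ⟨W, hWZ, hyW, hW⟩
      refine ⟨⟨y, hWZ hyW⟩, (TMul.mem_genLocus_iff s).mpr ⟨Z.ι ⁻¹ᵁ W, hyW, ?_⟩, rfl⟩
      rw [TMul.isGen_restrict_iff]
      have hle : Z.ι ''ᵁ (Z.ι ⁻¹ᵁ W) ≤ W := by
        rw [Scheme.Hom.image_preimage_eq_opensRange_inf]; exact inf_le_right
      have := TMul.IsGen.res hW hle
      simp only [t, res_res] at this
      exact this
  obtain ⟨a, ha, hat⟩ := exists_lift hL hLq hj u hU hu (n + 1) t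
  have heq : Rel.NV u hU (n + 1) a = Z.ι ''ᵁ CohB1.genLocus _ s := by
    refine Opens.ext (Set.ext fun y => ?_)
    refine Iff.trans ?_ ((hO y).trans (exists_isGen_iff hL hLq hj (n + 1) t y)).symm
    constructor
    · intro hy
      obtain ⟨⟨V, h, hV⟩, hyV⟩ := Opens.mem_iSup.mp hy
      exact ⟨V.1, V.2, h, hyV, by rw [hat V.1 V.2 h] at hV; exact hV⟩
    · rintro ⟨V, hV, h, hyV, hs⟩
      exact Opens.mem_iSup.mpr ⟨⟨⟨V, hV⟩, h, by rw [hat V hV h]; exact hs⟩, hyV⟩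
  refine ⟨n + 1, a, n.succ_pos, ha, ?_, ?_⟩
  · rw [heq]; exact hOaff.image_of_isOpenImmersion Z.ι
  · rw [heq]; exact ⟨⟨x, hx⟩, hxs, rfl⟩

lemma NV_le {U : Y.Opens} (hU : IsAffineOpen U) (n : ℕ) (a : 𝒜.presheaf.obj (op U)) :
    Rel.NV u hU n a ≤ f ⁻¹ᵁ U := iSup_le fun V => V.2.fst

lemma resL_uapp_mem {U : Y.Opens} (hU : IsAffineOpen U) {n : ℕ} {a : 𝒜.presheaf.obj (op U)}
    (ha : a ∈ 𝒜.deg U hU n) (V : X.Opens) (hV : IsAffineOpen V) (h : V ≤ f ⁻¹ᵁ U) :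
    resL 𝒮L h ((u.app U).hom a) ∈ 𝒮L.deg V hV n :=
  Graded.map_mem (u.gradedAt U hU V hV h) ha

lemma mem_NV_iff {U : Y.Opens} (hU : IsAffineOpen U) (n : ℕ) (a : 𝒜.presheaf.obj (op U)) (y : X) :
    y ∈ Rel.NV u hU n a ↔ ∃ (V : X.Opens) (hV : IsAffineOpen V) (h : V ≤ f ⁻¹ᵁ U), y ∈ V ∧
      ((𝒮L.deg V hV n : AddSubgroup (𝒮L.presheaf.obj (op V))) : Set (𝒮L.presheaf.obj (op V))) ⊆
        (Ideal.span {resL 𝒮L h ((u.app U).hom a)} : Set (𝒮L.presheaf.obj (op V))) := by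
  refine Opens.mem_iSup.trans ?_
  exact ⟨fun ⟨⟨V, h, hV⟩, hy⟩ => ⟨V.1, V.2, h, hy, hV⟩,
    fun ⟨V, hV, h, hy, hs⟩ => ⟨⟨⟨V, hV⟩, h, hs⟩, hy⟩⟩

lemma resL_refl (𝒮L : RelProj.QCGrAlg X) {V : X.Opens} (h : V ≤ V) (b : 𝒮L.presheaf.obj (op V)) :
    resL 𝒮L h b = b := by
  simp [resL]

section

variable (hP : RelProj.IsRelProj 𝒜 p chart) [QuasiCompact f] (hamp : RelAmple.IsRelAmple f L)
  (hu : ∀ (U : Y.Opens), IsAffineOpen U → Function.Bijective (u.app U).hom)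

include hL hLq hj hPL hr hP hamp

/-- Over such an element the morphism is an isomorphism. -/
theorem isIso_restrict {U : Y.Opens} (hU : IsAffineOpen U) (hu : Function.Bijective (u.app U).hom) {n : ℕ} (hn : 0 < n)
    {a : 𝒜.presheaf.obj (op U)} (ha : a ∈ 𝒜.deg U hU n) (hO : IsAffineOpen (Rel.NV u hU n a)) :
    IsIso (r ∣_ Rel.DPlus p chart hU a) := by
  classical
  have hOZ : Rel.NV u hU n a ≤ f ⁻¹ᵁ U := NV_le u hU n a
  have hZ : IsCompact ((f ⁻¹ᵁ U : X.Opens) : Set X) := f.isCompact_preimage hU.isCompact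
  have hqs : IsQuasiSeparated ((f ⁻¹ᵁ U : X.Opens) : Set X) := by
    haveI := TMul.isSeparated_of_isAmple (hamp.2 ⟨U, hU⟩)
    exact (isQuasiSeparated_iff_quasiSeparatedSpace _ (f ⁻¹ᵁ U).2).mpr
      (inferInstanceAs (QuasiSeparatedSpace (f ⁻¹ᵁ U).toScheme))
  refine (Rel.isIso_restrict_iff hL hLq hj u hPL hr hU hP hn ha hO hOZ rfl).mpr ⟨fun x => ?_, ?_⟩
  · obtain ⟨k, g, hg⟩ := exists_pow_mul_extend hL hLq hj ((u.app U).hom a)
      (fun V hV h => resL_uapp_mem u hU ha V hV h) hOZ (mem_NV_iff u hU n a) hZ hqs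
      (strL 𝒮L (Rel.NV u hU n a) x)
    obtain ⟨s, rfl⟩ := hu.2 g
    let ψ := u.gradedAt U hU (Rel.NV u hU n a) hO hOZ
    refine ⟨k + 1, k.succ_pos, a * (DirectSum.decompose (𝒜.deg U hU) s (k * n) : 𝒜.presheaf.obj (op U)),
      ?_, ?_⟩
    · exact (by ring : n + k * n = (k + 1) * n) ▸ SetLike.mul_mem_graded ha (SetLike.coe_mem _)
    · change strL 𝒮L _ x * ψ a ^ (k + 1) = ψ (a * _)
      have hd : ψ (DirectSum.decompose (𝒜.deg U hU) s (k * n) : 𝒜.presheaf.obj (op U)) =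
          (DirectSum.decompose (𝒮L.deg _ hO) (ψ s) (k * n) : 𝒮L.presheaf.obj (op (Rel.NV u hU n a))) :=
        GradedRingHom.map_directSumDecompose (f := ψ) ..
      have hg' : ψ s = ψ a ^ k * strL 𝒮L _ x := hg
      have hm : ψ a ^ k * strL 𝒮L (Rel.NV u hU n a) x ∈ 𝒮L.deg _ hO (k * n) := by
        have := SetLike.mul_mem_graded (SetLike.pow_mem_graded k (Graded.map_mem ψ ha))
          (𝒮L.str_mem _ hO x)
        simpa using this
      rw [map_mul, hd, hg', DirectSum.decompose_of_mem_same _ hm, pow_succ]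
      ring
  · intro m _ s' _ h0
    obtain ⟨k, hk⟩ := exists_pow_mul_eq_zero hL hLq hj ((u.app U).hom a)
      (fun V hV h => resL_uapp_mem u hU ha V hV h) (mem_NV_iff u hU n a) hZ le_rfl
      ((u.app U).hom s') (by
        rw [← resL_resL inf_le_right hOZ, show resL 𝒮L hOZ ((u.app U).hom s') = 0 from h0, map_zero])
    rw [resL_refl] at hk
    refine ⟨k + 1, k.succ_pos, ?_⟩
    refine hu.1 ?_
    rw [map_mul, map_pow, map_zero, pow_succ', mul_assoc, hk, mul_zero]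

include hu

omit hr hP [QuasiCompact f] in
/-- `r` is everywhere defined. -/
theorem domQ_eq_top_of_ample : RelProj.domQ u pL chartL = ⊤ := by
  refine eq_top_iff.mpr fun z _ => ?_
  obtain ⟨U, hU, hzU, -⟩ := exists_isAffineOpen_mem_and_subset (U := (⊤ : Y.Opens))
    (x := f (pL z)) trivial
  obtain ⟨n, a, hn, ha, -, hza⟩ := exists_element hL hLq hj u hamp hU (hu U hU) hzU
  obtain ⟨⟨V, hV⟩, hzV⟩ := Opens.mem_iSup.mp hza
  exact (Rel.mem_domQ_of_nonvanishing hL hLq hj u hPL hU hn ha hV hzV).1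

/-- `r` is an open immersion. -/
theorem isOpenImmersion_of_ample : IsOpenImmersion r := by
  let ι := Σ U : Y.affineOpens, {a : ℕ × 𝒜.presheaf.obj (op U.1) //
    IsIso (r ∣_ Rel.DPlus p chart U.2 a.2)}
  let D : ι → P.Opens := fun i => Rel.DPlus p chart i.1.2 i.2.1.2
  have hpre : r ⁻¹ᵁ (⨆ i, D i) = ⊤ := by
    refine eq_top_iff.mpr fun w _ => ?_
    obtain ⟨U, hU, hzU, -⟩ := exists_isAffineOpen_mem_and_subset (U := (⊤ : Y.Opens))
      (x := f (pL ((RelProj.domQ u pL chartL).ι w))) trivial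
    obtain ⟨n, a, hn, ha, hO, hza⟩ := exists_element hL hLq hj u hamp hU (hu U hU) hzU
    obtain ⟨⟨V, hV⟩, hzV⟩ := Opens.mem_iSup.mp hza
    obtain ⟨w', hw', e⟩ :=
      (Rel.mem_preimage_basicOpen_iff hL hLq hj u hPL hr hU hP hn ha _).mpr ⟨V, hzV, hV⟩
    obtain rfl := (RelProj.domQ u pL chartL).ι.isOpenEmbedding.injective e
    exact Opens.mem_iSup.mpr
      ⟨⟨⟨U, hU⟩, (n, a), isIso_restrict hL hLq hj u hPL hr hP hamp hU (hu U hU) hn ha hO⟩, hw'⟩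
  obtain ⟨e, he⟩ := eq_comp_restrict r hpre
  haveI : IsIso (r ∣_ ⨆ i, D i) :=
    prop_restrict_iSup r (MorphismProperty.isomorphisms Scheme.{u}) D fun i => i.2.2
  rw [he]
  infer_instance

omit hamp in
/-- The image of `r` is dense. -/
theorem isDominant_of_ample : IsDominant r := by
  rw [isDominant_iff]
  refine dense_iff_inter_open.mpr fun O hO ⟨y₀, hy₀⟩ => ?_
  obtain ⟨U, hU, hyU, -⟩ := exists_isAffineOpen_mem_and_subset (U := (⊤ : Y.Opens))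
    (x := p y₀) trivial
  obtain ⟨y, rfl⟩ : y₀ ∈ (RelProj.emb p chart U hU).opensRange := by
    rw [RelProjLib.opensRange_emb]; exact hyU
  obtain ⟨n, s, hn, hs, hys, hsO⟩ :=
    exists_basicOpen_le (O := RelProj.emb p chart U hU ⁻¹ᵁ ⟨O, hO⟩) (y := y) hy₀
  by_cases hne : ∃ x, x ∈ Rel.NV u hU n s
  · obtain ⟨x, hx⟩ := hne
    obtain ⟨⟨V, hV⟩, hxV⟩ := Opens.mem_iSup.mp hx
    haveI := isIso_pL hL hLq hj hPL
    obtain ⟨z, rfl⟩ : ∃ z, pL z = x :=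
      ⟨inv pL x, by rw [← Scheme.Hom.comp_apply, IsIso.inv_hom_id]; rfl⟩
    obtain ⟨w, ⟨b, hb, he⟩, -⟩ :=
      (Rel.mem_preimage_basicOpen_iff hL hLq hj u hPL hr hU hP hn hs z).mpr ⟨V, hxV, hV⟩
    exact ⟨r w, he ▸ hsO hb, w, rfl⟩
  · exfalso
    push Not at hne
    have hbot : ∀ x : X, x ∈ (⊥ : X.Opens) ↔ ∃ (V : X.Opens) (hV : IsAffineOpen V)
        (h : V ≤ f ⁻¹ᵁ U), x ∈ V ∧
        ((𝒮L.deg V hV n : AddSubgroup (𝒮L.presheaf.obj (op V))) : Set (𝒮L.presheaf.obj (op V))) ⊆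
          (Ideal.span {resL 𝒮L h ((u.app U).hom s)} : Set (𝒮L.presheaf.obj (op V))) := fun x =>
      ⟨fun h => h.elim, fun h => (hne x ((mem_NV_iff u hU n s x).mpr h)).elim⟩
    obtain ⟨k, hk⟩ := exists_pow_mul_eq_zero hL hLq hj ((u.app U).hom s)
      (fun V hV h => resL_uapp_mem u hU hs V hV h) hbot (f.isCompact_preimage hU.isCompact) le_rfl 1
      (eq_of_locally fun x hx => absurd hx.2 (by simp))
    rw [resL_refl, mul_one, ← map_pow, ← map_zero (u.app U).hom] at hk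
    exact hys (y.isPrime.mem_of_pow_mem k ((hu U hU).1 hk ▸ Ideal.zero_mem _))

end

end Groth.Agent.SymAlg
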