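import Groth.Agent.SymAlg.RLDom

/-!
When `r_{L,ψ}` is everywhere defined and an immersion, over an arbitrary base.
-/

set_option autoImplicit false
set_option backward.isDefEq.respectTransparency false
set_option linter.style.haveILetI false

universe u

open CategoryTheory CategoryTheory.Limits AlgebraicGeometry TopologicalSpace Opposite
open scoped HomogeneousIdeal

noncomputable section

namespace Groth.Agent.SymAlg.Rel

open Groth.Agent

variable {Y X P PL : Scheme.{u}} {q : X ⟶ Y} {L : X.Modules} {𝒮 : RelProj.QCGrAlg Y} {𝒮L : RelProj.QCGrAlg X}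

section Cond

variable (u : RelProj.QGrHom q 𝒮 𝒮L) {U : Y.Opens} (hU : IsAffineOpen U) (n : ℕ) (f : 𝒮.presheaf.obj (op U))

lemma NV_le : NV u hU n f ≤ q ⁻¹ᵁ U := iSup_le fun V => V.2.fst

/-- The functions on `O` of the form `ψ(s')/ψ(f)^m`. -/
def condSet (O : X.Opens) (h : O ≤ q ⁻¹ᵁ U) : Set Γ(X, O) :=
  {x | ∃ (m : ℕ) (_ : 0 < m) (s' : 𝒮.presheaf.obj (op U)) (_ : s' ∈ 𝒮.deg U hU (m * n)),
    (𝒮L.str.app (op O)).hom x * ((u.appLE U O h).hom f) ^ m = (u.appLE U O h).hom s'}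

variable {f} {n} (hf : f ∈ 𝒮.deg U hU n) {O : X.Opens} (h : O ≤ q ⁻¹ᵁ U)

/-- `condSet` as a subring. -/
def condSubring : Subring Γ(X, O) where
  carrier := condSet u hU n f O h
  one_mem' := ⟨1, one_pos, f, by rwa [one_mul], by rw [map_one, one_mul, pow_one]⟩
  zero_mem' := ⟨1, one_pos, 0, zero_mem _, by rw [map_zero, map_zero, zero_mul]⟩
  add_mem' := by
    rintro a b ⟨m, hm, s, hs, he⟩ ⟨m', hm', s', hs', he'⟩
    refine ⟨m + m', by omega, s * f ^ m' + s' * f ^ m, add_mem ?_ ?_, ?_⟩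
    · have := SetLike.mul_mem_graded hs (SetLike.pow_mem_graded m' hf)
      rwa [smul_eq_mul, ← add_mul] at this
    · have := SetLike.mul_mem_graded hs' (SetLike.pow_mem_graded m hf)
      rwa [smul_eq_mul, ← add_mul, add_comm m' m] at this
    · rw [map_add, map_add, map_mul, map_mul, map_pow, map_pow, ← he, ← he', pow_add]
      ring
  neg_mem' := by
    rintro a ⟨m, hm, s, hs, he⟩
    exact ⟨m, hm, -s, neg_mem hs, by rw [map_neg, map_neg, ← he, neg_mul]⟩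
  mul_mem' := by
    rintro a b ⟨m, hm, s, hs, he⟩ ⟨m', hm', s', hs', he'⟩
    refine ⟨m + m', by omega, s * s', ?_, ?_⟩
    · have := SetLike.mul_mem_graded hs hs'
      rwa [← add_mul] at this
    · rw [map_mul, map_mul, ← he, ← he', pow_add]
      ring

include hf in
lemma appLE_mem_condSubring (a : Γ(Y, U)) : (q.appLE U O h).hom a ∈ condSubring u hU hf h := by
  refine ⟨1, one_pos, (𝒮.str.app (op U)).hom a * f, ?_, ?_⟩
  · have := SetLike.mul_mem_graded (𝒮.str_mem U hU a) hf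
    rwa [zero_add, ← one_mul n] at this
  · rw [map_mul, pow_one]
    exact congrArg (· * (u.appLE U O h).hom f) (congr(($(u.str_appLE U O h)).hom a)).symm

include hf in
/-- Finitely many fractions suffice. -/
lemma condSet_eq_univ_of_generators [LocallyOfFiniteType q] (hO : IsAffineOpen O) :
    ∃ G : Finset Γ(X, O), ∀ {𝒯 : RelProj.QCGrAlg Y} (u' : RelProj.QGrHom q 𝒯 𝒮L) (f' : 𝒯.presheaf.obj (op U)),
      f' ∈ 𝒯.deg U hU n → (∀ x ∈ G, x ∈ condSet u' hU n f' O h) → ∀ x, x ∈ condSet u' hU n f' O h := by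
  letI := (q.appLE U O h).hom.toAlgebra
  have hft : Algebra.FiniteType Γ(Y, U) Γ(X, O) := q.finiteType_appLE hU hO h
  obtain ⟨G, hG⟩ := hft.out
  refine ⟨G, fun {𝒯} u' f' hf' hG' x => ?_⟩
  let S' : Subalgebra Γ(Y, U) Γ(X, O) :=
    { (condSubring u' hU hf' h).toSubsemiring with algebraMap_mem' := fun a => appLE_mem_condSubring u' hU hf' h a }
  have : Algebra.adjoin Γ(Y, U) (G : Set Γ(X, O)) ≤ S' := Algebra.adjoin_le fun y hy => hG' y hy
  rw [hG] at this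
  exact this Algebra.mem_top

lemma condSet_congr_all (n : ℕ) (f : 𝒮.presheaf.obj (op U)) {O O' : X.Opens} (e : O = O') (h : O ≤ q ⁻¹ᵁ U)
    (h' : O' ≤ q ⁻¹ᵁ U) (hx : ∀ x, x ∈ condSet u hU n f O h) : ∀ x, x ∈ condSet u hU n f O' h' := by
  subst e
  exact hx

end Cond

/-- Data exhibiting `r` as an everywhere defined immersion. -/
def ImmData (u : RelProj.QGrHom q 𝒮 𝒮L) : Prop :=
  ∃ (ι : Type u) (_ : Finite ι) (U : ι → Y.affineOpens) (n : ι → ℕ) (f : ∀ a, 𝒮.presheaf.obj (op (U a).1)),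
    (∀ a, 0 < n a ∧ f a ∈ 𝒮.deg (U a).1 (U a).2 (n a)) ∧
    (∀ x : X, ∃ a, x ∈ NV u (U a).2 (n a) (f a)) ∧
    ∀ a, IsAffineOpen (NV u (U a).2 (n a) (f a)) ∧
      ∀ x, x ∈ condSet u (U a).2 (n a) (f a) (NV u (U a).2 (n a) (f a)) (NV_le u _ _ _)

variable (hL : PicF.IsInvertible L)
  (hLq : Coh.IsQCoh L) {j : L ⟶ 𝒮L.toModule}
  (hj : RelProj.IsGrSymAlg L 𝒮L j) (u : RelProj.QGrHom q 𝒮 𝒮L) {p : P ⟶ Y}
  {chart : ∀ (U : Y.Opens) (hU : IsAffineOpen U), ((p ⁻¹ᵁ U : P.Opens) : Scheme.{u}) ≅ Proj (𝒮.deg U hU)}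
  {pL : PL ⟶ X}
  {chartL : ∀ (U : X.Opens) (hU : IsAffineOpen U), ((pL ⁻¹ᵁ U : PL.Opens) : Scheme.{u}) ≅ Proj (𝒮L.deg U hU)}
  (hPL : RelProj.IsRelProj 𝒮L pL chartL)
  {r : ((RelProj.domQ u pL chartL : PL.Opens) : Scheme.{u}) ⟶ P}
  (hr : RelProj.IsProjQMapOn u p chart pL chartL (RelProj.domQ u pL chartL) r)
  (hP : RelProj.IsRelProj 𝒮 p chart)

include hL hLq hj hPL hr hP

lemma facts_of_closed_restrict {U : Y.Opens} (hU : IsAffineOpen U) {n : ℕ} (hn : 0 < n)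
    {f : 𝒮.presheaf.obj (op U)} (hf : f ∈ 𝒮.deg U hU n) (h : IsClosedImmersion (r ∣_ DPlus p chart hU f)) :
    IsAffineOpen (NV u hU n f) := by
  have hD : IsAffineOpen (DPlus p chart hU f) := by
    have := isAffineOpen_opensRange (Proj.awayι (𝒮.deg U hU) f hf hn ≫ RelProj.emb p chart U hU)
    rwa [Scheme.Hom.opensRange_comp, Proj.opensRange_awayι] at this
  haveI : IsAffine (DPlus p chart hU f).toScheme := hD
  have h1 : IsAffineOpen (r ⁻¹ᵁ DPlus p chart hU f) := isAffine_of_isAffineHom (r ∣_ DPlus p chart hU f)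
  have h2 := h1.image_of_isOpenImmersion (RelProj.domQ u pL chartL).ι
  rw [preimage_basicOpen_eq hL hLq hj u hPL hr hU hP hn hf] at h2
  haveI := isIso_pL hL hLq hj hPL
  have h3 := h2.image_of_isOpenImmersion pL
  rwa [Scheme.Hom.image_preimage_eq_opensRange_inf, Scheme.Hom.opensRange_of_isIso, top_inf_eq] at h3

/-- An everywhere defined immersion has data. -/
theorem immData_of_isImmersion [CompactSpace X] (htop : RelProj.domQ u pL chartL = ⊤) [IsImmersion r] :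
    ImmData u := by
  haveI := isIso_pL hL hLq hj hPL
  have hloc : ∀ x : X, ∃ (U : Y.affineOpens) (n : ℕ) (f : 𝒮.presheaf.obj (op U.1)),
      0 < n ∧ f ∈ 𝒮.deg U.1 U.2 n ∧ x ∈ NV u U.2 n f ∧ DPlus p chart U.2 f ≤ r.coborderRange := by
    intro x
    obtain ⟨z, rfl⟩ : ∃ z, pL z = x := ⟨inv pL x, by rw [← Scheme.Hom.comp_apply, IsIso.inv_hom_id]; rfl⟩
    obtain ⟨w, rfl⟩ : ∃ w, (RelProj.domQ u pL chartL).ι w = z := ⟨⟨z, htop ▸ trivial⟩, rfl⟩
    obtain ⟨U, hU, hwU, -⟩ := exists_isAffineOpen_mem_and_subset (show p (r w) ∈ (⊤ : Y.Opens) from trivial)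
    obtain ⟨y, hy⟩ : r w ∈ (RelProj.emb p chart U hU).opensRange := by
      rw [RelProjLib.opensRange_emb]; exact hwU
    obtain ⟨n, f, hn, hf, hyf, hfO⟩ :=
      exists_basicOpen_le (O := RelProj.emb p chart U hU ⁻¹ᵁ r.coborderRange) (y := y)
        (by rw [Scheme.Hom.mem_preimage, hy]; exact subset_coborder ⟨w, rfl⟩)
    obtain ⟨V, hV, hs⟩ := (mem_preimage_basicOpen_iff hL hLq hj u hPL hr hU hP hn hf _).1
      ⟨w, ⟨y, hyf, hy⟩, rfl⟩
    refine ⟨⟨U, hU⟩, n, f, hn, hf, Nonvanishing.le_NV u hU hs hV, ?_⟩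
    rintro _ ⟨y', hy', rfl⟩
    exact hfO hy'
  choose U n f hn hf hx hD using hloc
  obtain ⟨t, ht⟩ := isCompact_univ.elim_finite_subcover (fun x => (NV u (U x).2 (n x) (f x) : Set X))
    (fun x => (NV u (U x).2 (n x) (f x)).2) (fun x _ => Set.mem_iUnion.2 ⟨x, hx x⟩)
  refine ⟨{x : X // x ∈ t}, inferInstance, fun a => U a.1, fun a => n a.1, fun a => f a.1,
    fun a => ⟨hn _, hf _⟩, fun x => ?_, fun a => ?_⟩
  · obtain ⟨i, hi, hxi⟩ := Set.mem_iUnion₂.1 (ht (Set.mem_univ x))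
    exact ⟨⟨i, hi⟩, hxi⟩
  · have hc := isClosedImmersion_restrict_of_le r (hD a.1)
    have hA := facts_of_closed_restrict hL hLq hj u hPL hr hP (U a.1).2 (hn a.1) (hf a.1) hc
    exact ⟨hA, (isClosedImmersion_restrict_iff hL hLq hj u hPL hr (U a.1).2 hP (hn a.1) (hf a.1) hA
      (NV_le u _ _ _) rfl).1 hc⟩

/-- Data make `r` an everywhere defined immersion. -/
theorem isImmersion_of_immData (hd : ImmData u) : RelProj.domQ u pL chartL = ⊤ ∧ IsImmersion r := by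
  obtain ⟨ι, -, U, n, f, hnf, hcov, hA⟩ := hd
  have key : ∀ x : X, ∃ a, ∃ V : X.affineOpens, x ∈ V.1 ∧ Nonvanishing u (U a).2 (n a) (f a) V := fun x => by
    obtain ⟨a, ha⟩ := hcov x
    obtain ⟨⟨V, hV⟩, hxV⟩ := Opens.mem_iSup.1 ha
    exact ⟨a, V, hxV, hV⟩
  refine ⟨eq_top_iff.2 fun z _ => ?_, ?_⟩
  · obtain ⟨a, V, hxV, hV⟩ := key (pL z)
    exact (mem_domQ_of_nonvanishing hL hLq hj u hPL (U a).2 (hnf a).1 (hnf a).2 hV hxV).1
  · have hΩ : r ⁻¹ᵁ (⨆ a, DPlus p chart (U a).2 (f a)) = ⊤ := eq_top_iff.2 fun w _ => by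
      obtain ⟨a, V, hxV, hV⟩ := key (pL ((RelProj.domQ u pL chartL).ι w))
      obtain ⟨w', hw', e⟩ :=
        (mem_preimage_basicOpen_iff hL hLq hj u hPL hr (U a).2 hP (hnf a).1 (hnf a).2 _).2 ⟨V, hxV, hV⟩
      obtain rfl := (RelProj.domQ u pL chartL).ι.isOpenEmbedding.injective e
      exact Opens.mem_iSup.2 ⟨a, hw'⟩
    haveI := prop_restrict_iSup r @IsClosedImmersion (fun a => DPlus p chart (U a).2 (f a)) fun a =>
      (isClosedImmersion_restrict_iff hL hLq hj u hPL hr (U a).2 hP (hnf a).1 (hnf a).2 (hA a).1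
        (NV_le u _ _ _) rfl).2 (hA a).2
    obtain ⟨e, he⟩ := eq_comp_restrict r hΩ
    rw [he]
    infer_instance

omit hL hLq hj hPL hr hP

variable {𝒯 : RelProj.QCGrAlg Y} (v : 𝒯.toQCAlg ⟶ 𝒮.toQCAlg) (u' : RelProj.QGrHom q 𝒯 𝒮L)
  (hu' : ∀ U : Y.Opens, u'.app U = v.hom.app (op U) ≫ u.app U)

include hu'

lemma appLE_map (U : Y.Opens) (O : X.Opens) (h : O ≤ q ⁻¹ᵁ U) (y : 𝒯.presheaf.obj (op U)) :
    (u'.appLE U O h).hom y = (u.appLE U O h).hom ((v.hom.app (op U)).hom y) := by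
  simp only [RelSpec.QHom.appLE, hu']
  rfl

lemma NV_map {U : Y.Opens} (hU : IsAffineOpen U) (n : ℕ) (y : 𝒯.presheaf.obj (op U)) :
    NV u' hU n y = NV u hU n ((v.hom.app (op U)).hom y) :=
  le_antisymm (iSup_le fun V => Nonvanishing.le_NV u hU ((nonvanishing_map_iff u v u' hu' hU n y V.1).1 V.2))
    (iSup_le fun V => Nonvanishing.le_NV u' hU ((nonvanishing_map_iff u v u' hu' hU n y V.1).2 V.2))

variable (hv : RelProj.IsGradedHom v)

include hv in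
lemma condSet_map {U : Y.Opens} (hU : IsAffineOpen U) (n : ℕ) (y : 𝒯.presheaf.obj (op U)) (O : X.Opens)
    (h : O ≤ q ⁻¹ᵁ U) : condSet u' hU n y O h ⊆ condSet u hU n ((v.hom.app (op U)).hom y) O h := by
  rintro x ⟨m, hm, s, hs, he⟩
  refine ⟨m, hm, (v.hom.app (op U)).hom s, GradedRingHom.map_mem (RelProj.gradedHomAt v hv U hU) hs, ?_⟩
  rw [← appLE_map u v u' hu', ← appLE_map u v u' hu', he]

include hv in
/-- Data push forward along graded homomorphisms. -/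
theorem ImmData.map (hd : ImmData u') : ImmData u := by
  obtain ⟨ι, hι, U, n, f, hnf, hcov, hA⟩ := hd
  refine ⟨ι, hι, U, n, fun a => (v.hom.app (op (U a).1)).hom (f a), fun a => ⟨(hnf a).1,
    GradedRingHom.map_mem (RelProj.gradedHomAt v hv _ (U a).2) (hnf a).2⟩, fun x => ?_, fun a => ?_⟩
  · obtain ⟨a, ha⟩ := hcov x
    exact ⟨a, NV_map u v u' hu' (U a).2 _ _ ▸ ha⟩
  · have e := NV_map u v u' hu' (U a).2 (n a) (f a)
    exact ⟨e ▸ (hA a).1, condSet_congr_all u (U a).2 _ _ e _ _ fun x =>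
      condSet_map u v u' hu' hv (U a).2 _ _ _ _ ((hA a).2 x)⟩

end Groth.Agent.SymAlg.Rel
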