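import Groth.Agent.SymAlg.CanonGen
import Groth.Agent.SymAlg.CanonImm
import Groth.Agent.SymAlg.RLImmData

/-!
Very ampleness as local data on a graded morphism `Sym E ⟶ q_*(⊕ L^n)`, over any base.
-/

set_option autoImplicit false
set_option backward.isDefEq.respectTransparency false
set_option linter.style.haveILetI false
set_option linter.unusedSectionVars false

universe u

open CategoryTheory CategoryTheory.Limits DirectSum AlgebraicGeometry TopologicalSpace Opposite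
open scoped HomogeneousIdeal
open Groth.Agent.QC (res resO res_res res_self res_smul app_res)

noncomputable section

namespace Groth.Agent.SymAlg

open Groth.Agent
open TMul (IsGen)

variable {X Y : Scheme.{u}} {q : X ⟶ Y} {L : X.Modules} {𝒮 : RelProj.QCGrAlg Y} {𝒮L : RelProj.QCGrAlg X}

/-- Near `x`, `r_{L,ψ}` is a closed immersion over some `D₊(f)`. -/
def LocalData (u : RelProj.QGrHom q 𝒮 𝒮L) (x : X) : Prop :=
  ∃ (U : Y.Opens) (hU : IsAffineOpen U) (n : ℕ) (f : 𝒮.presheaf.obj (op U)),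
    0 < n ∧ f ∈ 𝒮.deg U hU n ∧ x ∈ Rel.NV u hU n f ∧ IsAffineOpen (Rel.NV u hU n f) ∧
      ∀ t, t ∈ Rel.condSet u hU n f (Rel.NV u hU n f) (Rel.NV_le u hU n f)

section

variable (hL : PicF.IsInvertible L) (hLq : Coh.IsQCoh L) {jl : L ⟶ 𝒮L.toModule}
  (hjl : RelProj.IsGrSymAlg L 𝒮L jl) {u : RelProj.QGrHom q 𝒮 𝒮L} {P PL : Scheme.{u}} {p : P ⟶ Y}
  {ch : ∀ (U : Y.Opens) (hU : IsAffineOpen U), ((p ⁻¹ᵁ U : P.Opens) : Scheme.{u}) ≅ Proj (𝒮.deg U hU)}
  {pL : PL ⟶ X}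
  {chartL : ∀ (U : X.Opens) (hU : IsAffineOpen U), ((pL ⁻¹ᵁ U : PL.Opens) : Scheme.{u}) ≅ Proj (𝒮L.deg U hU)}
  (hPL : RelProj.IsRelProj 𝒮L pL chartL) (hP : RelProj.IsRelProj 𝒮 p ch)
  {r : ((RelProj.domQ u pL chartL : PL.Opens) : Scheme.{u}) ⟶ P}
  (hr : RelProj.IsProjQMapOn u p ch pL chartL (RelProj.domQ u pL chartL) r)

include hL hLq hjl hPL hP hr in
/-- Local data everywhere make `r` an immersion. -/
theorem isImmersion_of_localData (hd : ∀ x, LocalData u x) : IsImmersion r := by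
  choose U hU n f hn hf hx hA hc using hd
  have hΩ : r ⁻¹ᵁ (⨆ x, Rel.DPlus p ch (hU x) (f x)) = ⊤ := eq_top_iff.2 fun w _ => by
    obtain ⟨⟨V, hV⟩, hzV⟩ := Opens.mem_iSup.1 (hx (pL ((RelProj.domQ u pL chartL).ι w)))
    obtain ⟨w', hw', e⟩ :=
      (Rel.mem_preimage_basicOpen_iff hL hLq hjl u hPL hr (hU _) hP (hn _) (hf _) _).2 ⟨V, hzV, hV⟩
    obtain rfl := (RelProj.domQ u pL chartL).ι.isOpenEmbedding.injective e
    exact Opens.mem_iSup.2 ⟨_, hw'⟩
  haveI := prop_restrict_iSup r @IsClosedImmersion (fun x => Rel.DPlus p ch (hU x) (f x)) fun x =>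
    (Rel.isClosedImmersion_restrict_iff hL hLq hjl u hPL hr (hU x) hP (hn x) (hf x) (hA x)
      (Rel.NV_le u _ _ _) rfl).2 (hc x)
  obtain ⟨e, he⟩ := eq_comp_restrict r hΩ
  rw [he]
  infer_instance

end

/-- A symmetric algebra is generated in degree one. -/
theorem isGenDegOne_sym {E : Y.Modules} [E.IsQuasicoherent] {𝒯 : RelProj.QCGrAlg Y}
    {j : E ⟶ 𝒯.toModule} (hj : RelProj.IsGrSymAlg E 𝒯 j) : 𝒯.IsGenDegOne := fun U hU => by
  refine top_le_iff.mp ?_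
  rw [← SymAlgGen.gen_eq_top hj.1 hU]
  refine Subring.closure_mono ?_
  rintro _ (⟨r, rfl⟩ | ⟨m, rfl⟩)
  · exact Or.inl (𝒯.str_mem U hU r)
  · exact Or.inr (hj.2 U hU m)

/-- Local data and surjectivity in degree one give very ampleness. -/
theorem isRelVeryAmple_of_localData (hL : PicF.IsInvertible L) (hLq : Coh.IsQCoh L)
    {jl : L ⟶ 𝒮L.toModule} (hjl : RelProj.IsGrSymAlg L 𝒮L jl)
    (hgen : 𝒮.IsGenDegOne) {u : RelProj.QGrHom q 𝒮 𝒮L}
    (hd : ∀ x, LocalData u x) (hs : ∀ x : X, ∃ c : DegOnePair u jl, x ∈ c.U') :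
    RelProj.IsRelVeryAmple q L := by
  obtain ⟨P, p, ch, hP⟩ := RelProjLib.exists_isRelProj 𝒮
  obtain ⟨PL, pL, chartL, hPL⟩ := RelProjLib.exists_isRelProj 𝒮L
  obtain ⟨r, hr, -⟩ := RelProjLib.existsUnique_qmap u hP hPL
  haveI := isImmersion_of_localData hL hLq hjl hPL hP hr hd
  exact isRelVeryAmple_of_degOne hL hLq hgen hjl hP hPL hr hs

set_option maxHeartbeats 3200000 in
set_option synthInstance.maxHeartbeats 200000 in
/-- An immersion into a projective bundle gives local data for the symmetric algebra of the bundle. -/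
theorem exists_localData_bundle {P : Scheme.{u}} {i : X ⟶ P} [IsImmersion i] {E : Y.Modules} (hE : Coh.IsQCoh E)
    {𝒯 : RelProj.QCGrAlg Y} {j : E ⟶ 𝒯.toModule} (hj : RelProj.IsGrSymAlg E 𝒯 j) {p : P ⟶ Y}
    {ch : ∀ (U : Y.Opens) (hU : IsAffineOpen U), ((p ⁻¹ᵁ U : P.Opens) : Scheme.{u}) ≅ Proj (𝒯.deg U hU)}
    (hP : RelProj.IsRelProj 𝒯 p ch) {O1 : P.Modules}
    {lam : ∀ (U : Y.Opens) (hU : IsAffineOpen U),
      O1 ⟶ (Scheme.Modules.pushforward (RelProj.emb p ch U hU)).obj (GrTwist.twist (𝒯.deg U hU) 1)}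
    (hO1 : RelProj.IsRelTwist 𝒯 p ch 1 O1 lam) (hip : i ≫ p = q) (hL : PicF.IsInvertible L)
    (hLq : Coh.IsQCoh L) (e : L ≅ (Scheme.Modules.pullback i).obj O1) {jl : L ⟶ 𝒮L.toModule}
    (hjl : RelProj.IsGrSymAlg L 𝒮L jl) :
    ∃ (κ : E ⟶ (Scheme.Modules.pushforward q).obj L) (u : RelProj.QGrHom q 𝒯 𝒮L),
      (∀ (U : Y.Opens), IsAffineOpen U → ∀ m : Γ(E, U),
        (u.app U).hom (j.app U m : 𝒯.presheaf.obj (op U)) = jL jl (q ⁻¹ᵁ U) (κ.app U m)) ∧
      (∀ x, LocalData u x) ∧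
      ∀ x : X, ∃ c : DegOnePair u jl, x ∈ c.U' := by
  classical
  subst hip
  haveI : E.IsQuasicoherent := hE
  have hO1' := (RelTilde.isRelTwist_iff 𝒯 1 O1 lam).mp hO1
  obtain ⟨φ, hφ⟩ := exists_isFund hj hP hO1'
  let θ := pullθ i e
  have hθ := fun W s hs => isGen_pullθ i e hL hO1'.isQCoh (V := W) s hs
  obtain ⟨u, hu⟩ := exists_bundleQHom (φ := φ) θ hE hj hjl
  refine ⟨bundleκ φ i θ, u, hu, fun x => ?_, fun x => ?_⟩
  · obtain ⟨U, hU, hxU, -⟩ := exists_isAffineOpen_mem_and_subset (x := p (i x)) (U := ⊤) trivial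
    obtain ⟨y, hy⟩ := RelTilde.exists_point (q := p) (ch := ch) U hU (x := i.base x) hxU
    let Em := RelProj.emb p ch U hU
    obtain ⟨n, a, hn, ha, hya, haO⟩ := exists_basicOpen_le (O := Em ⁻¹ᵁ i.coborderRange) (y := y) (by
      show Em y ∈ i.coborderRange
      rw [hy]
      exact subset_coborder ⟨x, rfl⟩)
    let D := Em ''ᵁ Proj.basicOpen (𝒯.deg U hU) a
    have hD : IsAffineOpen D := (Proj.isAffineOpen_basicOpen _ a ha hn).image_of_isOpenImmersion Em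
    have hDc : D ≤ i.coborderRange := (Em.image_mono haO).trans (Em.image_preimage_le _)
    haveI : IsClosedImmersion (i ∣_ D) := isClosedImmersion_restrict_of_le i hDc
    haveI : IsAffine (D : Scheme.{u}) := hD
    have hiD : IsAffineOpen (i ⁻¹ᵁ D) := isAffine_of_isAffineHom (i ∣_ D)
    have hNV : Rel.NV u hU n a = i ⁻¹ᵁ D := NV_eq hE hj hP hO1' hφ hL hLq θ hθ hjl hu U hU hn ha
    refine ⟨U, hU, n, a, hn, ha, hNV.ge ⟨y, hya, hy⟩, hNV ▸ hiD, fun t => ?_⟩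
    have hsurj : Function.Surjective (i.app D).hom := by
      have h1 := (i ∣_ D).app_surjective ⊤ (isAffineOpen_top _)
      rw [morphismRestrict_app] at h1
      intro c
      let iso := X.presheaf.map (eqToHom (image_morphismRestrict_preimage i D ⊤)).op
      have hDtop : D.ι ''ᵁ ⊤ = D := by rw [Scheme.Hom.image_top_eq_opensRange, Scheme.Opens.opensRange_ι]
      obtain ⟨b, hb⟩ := h1 (iso.hom (resO X (i.preimage_mono hDtop.le) c))
      refine ⟨resO P hDtop.ge b, ?_⟩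
      have hinj : Function.Injective iso.hom := (ConcreteCategory.bijective_of_isIso iso).1
      have hb' : (i.app (D.ι ''ᵁ ⊤)).hom b = resO X (i.preimage_mono hDtop.le) c := hinj hb
      refine (congr($(i.naturality (homOfLE hDtop.ge).op) b)).trans ?_
      change resO X (i.preimage_mono hDtop.ge) ((i.app (D.ι ''ᵁ ⊤)).hom b) = c
      rw [hb', QC.resO_resO, QC.resO_self]
    obtain ⟨b, hb⟩ := hsurj (resO X hNV.ge t)
    obtain ⟨k, s, hs, hk, hks⟩ := RelTilde.exists_away (𝒯.deg U hU) ha hn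
      (resO (Proj (𝒯.deg U hU)) (Em.preimage_image_eq _).ge ((Em.app D).hom b))
    refine ⟨k, hk, s, by rwa [smul_eq_mul] at hs, eq_of_locally fun x' hx' => ?_⟩
    have hxD : i.base x' ∈ D := hNV.le hx'
    have hxU' : i.base x' ∈ p ⁻¹ᵁ U := by
      have := Em.image_le_opensRange _ hxD
      rwa [RelProjLib.opensRange_emb] at this
    obtain ⟨e₀, W₀, hW₀, hxW, hle, hq⟩ := exists_chart hE hj (ch := ch) U hU x' hxU'
    obtain ⟨W, hW, hxW', hW'le⟩ :=
      exists_isAffineOpen_mem_and_subset (U := W₀ ⊓ i ⁻¹ᵁ D) (x := x') ⟨hxW, hxD⟩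
    have hleW : W ≤ i ⁻¹ᵁ DjE p ch j U hU e₀ := fun z hz => hle (hW'le hz).1
    have hWD : W ≤ i ⁻¹ᵁ D := fun z hz => (hW'le hz).2
    have hWq : W ≤ (i ≫ p) ⁻¹ᵁ U := fun z hz => hq (hW'le hz).1
    have hWNV : W ≤ Rel.NV u hU n a := hWD.trans hNV.ge
    refine ⟨W, hWNV, hxW', ?_⟩
    rw [map_mul, map_pow, resL_appLE, resL_appLE, resL_strL,
      appLE_eq_pullFn θ hP hO1' hE hj hφ hu U hU e₀ W hleW hWq ha,
      appLE_eq_pullFn θ hP hO1' hE hj hφ hu U hU e₀ W hleW hWq hs, mul_pow, ← pow_mul, ← mul_assoc,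
      ← map_pow, ← map_mul]
    congr 1
    · refine congrArg (strL 𝒮L _) ?_
      have hinf : W ≤ i ⁻¹ᵁ (D ⊓ DjE p ch j U hU e₀) := fun z hz => ⟨hWD hz, hleW hz⟩
      have key := congrArg (i.appLE (D ⊓ DjE p ch j U hU e₀) W hinf).hom
        (bundleFn_eq_of_away hj U hU e₀ ha hs b (by rw [← hks, QC.resO_resO, QC.resO_self]))
      rw [map_mul, map_pow] at key
      have hres : ∀ {D' : P.Opens} (h : D ⊓ DjE p ch j U hU e₀ ≤ D') (h' : W ≤ i ⁻¹ᵁ D') (c : Γ(P, D')),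
          (i.appLE (D ⊓ DjE p ch j U hU e₀) W hinf).hom (resO P h c) = (i.appLE D' W h').hom c :=
        fun {D'} h h' c => congr(($(Scheme.Hom.map_appLE i hinf (homOfLE h).op)).hom c)
      rw [hres inf_le_left hWD, hres inf_le_right hleW, hres inf_le_right hleW] at key
      refine Eq.trans (congrArg₂ (· * ·) ?_ rfl) key
      change resO X hWNV t = resO X hWD ((i.app D).hom b)
      rw [hb]
      exact (QC.resO_resO (X := X) hWD hNV.ge t).symm
    · rw [smul_eq_mul, mul_comm k n]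
  · obtain ⟨U, hU, hxU, -⟩ := exists_isAffineOpen_mem_and_subset (x := p (i x)) (U := ⊤) trivial
    obtain ⟨e₀, V, hV, hxV, hle, hq⟩ := exists_chart hE hj (ch := ch) U hU x hxU
    refine ⟨⟨U, hU, V, hV, hq, jE j U e₀, hj.2 U hU e₀, genL φ θ U hU e₀ V hle,
      isGen_genL hj hO1' hφ θ hθ U hU e₀ V hle, ?_⟩, hxV⟩
    have h1 := appLE_eq_pullFn θ hP hO1' hE hj hφ hu U hU e₀ V hle hq (hj.2 U hU e₀)
    rw [pow_one, show pullFn (i := i) hj U hU e₀ V hle (jE j U e₀) = 1 by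
      simp only [pullFn, RingHom.comp_apply, bundleFn_self, map_one], map_one, one_mul] at h1
    exact h1

/-- A very ample module has local data for the symmetric algebra of the bundle it comes from. -/
theorem exists_localData (hL : PicF.IsInvertible L) (hLq : Coh.IsQCoh L) {jl : L ⟶ 𝒮L.toModule}
    (hjl : RelProj.IsGrSymAlg L 𝒮L jl) (h : RelProj.IsRelVeryAmple q L) :
    ∃ (E : Y.Modules) (_ : Coh.IsQCoh E) (κ : E ⟶ (Scheme.Modules.pushforward q).obj L)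
      (𝒯 : RelProj.QCGrAlg Y) (j : E ⟶ 𝒯.toModule) (_ : RelProj.IsGrSymAlg E 𝒯 j)
      (u : RelProj.QGrHom q 𝒯 𝒮L),
      (∀ (U : Y.Opens), IsAffineOpen U → ∀ m : Γ(E, U),
        (u.app U).hom (j.app U m : 𝒯.presheaf.obj (op U)) = jL jl (q ⁻¹ᵁ U) (κ.app U m)) ∧
      (∀ x, LocalData u x) ∧
      ∀ x : X, ∃ c : DegOnePair u jl, x ∈ c.U' := by
  obtain ⟨E, hE, 𝒯, j, hj, P, p, ch, hP, O1, lam, hO1, i, hi, hip, ⟨e⟩⟩ := h
  haveI := hi
  obtain ⟨κ, u, h⟩ := exists_localData_bundle hE hj hP hO1 hip hL hLq e hjl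
  exact ⟨E, hE, κ, 𝒯, j, hj, u, h⟩

end Groth.Agent.SymAlg
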