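import Groth.Agent.QC.SubSheaf
import Groth.Agent.RelTilde.Cast
import Groth.Agent.SymAlg.Graded

/-!
The degree `d` piece of a quasi-coherent graded algebra as a quasi-coherent module.
-/

set_option autoImplicit false
set_option backward.isDefEq.respectTransparency false
set_option linter.style.haveILetI false

universe u

open CategoryTheory DirectSum AlgebraicGeometry TopologicalSpace Opposite

open Groth.Agent.QC (res resO)

noncomputable section

namespace Groth.Agent.SymAlg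

variable {S : Scheme.{u}} (𝒮 : RelProj.QCGrAlg S) (d : ℕ)

lemma smul_toModule {U : S.Opens} (r : Γ(S, U)) (a : Γ(𝒮.toModule, U)) :
    r • a = (show Γ(𝒮.toModule, U) from
      (𝒮.str.app (op U)).hom r * (show 𝒮.presheaf.obj (op U) from a)) := rfl

lemma smul_mem_deg {U : S.Opens} (hU : IsAffineOpen U) (r : Γ(S, U)) {a : Γ(𝒮.toModule, U)}
    (ha : (show 𝒮.presheaf.obj (op U) from a) ∈ 𝒮.deg U hU d) :
    (show 𝒮.presheaf.obj (op U) from r • a) ∈ 𝒮.deg U hU d := by
  have := SetLike.mul_mem_graded (A := 𝒮.deg U hU) (𝒮.str_mem U hU r) ha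
  rwa [zero_add] at this

/-- Degree `d` on every affine open inside. -/
def degSub : QC.Sub 𝒮.toModule where
  obj O :=
    { carrier := {s | ∀ (V : S.Opens) (hV : IsAffineOpen V) (h : V ≤ O),
        (show 𝒮.presheaf.obj (op V) from res 𝒮.toModule h s) ∈ 𝒮.deg V hV d}
      add_mem' := fun {a b} ha hb V hV h => by
        have := (𝒮.deg V hV d).add_mem (ha V hV h) (hb V hV h)
        rw [map_add]
        exact this
      zero_mem' := fun V hV h => by
        rw [map_zero]
        exact (𝒮.deg V hV d).zero_mem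
      smul_mem' := fun c a ha V hV h => by
        rw [QC.res_smul]
        exact smul_mem_deg 𝒮 d hV _ (ha V hV h) }
  res_mem h s hs V hV h' := by
    rw [QC.res_res]
    exact hs V hV _
  local' {O} s hs V hV h := by
    classical
    let a : 𝒮.presheaf.obj (op V) := res 𝒮.toModule h s
    change a ∈ 𝒮.deg V hV d
    suffices key : (show Γ(𝒮.toModule, V) from a) =
        (show Γ(𝒮.toModule, V) from (decompose (𝒮.deg V hV) a d : 𝒮.presheaf.obj (op V))) by
      have key' : a = (decompose (𝒮.deg V hV) a d : 𝒮.presheaf.obj (op V)) := key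
      rw [key']
      exact (decompose (𝒮.deg V hV) a d).2
    refine QC.section_eq_of_locally fun x hx => ?_
    obtain ⟨W, hW, hxW, hsW⟩ := hs x (h hx)
    obtain ⟨r, hrW, hxr⟩ := hV.exists_basicOpen_le (V := W) ⟨x, hxW⟩ hx
    refine ⟨S.basicOpen r, S.basicOpen_le r, hxr, ?_⟩
    have h1 : (show 𝒮.presheaf.obj (op (S.basicOpen r)) from res 𝒮.toModule (S.basicOpen_le r) a) ∈
        𝒮.deg (S.basicOpen r) (hV.basicOpen r) d := by
      have h2 := hsW (S.basicOpen r) (hV.basicOpen r) hrW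
      rw [QC.res_res] at h2
      change (show 𝒮.presheaf.obj (op (S.basicOpen r)) from
        res 𝒮.toModule (S.basicOpen_le r) (res 𝒮.toModule h s)) ∈ _
      rw [QC.res_res]
      exact h2
    change (show 𝒮.presheaf.obj (op (S.basicOpen r)) from res 𝒮.toModule (S.basicOpen_le r) a) =
      𝒮.res hV (hV.basicOpen r) (S.basicOpen_le r) (decompose (𝒮.deg V hV) a d : 𝒮.presheaf.obj (op V))
    rw [GradedRingHom.map_directSumDecompose]
    exact (decompose_of_mem_same (𝒮.deg (S.basicOpen r) (hV.basicOpen r)) h1).symm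

lemma mem_degSub_iff {U : S.Opens} (hU : IsAffineOpen U) (s : Γ(𝒮.toModule, U)) :
    s ∈ (degSub 𝒮 d).obj U ↔ (show 𝒮.presheaf.obj (op U) from s) ∈ 𝒮.deg U hU d := by
  refine ⟨fun h => ?_, fun h V hV i => 𝒮.map_mem hU hV i h⟩
  have := h U hU le_rfl
  rwa [QC.res_self] at this

/-- The degree `d` piece. -/
abbrev degPiece : S.Modules := (degSub 𝒮 d).toModules

/-- Its inclusion. -/
abbrev degIncl : degPiece 𝒮 d ⟶ 𝒮.toModule := (degSub 𝒮 d).ι

lemma degIncl_mem {U : S.Opens} (hU : IsAffineOpen U) (x : Γ(degPiece 𝒮 d, U)) :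
    (show 𝒮.presheaf.obj (op U) from (degIncl 𝒮 d).app U x) ∈ 𝒮.deg U hU d :=
  (mem_degSub_iff 𝒮 d hU _).mp (((degSub 𝒮 d).range_ι_app U _).mp ⟨x, rfl⟩)

lemma exists_degIncl {U : S.Opens} (hU : IsAffineOpen U) {s : 𝒮.presheaf.obj (op U)}
    (hs : s ∈ 𝒮.deg U hU d) : ∃ x : Γ(degPiece 𝒮 d, U), (degIncl 𝒮 d).app U x = s :=
  ((degSub 𝒮 d).range_ι_app U _).mpr ((mem_degSub_iff 𝒮 d hU _).mpr hs)

/-- The degree `d` piece is quasi-coherent. -/
theorem isQCoh_degPiece : Coh.IsQCoh (degPiece 𝒮 d) := by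
  classical
  refine QC.isQCoh_of_isLoc fun x => ?_
  obtain ⟨U, hU, hx, -⟩ := exists_isAffineOpen_mem_and_subset (x := x) (U := ⊤) trivial
  refine ⟨U, hU, hx, fun r t => ?_, fun r s hs => ?_⟩
  · have ht := degIncl_mem 𝒮 d (hU.basicOpen r) t
    obtain ⟨a, k, hk⟩ := RelTilde.surj_res 𝒮 hU r ((degIncl 𝒮 d).app (S.basicOpen r) t)
    obtain ⟨y, hy⟩ := exists_degIncl 𝒮 d hU (decompose (𝒮.deg U hU) a d).2
    refine ⟨k, y, (degSub 𝒮 d).ι_app_injective _ ?_⟩
    rw [← QC.app_res, hy, Scheme.Modules.Hom.app_smul]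
    have h1 : 𝒮.res hU (hU.basicOpen r) (S.basicOpen_le r) ((𝒮.str.app (op U)).hom r) ^ k *
        (show 𝒮.presheaf.obj (op (S.basicOpen r)) from (degIncl 𝒮 d).app (S.basicOpen r) t) ∈
        𝒮.deg (S.basicOpen r) (hU.basicOpen r) d := by
      have h0 := SetLike.pow_mem_graded k ((𝒮.res hU (hU.basicOpen r) (S.basicOpen_le r)).map_mem
        (𝒮.str_mem U hU r))
      have := SetLike.mul_mem_graded (A := 𝒮.deg (S.basicOpen r) (hU.basicOpen r)) h0 ht
      simpa using this
    have h2 : 𝒮.res hU (hU.basicOpen r) (S.basicOpen_le r)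
        (decompose (𝒮.deg U hU) a d : 𝒮.presheaf.obj (op U)) =
        𝒮.res hU (hU.basicOpen r) (S.basicOpen_le r) ((𝒮.str.app (op U)).hom r) ^ k *
          (show 𝒮.presheaf.obj (op (S.basicOpen r)) from (degIncl 𝒮 d).app (S.basicOpen r) t) := by
      rw [GradedRingHom.map_directSumDecompose, ← hk]
      exact decompose_of_mem_same _ h1
    refine h2.trans ?_
    rw [RelTilde.res_str, ← map_pow]
    rfl
  · have h1 := congrArg ((degIncl 𝒮 d).app (S.basicOpen r)) hs
    rw [← QC.app_res, map_zero] at h1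
    obtain ⟨k, hk⟩ := RelTilde.ker_res 𝒮 hU r ((degIncl 𝒮 d).app U s) h1
    refine ⟨k, (degSub 𝒮 d).ι_app_injective _ ?_⟩
    rw [Scheme.Modules.Hom.app_smul, map_zero]
    refine Eq.trans ?_ hk
    change (𝒮.str.app (op U)).hom (r ^ k) * _ = _
    rw [map_pow]

end Groth.Agent.SymAlg
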