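import Groth.Agent.SymAlg.RLImm
import Mathlib.AlgebraicGeometry.Morphisms.Immersion

/-!
Families of sections making `r_{L,ψ}` an immersion.
-/

set_option autoImplicit false
set_option backward.isDefEq.respectTransparency false
set_option linter.style.haveILetI false

universe u

open CategoryTheory CategoryTheory.Limits AlgebraicGeometry TopologicalSpace Opposite
open scoped HomogeneousIdeal

noncomputable section

namespace Groth.Agent.SymAlg

open Groth.Agent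

section morph

variable {A B : Scheme.{u}} (f : A ⟶ B)

lemma range_restrict (D : B.Opens) :
    Set.range (f ∣_ D) = D.ι ⁻¹' Set.range f := by
  ext y
  constructor
  · rintro ⟨a, rfl⟩
    exact ⟨(f ⁻¹ᵁ D).ι a, by rw [← Scheme.Hom.comp_apply, ← morphismRestrict_ι]; rfl⟩
  · rintro ⟨b, hb⟩
    have hbD : f b ∈ D := by rw [hb]; exact y.2
    refine ⟨⟨b, hbD⟩, D.ι.isOpenEmbedding.injective ?_⟩
    rw [← Scheme.Hom.comp_apply, morphismRestrict_ι, Scheme.Hom.comp_apply]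
    exact hb

/-- An immersion is a closed immersion over opens inside the coborder of its image. -/
lemma isClosedImmersion_restrict_of_le [IsImmersion f] {D : B.Opens} (h : D ≤ f.coborderRange) :
    IsClosedImmersion (f ∣_ D) := by
  haveI : IsImmersion (f ∣_ D) := IsZariskiLocalAtTarget.restrict ‹IsImmersion f› D
  refine IsClosedImmersion.of_isPreimmersion _ ?_
  have e : D.ι ⁻¹' Set.range f = D.ι ⁻¹' closure (Set.range f) := by
    ext y
    refine ⟨fun hy => subset_closure hy, fun hy => ?_⟩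
    have : D.ι y ∈ closure (Set.range f) ∩ coborder (Set.range f) := ⟨hy, h y.2⟩
    rwa [closure_inter_coborder] at this
  rw [range_restrict, e]
  exact isClosed_closure.preimage D.ι.continuous

/-- An open immersion is an isomorphism over opens inside its image. -/
lemma isIso_restrict_of_le [IsOpenImmersion f] {D : B.Opens} (h : D ≤ f.opensRange) :
    IsIso (f ∣_ D) := by
  refine isIso_of_isOpenImmersion_of_opensRange_eq_top _ (Opens.ext ?_)
  rw [Scheme.Hom.coe_opensRange, range_restrict]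
  exact Set.eq_univ_of_forall fun y => h y.2

/-- Glueing a local property of a morphism over an open containing the image. -/
lemma prop_restrict_iSup (Q : MorphismProperty Scheme.{u}) [IsZariskiLocalAtTarget Q]
    {ι : Type u} (D : ι → B.Opens) (h : ∀ i, Q (f ∣_ D i)) : Q (f ∣_ ⨆ i, D i) := by
  refine IsZariskiLocalAtTarget.of_iSup_eq_top (fun i => (⨆ i, D i).ι ⁻¹ᵁ D i) ?_ fun i => ?_
  · rw [← Scheme.Hom.preimage_iSup]
    exact eq_top_iff.mpr fun y _ => y.2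
  · refine (Q.arrow_mk_iso_iff (morphismRestrictRestrict f _ _)).mpr ?_
    rw [Scheme.Hom.image_preimage_eq_opensRange_inf, Scheme.Opens.opensRange_ι,
      inf_eq_right.mpr (le_iSup D i)]
    exact h i

lemma eq_comp_restrict {Ω : B.Opens} (h : f ⁻¹ᵁ Ω = ⊤) :
    ∃ e : A ≅ (f ⁻¹ᵁ Ω).toScheme, f = e.hom ≫ (f ∣_ Ω) ≫ Ω.ι := by
  haveI : IsIso (f ⁻¹ᵁ Ω).ι := by rw [h]; exact (Scheme.topIso A).isIso_hom
  exact ⟨(asIso (f ⁻¹ᵁ Ω).ι).symm, by rw [morphismRestrict_ι]; simp⟩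

end morph

variable {Y X P PL : Scheme.{u}} {q : X ⟶ Y} {L : X.Modules} (hL : PicF.IsInvertible L)
  (hLq : Coh.IsQCoh L) {𝒮 : RelProj.QCGrAlg Y} {𝒮L : RelProj.QCGrAlg X} {j : L ⟶ 𝒮L.toModule}
  (hj : RelProj.IsGrSymAlg L 𝒮L j) (u : RelProj.QGrHom q 𝒮 𝒮L) {p : P ⟶ Y}
  {chart : ∀ (U : Y.Opens) (hU : IsAffineOpen U), ((p ⁻¹ᵁ U : P.Opens) : Scheme.{u}) ≅ Proj (𝒮.deg U hU)}
  {pL : PL ⟶ X}
  {chartL : ∀ (U : X.Opens) (hU : IsAffineOpen U), ((pL ⁻¹ᵁ U : PL.Opens) : Scheme.{u}) ≅ Proj (𝒮L.deg U hU)}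
  (hPL : RelProj.IsRelProj 𝒮L pL chartL)
  {r : ((RelProj.domQ u pL chartL : PL.Opens) : Scheme.{u}) ⟶ P}
  (hr : RelProj.IsProjQMapOn u p chart pL chartL (RelProj.domQ u pL chartL) r)
  (hY : IsAffineOpen (⊤ : Y.Opens))

variable (p chart) in
/-- The sections with `D₊` inside `U`. -/
abbrev Fam (U : P.Opens) : Type u :=
  {a : ℕ × 𝒮.presheaf.obj (op ⊤) //
    0 < a.1 ∧ a.2 ∈ 𝒮.deg ⊤ hY a.1 ∧ DPlus p chart hY a.2 ≤ U}

lemma exists_fam {U : P.Opens} {y : P} (hy : y ∈ U) :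
    ∃ a : Fam p chart hY U, y ∈ DPlus p chart hY a.1.2 := by
  obtain ⟨y, rfl⟩ : y ∈ (RelProj.emb p chart ⊤ hY).opensRange := by
    rw [RelProjLib.opensRange_emb]; trivial
  obtain ⟨n, f, hn, hf, hyf, hfU⟩ :=
    exists_basicOpen_le (O := RelProj.emb p chart ⊤ hY ⁻¹ᵁ U) (y := y) hy
  refine ⟨⟨(n, f), hn, hf, ?_⟩, y, hyf, rfl⟩
  rintro _ ⟨z, hz, rfl⟩
  exact hfU hz

include hL hLq hj hPL hr

lemma facts_of_closed_restrict {n : ℕ} (hn : 0 < n) {f : 𝒮.presheaf.obj (op ⊤)}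
    (hf : f ∈ 𝒮.deg ⊤ hY n) (h : IsClosedImmersion (r ∣_ DPlus p chart hY f)) :
    IsAffineOpen (NV u hY n f) := by
  have hD : IsAffineOpen (DPlus p chart hY f) := by
    have := isAffineOpen_opensRange (Proj.awayι (𝒮.deg ⊤ hY) f hf hn ≫ RelProj.emb p chart ⊤ hY)
    rwa [Scheme.Hom.opensRange_comp, Proj.opensRange_awayι] at this
  haveI : IsAffine (DPlus p chart hY f).toScheme := hD
  have h1 : IsAffineOpen (r ⁻¹ᵁ DPlus p chart hY f) := isAffine_of_isAffineHom (r ∣_ DPlus p chart hY f)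
  have h2 := h1.image_of_isOpenImmersion (RelProj.domQ u pL chartL).ι
  rw [preimage_basicOpen_eq hL hLq hj u hPL hr hY hn hf] at h2
  haveI := isIso_pL hL hLq hj hPL
  have h3 := h2.image_of_isOpenImmersion pL
  rwa [Scheme.Hom.image_preimage_eq_opensRange_inf, Scheme.Hom.opensRange_of_isIso, top_inf_eq] at h3

/-- Conditions (i)-(iii) from closed restrictions. -/
theorem exists_family (htop : RelProj.domQ u pL chartL = ⊤) (U : P.Opens) (hU : ∀ w, r w ∈ U)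
    (hc : ∀ D : P.Opens, D ≤ U → IsClosedImmersion (r ∣_ D)) :
    (⨆ a : Fam p chart hY U, NV u hY a.1.1 a.1.2) = ⊤ ∧
      (∀ a : Fam p chart hY U, IsAffineOpen (NV u hY a.1.1 a.1.2)) ∧
      ∀ (a : Fam p chart hY U) (x : Γ(X, NV u hY a.1.1 a.1.2)),
        ∃ (m : ℕ) (_ : 0 < m) (s' : 𝒮.presheaf.obj (op ⊤)) (_ : s' ∈ 𝒮.deg ⊤ hY (m * a.1.1)),
          (𝒮L.str.app (op (NV u hY a.1.1 a.1.2))).hom x *
              ((u.appLE ⊤ (NV u hY a.1.1 a.1.2) (le_top' _)).hom a.1.2) ^ m =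
            (u.appLE ⊤ (NV u hY a.1.1 a.1.2) (le_top' _)).hom s' := by
  have ha : ∀ a : Fam p chart hY U, IsAffineOpen (NV u hY a.1.1 a.1.2) := fun a =>
    facts_of_closed_restrict hL hLq hj u hPL hr hY a.2.1 a.2.2.1 (hc _ a.2.2.2)
  refine ⟨eq_top_iff.mpr fun x _ => ?_, ha, fun a => ?_⟩
  · haveI := isIso_pL hL hLq hj hPL
    obtain ⟨z, rfl⟩ : ∃ z, pL z = x := ⟨inv pL x, by rw [← Scheme.Hom.comp_apply, IsIso.inv_hom_id]; rfl⟩
    obtain ⟨w, rfl⟩ : ∃ w, (RelProj.domQ u pL chartL).ι w = z := ⟨⟨z, htop ▸ trivial⟩, rfl⟩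
    obtain ⟨a, haw⟩ := exists_fam hY (hU w)
    obtain ⟨V, hV, hNV⟩ := (mem_preimage_basicOpen_iff hL hLq hj u hPL hr hY a.2.1 a.2.2.1 _).mp
      ⟨w, haw, rfl⟩
    exact Opens.mem_iSup.mpr ⟨a, Nonvanishing.le_NV u hY hNV hV⟩
  · exact (isClosedImmersion_restrict_iff hL hLq hj u hPL hr hY a.2.1 a.2.2.1 (ha a) rfl).mp
      (hc _ a.2.2.2)

variable {ι : Type u} {n : ι → ℕ} {s : ι → 𝒮.presheaf.obj (op ⊤)}
  (hns : ∀ a, 0 < n a ∧ s a ∈ 𝒮.deg ⊤ hY (n a)) (hcov : (⨆ a, NV u hY (n a) (s a)) = ⊤)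

include hns hcov

/-- A covering family makes `r` everywhere defined, with image in the `D₊(s_a)`. -/
theorem of_cover :
    RelProj.domQ u pL chartL = ⊤ ∧ r ⁻¹ᵁ (⨆ a, DPlus p chart hY (s a)) = ⊤ := by
  have key : ∀ x : X, ∃ a, ∃ V : X.affineOpens, x ∈ V.1 ∧ Nonvanishing u hY (n a) (s a) V := by
    intro x
    obtain ⟨a, ha⟩ := Opens.mem_iSup.mp (hcov.ge (Set.mem_univ x))
    obtain ⟨⟨V, hV⟩, hxV⟩ := Opens.mem_iSup.mp ha
    exact ⟨a, V, hxV, hV⟩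
  refine ⟨(domQ_eq_top_iff hL hLq hj u hPL hY).mpr fun x => ?_, eq_top_iff.mpr fun w _ => ?_⟩
  · obtain ⟨a, V, hxV, hV⟩ := key x
    exact ⟨n a, (hns a).1, s a, (hns a).2, V, hxV, hV⟩
  · obtain ⟨a, V, hxV, hV⟩ := key (pL ((RelProj.domQ u pL chartL).ι w))
    obtain ⟨w', hw', e⟩ :=
      (mem_preimage_basicOpen_iff hL hLq hj u hPL hr hY (hns a).1 (hns a).2 _).mpr ⟨V, hxV, hV⟩
    obtain rfl := (RelProj.domQ u pL chartL).ι.isOpenEmbedding.injective e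
    exact Opens.mem_iSup.mpr ⟨a, hw'⟩

end Groth.Agent.SymAlg
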