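import Groth.Agent.SymAlg.RLRel

/-!
Dominance of `r_{L,ψ}` over an arbitrary base, and comparison along graded homomorphisms.
-/

set_option autoImplicit false
set_option backward.isDefEq.respectTransparency false
set_option linter.style.haveILetI false

universe u

open CategoryTheory CategoryTheory.Limits AlgebraicGeometry TopologicalSpace Opposite
open scoped HomogeneousIdeal

noncomputable section

namespace Groth.Agent.SymAlg.Rel

open Groth.Agent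

variable {Y X P PL : Scheme.{u}} {q : X ⟶ Y} {L : X.Modules} (hL : PicF.IsInvertible L)
  (hLq : Coh.IsQCoh L) {𝒮 : RelProj.QCGrAlg Y} {𝒮L : RelProj.QCGrAlg X} {j : L ⟶ 𝒮L.toModule}
  (hj : RelProj.IsGrSymAlg L 𝒮L j) (u : RelProj.QGrHom q 𝒮 𝒮L) {p : P ⟶ Y}
  {chart : ∀ (U : Y.Opens) (hU : IsAffineOpen U), ((p ⁻¹ᵁ U : P.Opens) : Scheme.{u}) ≅ Proj (𝒮.deg U hU)}
  {pL : PL ⟶ X}
  {chartL : ∀ (U : X.Opens) (hU : IsAffineOpen U), ((pL ⁻¹ᵁ U : PL.Opens) : Scheme.{u}) ≅ Proj (𝒮L.deg U hU)}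
  (hPL : RelProj.IsRelProj 𝒮L pL chartL)
  {r : ((RelProj.domQ u pL chartL : PL.Opens) : Scheme.{u}) ⟶ P}
  (hr : RelProj.IsProjQMapOn u p chart pL chartL (RelProj.domQ u pL chartL) r)
  (hP : RelProj.IsRelProj 𝒮 p chart)

include hL hLq hj hPL hr hP in
/-- `r` is dominant iff every non-nilpotent homogeneous section is somewhere non-vanishing. -/
theorem isDominant_iff_nonvanishing :
    IsDominant r ↔ ∀ (U : Y.Opens) (hU : IsAffineOpen U) (n : ℕ), 0 < n → ∀ f ∈ 𝒮.deg U hU n, ¬ IsNilpotent f →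
      ∃ V : X.affineOpens, (V.1 : Set X).Nonempty ∧ Nonvanishing u hU n f V := by
  rw [isDominant_iff]
  constructor
  · intro hd U hU n hn f hf hnil
    obtain ⟨y, hy⟩ : ∃ y, y ∈ Proj.basicOpen (𝒮.deg U hU) f := by
      by_contra! h
      exact hnil (isNilpotent_of_basicOpen_eq_bot hn hf (eq_bot_iff.2 fun y hy => (h y hy).elim))
    obtain ⟨_, hz, w, rfl⟩ := hd.inter_open_nonempty
      (RelProj.emb p chart U hU ''ᵁ Proj.basicOpen (𝒮.deg U hU) f : P.Opens) (Opens.isOpen _) ⟨_, y, hy, rfl⟩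
    obtain ⟨V, hV, hs⟩ := (mem_preimage_basicOpen_iff hL hLq hj u hPL hr hU hP hn hf
      ((RelProj.domQ u pL chartL).ι w)).1 ⟨w, hz, rfl⟩
    exact ⟨V, ⟨_, hV⟩, hs⟩
  · intro h
    refine dense_iff_inter_open.mpr fun O hO ⟨a, ha⟩ => ?_
    obtain ⟨U, hU, haU, -⟩ := exists_isAffineOpen_mem_and_subset (show p a ∈ (⊤ : Y.Opens) from trivial)
    obtain ⟨y, rfl⟩ : a ∈ (RelProj.emb p chart U hU).opensRange := by
      rw [RelProjLib.opensRange_emb]; exact haU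
    obtain ⟨n, f, hn, hf, hyf, hfO⟩ :=
      exists_basicOpen_le (O := RelProj.emb p chart U hU ⁻¹ᵁ ⟨O, hO⟩) (y := y) ha
    have hnot : ¬ IsNilpotent f := fun ⟨k, hk⟩ =>
      hyf (y.isPrime.mem_of_pow_mem k (hk.symm ▸ Ideal.zero_mem _))
    obtain ⟨V, ⟨x, hxV⟩, hs⟩ := h U hU n hn f hf hnot
    haveI := isIso_pL hL hLq hj hPL
    obtain ⟨z, rfl⟩ : ∃ z, pL z = x := ⟨inv pL x, by rw [← Scheme.Hom.comp_apply, IsIso.inv_hom_id]; rfl⟩
    obtain ⟨w, ⟨y', hy', he⟩, -⟩ := (mem_preimage_basicOpen_iff hL hLq hj u hPL hr hU hP hn hf z).2 ⟨V, hxV, hs⟩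
    exact ⟨r w, he ▸ hfO hy', w, rfl⟩

variable {𝒯 : RelProj.QCGrAlg Y} (v : 𝒯.toQCAlg ⟶ 𝒮.toQCAlg) (u' : RelProj.QGrHom q 𝒯 𝒮L)

/-- Non-vanishing along a graded homomorphism. -/
theorem nonvanishing_map_iff (hu' : ∀ U : Y.Opens, u'.app U = v.hom.app (op U) ≫ u.app U) {U : Y.Opens}
    (hU : IsAffineOpen U) (n : ℕ) (y : 𝒯.presheaf.obj (op U)) (V : X.affineOpens) :
    Nonvanishing u' hU n y V ↔ Nonvanishing u hU n ((v.hom.app (op U)).hom y) V := by
  have key : ∀ h : V.1 ≤ q ⁻¹ᵁ U, (u'.appLE U V.1 h).hom y = (u.appLE U V.1 h).hom ((v.hom.app (op U)).hom y) := by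
    intro h
    simp only [RelSpec.QHom.appLE, hu']
    rfl
  unfold Nonvanishing
  exact exists_congr fun h => by rw [key]

/-- Homogeneous lifts of homogeneous sections. -/
theorem exists_homogeneous_lift (hv : RelProj.IsGradedHom v) {U : Y.Opens} (hU : IsAffineOpen U) {n : ℕ}
    {f : 𝒮.presheaf.obj (op U)} (hf : f ∈ 𝒮.deg U hU n) (y : 𝒯.presheaf.obj (op U))
    (hy : (v.hom.app (op U)).hom y = f) :
    ∃ y' ∈ 𝒯.deg U hU n, (v.hom.app (op U)).hom y' = f := by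
  let g := RelProj.gradedHomAt v hv U hU
  refine ⟨(DirectSum.decompose (𝒯.deg U hU) y n : 𝒯.presheaf.obj (op U)), SetLike.coe_mem _, ?_⟩
  show g _ = f
  rw [GradedRingHom.map_directSumDecompose, show g y = f from hy, DirectSum.decompose_of_mem_same _ hf]

end Groth.Agent.SymAlg.Rel
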