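import Groth.Agent.SymAlg.VAmpleTensor
import Groth.Agent.InvGen.Basic
import Groth.Agent.TMul.Assoc
import Groth.Agent.SymAlg.VAmpleOps

/-!
Tensor products and powers of very ample modules.
-/

set_option autoImplicit false
set_option backward.isDefEq.respectTransparency false
set_option linter.style.haveILetI false

universe u

open CategoryTheory CategoryTheory.Limits AlgebraicGeometry TopologicalSpace Opposite
open Groth.Agent.QC (res resO res_res res_self res_smul app_res)

noncomputable section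

namespace Groth.Agent.SymAlg

open Groth.Agent
open TMul (IsGen)

variable {X Y : Scheme.{u}} {q : X ⟶ Y} {L L' : X.Modules}

/-- The degree-one part of a symmetric algebra consists of the sections of the module. -/
theorem exists_jsec_of_mem_deg_one' {Y : Scheme.{u}} {E : Y.Modules} [E.IsQuasicoherent]
    {𝒯 : RelProj.QCGrAlg Y} {j : E ⟶ 𝒯.toModule} (hj : RelProj.IsGrSymAlg E 𝒯 j) {U : Y.Opens}
    (hU : IsAffineOpen U) {x : 𝒯.presheaf.obj (op U)} (hx : x ∈ 𝒯.deg U hU 1) :
    ∃ m : Γ(E, U), SymAlgGen.jsec j U m = x := by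
  classical
  let T : Set (𝒯.presheaf.obj (op U)) :=
    Set.range (SymAlgGen.strS 𝒯.toQCAlg U) ∪ Set.range (SymAlgGen.jsec j U)
  have hM : ∀ y ∈ Submonoid.closure T, ∃ d, y ∈ 𝒯.deg U hU d ∧
      (d = 0 → ∃ r, SymAlgGen.strS 𝒯.toQCAlg U r = y) ∧ (d = 1 → ∃ m, SymAlgGen.jsec j U m = y) := by
    intro y hy
    induction hy using Submonoid.closure_induction with
    | mem y hy =>
      rcases hy with ⟨r, rfl⟩ | ⟨m, rfl⟩
      · exact ⟨0, 𝒯.str_mem U hU r, fun _ => ⟨r, rfl⟩, fun h => absurd h (by omega)⟩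
      · exact ⟨1, hj.2 U hU m, fun h => absurd h (by omega), fun _ => ⟨m, rfl⟩⟩
    | one => exact ⟨0, SetLike.one_mem_graded _, fun _ => ⟨1, map_one _⟩, fun h => absurd h (by omega)⟩
    | mul a b _ _ ha hb =>
      obtain ⟨d, ha, ha0, ha1⟩ := ha
      obtain ⟨e, hb, hb0, hb1⟩ := hb
      refine ⟨d + e, SetLike.mul_mem_graded ha hb, fun h => ?_, fun h => ?_⟩
      · obtain ⟨r, rfl⟩ := ha0 (by omega)
        obtain ⟨r', rfl⟩ := hb0 (by omega)
        exact ⟨r * r', map_mul _ _ _⟩
      · rcases Nat.eq_zero_or_pos d with hd | hd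
        · obtain ⟨r, rfl⟩ := ha0 hd
          obtain ⟨m, rfl⟩ := hb1 (by omega)
          exact ⟨r • m, SymAlgGen.jsec_smul (j := j) U r m⟩
        · obtain ⟨r, rfl⟩ := hb0 (by omega)
          obtain ⟨m, rfl⟩ := ha1 (by omega)
          exact ⟨r • m, (SymAlgGen.jsec_smul (j := j) U r m).trans (mul_comm _ _)⟩
  suffices key : ∀ z : 𝒯.presheaf.obj (op U), ∃ m, SymAlgGen.jsec j U m =
      (DirectSum.decompose (𝒯.deg U hU) z 1 : 𝒯.presheaf.obj (op U)) by
    obtain ⟨m, hm⟩ := key x
    exact ⟨m, hm.trans (DirectSum.decompose_of_mem_same _ hx)⟩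
  intro z
  have hz : z ∈ Subring.closure T := (SymAlgGen.gen_eq_top hj.1 hU).ge (Subring.mem_top z)
  rw [Subring.mem_closure_iff] at hz
  have hzero : SymAlgGen.jsec j U 0 = 0 := map_zero (j.app U).hom
  induction hz using AddSubgroup.closure_induction with
  | mem y hy =>
    obtain ⟨d, hd, -, hd1⟩ := hM y hy
    by_cases h : d = 1
    · subst h
      rw [DirectSum.decompose_of_mem_same _ hd]
      exact hd1 rfl
    · exact ⟨0, by rw [DirectSum.decompose_of_mem_ne _ hd h, hzero]⟩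
  | zero => exact ⟨0, by rw [DirectSum.decompose_zero, hzero]; rfl⟩
  | add a b _ _ ha hb =>
    obtain ⟨m, hm⟩ := ha
    obtain ⟨n, hn⟩ := hb
    exact ⟨m + n, by rw [DirectSum.decompose_add, DirectSum.add_apply, AddMemClass.coe_add, ← hm, ← hn]; exact map_add (j.app U).hom m n⟩
  | neg a _ ha =>
    obtain ⟨m, hm⟩ := ha
    exact ⟨-m, by rw [DirectSum.decompose_neg]; exact (map_neg (j.app U).hom m).trans (congrArg Neg.neg hm)⟩

/-- A very ample module is a quotient of an inverse image from the base. -/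
theorem exists_epi_of_isRelVeryAmple (hL : PicF.IsInvertible L) (h : RelProj.IsRelVeryAmple q L) :
    ∃ (E : Y.Modules) (_ : Coh.IsQCoh E) (φ : (Scheme.Modules.pullback q).obj E ⟶ L), Epi φ := by
  have hLq : Coh.IsQCoh L := TMul.isQCoh_of_isInvertible hL
  obtain ⟨𝒮L, jl, hjl⟩ := exists_isGrSymAlg hLq
  obtain ⟨E, hE, κ, 𝒯, j, hj, u, hu, -, hpair⟩ := exists_localData hL hLq hjl h
  haveI : E.IsQuasicoherent := hE
  let adj := Scheme.Modules.pullbackPushforwardAdjunction q
  let φ := (adj.homEquiv E L).symm κ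
  refine ⟨E, hE, φ, InvGen.epi_of_locally φ fun U t x hx => ?_⟩
  obtain ⟨c, hxc⟩ := hpair x
  obtain ⟨V, hV, hxV, hle⟩ := exists_isAffineOpen_mem_and_subset (U := U ⊓ c.U') (x := x) ⟨hx, hxc⟩
  have h1 : V ≤ U := fun y hy => (hle hy).1
  have h2 : V ≤ c.U' := fun y hy => (hle hy).2
  obtain ⟨m, hm⟩ := exists_jsec_of_mem_deg_one' hj c.hU c.he
  have hκ : res L c.le (κ.app c.U m) = c.m := by
    have h3 : jL jl c.U' (res L c.le (κ.app c.U m)) = jL jl c.U' c.m := by
      rw [← appLE_of_app hu c.hU c.le, show jL j c.U m = c.e from hm]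
      exact c.eq
    obtain ⟨a, ha⟩ := exists_smul_eq c.gen (res L c.le (κ.app c.U m))
    rw [← ha, show jL jl c.U' (a • c.m) = strL 𝒮L c.U' a * jL jl c.U' c.m from
      Scheme.Modules.Hom.app_smul jl a _] at h3
    have h4 := coeff_inj hLq hjl c.hU' c.gen (n := 1) (c := a) (c' := 1)
      (by rw [map_one, one_mul, pow_one]; exact h3)
    rw [← ha, h4, one_smul]
  obtain ⟨a, ha⟩ := exists_smul_eq (isGen_res h2 c.gen) (res L h1 t)
  refine ⟨V, h1, hxV, a • res ((Scheme.Modules.pullback q).obj E) (h2.trans c.le)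
    (OmegaSh.pullSect q E c.U m), ?_⟩
  rw [Scheme.Modules.Hom.app_smul, ← ha, ← hκ, res_res]
  refine congrArg (a • ·) ((app_res φ _ _).symm.trans (congrArg (res L _) ?_))
  have h5 : (adj.unit.app E ≫ (Scheme.Modules.pushforward q).map φ) = κ :=
    (adj.homEquiv_unit E L φ).symm.trans (Equiv.apply_symm_apply _ _)
  exact congr(($h5).app c.U m)

/-- Tensor products of very ample modules are very ample. -/
theorem isRelVeryAmple_tensor (hL : PicF.IsInvertible L) (hL' : PicF.IsInvertible L')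
    (h : RelProj.IsRelVeryAmple q L) (h' : RelProj.IsRelVeryAmple q L') :
    RelProj.IsRelVeryAmple q (CohB1.tensorMod L L') := by
  obtain ⟨E, hE, φ, hφ⟩ := exists_epi_of_isRelVeryAmple hL' h'
  exact isRelVeryAmple_tensor_of_epi hL h hL' E hE φ

/-- Powers of very ample modules are very ample. -/
theorem isRelVeryAmple_tensorPow (hL : PicF.IsInvertible L) (h : RelProj.IsRelVeryAmple q L) :
    ∀ n : ℕ, 0 < n → RelProj.IsRelVeryAmple q (CohB1.tensorPow L n)
  | 0, h0 => absurd h0 (lt_irrefl 0)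
  | 1, _ => isRelVeryAmple_of_iso (TMul.leftUnitIso L) h
  | n + 2, _ => isRelVeryAmple_tensor (TMul.isInvertible_tensorPow hL (n + 1)) hL
      (isRelVeryAmple_tensorPow hL h (n + 1) n.succ_pos) h

end Groth.Agent.SymAlg
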