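import Groth.Agent.SymAlg.Segre
import Mathlib.AlgebraicGeometry.Morphisms.Flat

/-!
External products of very ample modules.
-/

set_option autoImplicit false
set_option backward.isDefEq.respectTransparency false
set_option linter.style.haveILetI false
set_option linter.unusedSectionVars false

universe u

open CategoryTheory CategoryTheory.Limits DirectSum AlgebraicGeometry TopologicalSpace Opposite
open scoped HomogeneousIdeal
open Groth.Agent.QC (res resO res_res res_self res_smul app_res)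

noncomputable section

namespace Groth.Agent.SymAlg

open Groth.Agent
open TMul (IsGen tm)

/-- Local data over a given affine open. -/
def LocalAt {X Y : Scheme.{u}} {q : X ⟶ Y} {𝒮 : RelProj.QCGrAlg Y} {𝒮L : RelProj.QCGrAlg X}
    (u : RelProj.QGrHom q 𝒮 𝒮L) (U : Y.Opens) (hU : IsAffineOpen U) (x : X) : Prop :=
  ∃ (n : ℕ) (f : 𝒮.presheaf.obj (op U)), 0 < n ∧ f ∈ 𝒮.deg U hU n ∧ x ∈ Rel.NV u hU n f ∧
    IsAffineOpen (Rel.NV u hU n f) ∧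
      ∀ t, t ∈ Rel.condSet u hU n f (Rel.NV u hU n f) (Rel.NV_le u hU n f)

section Restrict

variable {X Y : Scheme.{u}} {q : X ⟶ Y} {L : X.Modules} {𝒮 : RelProj.QCGrAlg Y}
  {𝒮L : RelProj.QCGrAlg X}

lemma appLE_resL (u : RelProj.QGrHom q 𝒮 𝒮L) {U U' : Y.Opens} {V : X.Opens} (i : U' ≤ U)
    (h : V ≤ q ⁻¹ᵁ U') (f : 𝒮.presheaf.obj (op U)) :
    (u.appLE U' V h).hom (resL 𝒮 i f) = (u.appLE U V (h.trans (q.preimage_mono i))).hom f :=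
  congr(($(u.map_appLE i h)).hom f)

/-- Local data pass to basic opens of the base. -/
theorem localAt_basicOpen (hL : PicF.IsInvertible L) {jl : L ⟶ 𝒮L.toModule}
    (hjl : RelProj.IsGrSymAlg L 𝒮L jl) {u : RelProj.QGrHom q 𝒮 𝒮L} {U : Y.Opens}
    {hU : IsAffineOpen U} {x : X} (h : LocalAt u U hU x) (r : Γ(Y, U)) (hx : q x ∈ Y.basicOpen r) :
    LocalAt u (Y.basicOpen r) (hU.basicOpen r) x := by
  have hLq : Coh.IsQCoh L := TMul.isQCoh_of_isInvertible hL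
  obtain ⟨n, f, hn, hf, hxf, hO, hc⟩ := h
  let U' := Y.basicOpen r
  have hU' : IsAffineOpen U' := hU.basicOpen r
  have hi : U' ≤ U := Y.basicOpen_le r
  let f' := resL 𝒮 hi f
  have hf' : f' ∈ 𝒮.deg U' hU' n := 𝒮.map_mem hU hU' hi hf
  let O := Rel.NV u hU n f
  let O' := Rel.NV u hU' n f'
  have hOU : O ≤ q ⁻¹ᵁ U := Rel.NV_le u hU n f
  have key : ∀ (V : X.Opens) (hV : IsAffineOpen V) (hVU : V ≤ q ⁻¹ᵁ U') (g : Γ(L, V)), IsGen g →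
      V ⊓ O' = V ⊓ O := fun V hV hVU g hg => by
    have hVU₀ : V ≤ q ⁻¹ᵁ U := hVU.trans (q.preimage_mono hi)
    obtain ⟨C, hC⟩ := exists_coeff hLq hjl hV hg (u.map_mem U hU V hV hVU₀ hf)
    rw [inter_eq_basicOpen hLq hjl ((u.app U).hom f) (fun y => mem_NV_iff u hU n f y) hV hVU₀ hg hC]
    exact inter_eq_basicOpen hLq hjl ((u.app U').hom f') (fun y => mem_NV_iff u hU' n f' y) hV hVU hg
      ((appLE_resL u hi hVU f).trans hC)
  let rb : Γ(X, O) := (q.appLE U O hOU).hom r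
  have hD : X.basicOpen rb = O ⊓ q ⁻¹ᵁ U' := Scheme.basicOpen_appLE _ _ _ _ _
  have hO' : X.basicOpen rb = O' := by
    rw [hD]
    refine le_antisymm (fun y hy => ?_) (fun y hy => ?_)
    · obtain ⟨V, hV, g, hyV, hVU, hg⟩ := exists_triv hL (O := q ⁻¹ᵁ U') (x := y) hy.2
      exact ((key V hV hVU g hg).ge ⟨hyV, hy.1⟩).2
    · have hyU : y ∈ q ⁻¹ᵁ U' := Rel.NV_le u hU' n f' hy
      obtain ⟨V, hV, g, hyV, hVU, hg⟩ := exists_triv hL (O := q ⁻¹ᵁ U') (x := y) hyU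
      exact ⟨((key V hV hVU g hg).le ⟨hyV, hy⟩).2, hyU⟩
  refine ⟨n, f', hn, hf', hO'.le (hD.ge ⟨hxf, hx⟩), (hO' ▸ hO.basicOpen rb : IsAffineOpen O'),
    Rel.condSet_congr_all u hU' n f' hO' (hD.le.trans inf_le_right) _ fun t => ?_⟩
  haveI := hO.isLocalization_basicOpen rb
  have hDO : X.basicOpen rb ≤ O := X.basicOpen_le rb
  have hDU : X.basicOpen rb ≤ q ⁻¹ᵁ U' := hD.le.trans inf_le_right
  obtain ⟨K, z, hz⟩ := IsLocalization.Away.surj rb t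
  have hz' : t * resO X hDO rb ^ K = resO X hDO z := hz
  obtain ⟨k, hk, s, hs, he⟩ := hc z
  have h0 := congrArg (resL 𝒮L hDO) he
  rw [map_mul, map_pow, resL_appLE, resL_appLE, ← appLE_resL u hi hDU, ← appLE_resL u hi hDU] at h0
  change resL 𝒮L hDO (strL 𝒮L O z) * _ = _ at h0
  rw [resL_strL, ← hz'] at h0
  obtain ⟨w, hw⟩ := (RingedSpace.isUnit_res_basicOpen _ r).exists_right_inv
  have hrw : resO X hDO rb * (q.appLE U' _ hDU).hom w = 1 := by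
    have h1 : resO X hDO rb = (q.appLE U' _ hDU).hom (resO Y hi r) := by
      simp only [rb, resO, ← CommRingCat.comp_apply, Scheme.Hom.appLE_map, Scheme.Hom.map_appLE]
    rw [h1, ← map_mul]
    exact (congrArg _ hw).trans (map_one _)
  refine ⟨k, hk, strL 𝒮 U' (w ^ K) * resL 𝒮 hi s, ?_, ?_⟩
  · simpa using SetLike.mul_mem_graded (𝒮.str_mem U' hU' (w ^ K)) (𝒮.map_mem hU hU' hi hs)
  · rw [map_mul, show (u.appLE U' (X.basicOpen rb) hDU).hom (strL 𝒮 U' (w ^ K)) =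
      strL 𝒮L _ ((q.appLE U' _ hDU).hom (w ^ K)) from congr(($(u.str_appLE U' _ hDU)).hom (w ^ K)),
      ← h0, ← mul_assoc, ← map_mul, map_pow,
      show (q.appLE U' _ hDU).hom w ^ K * (t * resO X hDO rb ^ K) =
        t * (resO X hDO rb * (q.appLE U' _ hDU).hom w) ^ K by ring, hrw, one_pow, mul_one]

end Restrict

/-- Data pulled back along `π`. -/
def PullAt {W Z Q : Scheme.{u}} (π : W ⟶ Z) (g : Z ⟶ Q) {q : W ⟶ Q} {𝒯 : RelProj.QCGrAlg Q}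
    {𝒮' : RelProj.QCGrAlg W} (u' : RelProj.QGrHom q 𝒯 𝒮') (U : Q.Opens) (hU : IsAffineOpen U) (w : W) :
    Prop :=
  ∃ (n : ℕ) (a : 𝒯.presheaf.obj (op U)), 0 < n ∧ a ∈ 𝒯.deg U hU n ∧
    ∃ O : Z.Opens, IsAffineOpen O ∧ π w ∈ O ∧ O ≤ g ⁻¹ᵁ U ∧ Rel.NV u' hU n a = π ⁻¹ᵁ O ∧
      ∀ (O' : W.Opens) (h : O' ≤ π ⁻¹ᵁ O) (hU' : O' ≤ q ⁻¹ᵁ U) (t : Γ(Z, O)),
        (π.appLE O O' h).hom t ∈ Rel.condSet u' hU n a O' hU'

set_option maxHeartbeats 1600000 in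
/-- A very ample module pulled back keeps pulled-back data. -/
theorem exists_pulled_of_data {W Z Q : Scheme.{u}} (π : W ⟶ Z) (g : Z ⟶ Q) {q : W ⟶ Q} (hq : π ≫ g = q)
    {A : Z.Modules} (hA : PicF.IsInvertible A) {𝒮A : RelProj.QCGrAlg Z} {jlA : A ⟶ 𝒮A.toModule}
    (hjlA : RelProj.IsGrSymAlg A 𝒮A jlA) {E : Q.Modules} (hE : Coh.IsQCoh E)
    {κ : E ⟶ (Scheme.Modules.pushforward g).obj A} {𝒯 : RelProj.QCGrAlg Q} {j : E ⟶ 𝒯.toModule}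
    (hj : RelProj.IsGrSymAlg E 𝒯 j) {u : RelProj.QGrHom g 𝒯 𝒮A} (hu : Extends j jlA κ u)
    (hd : ∀ z, LocalData u z) (hp : ∀ z : Z, ∃ c : DegOnePair u jlA, z ∈ c.U')
    {𝒮' : RelProj.QCGrAlg W} {jl' : (Scheme.Modules.pullback π).obj A ⟶ 𝒮'.toModule}
    (hjl' : RelProj.IsGrSymAlg ((Scheme.Modules.pullback π).obj A) 𝒮' jl') :
    ∃ (κ' : E ⟶ (Scheme.Modules.pushforward q).obj ((Scheme.Modules.pullback π).obj A))
      (u' : RelProj.QGrHom q 𝒯 𝒮'),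
      Extends j jl' κ' u' ∧ (∀ w, ∃ c : DegOnePair u' jl', w ∈ c.U') ∧
      ∀ w : W, ∃ (U₀ : Q.Opens) (hU₀ : IsAffineOpen U₀), q w ∈ U₀ ∧
        ∀ r : Γ(Q, U₀), q w ∈ Q.basicOpen r → PullAt π g u' (Q.basicOpen r) (hU₀.basicOpen r) w := by
  subst hq
  have hAq : Coh.IsQCoh A := TMul.isQCoh_of_isInvertible hA
  let A' := (Scheme.Modules.pullback π).obj A
  have hA' : PicF.IsInvertible A' := PicLoc.isInvertible_pullback π hA
  have hA'q : Coh.IsQCoh A' := TMul.isQCoh_of_isInvertible hA'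
  haveI : E.IsQuasicoherent := hE
  let η := (Scheme.Modules.pullbackPushforwardAdjunction π).unit.app A
  let κ' : E ⟶ (Scheme.Modules.pushforward (π ≫ g)).obj A' :=
    κ ≫ (Scheme.Modules.pushforward g).map η ≫ (Scheme.Modules.pushforwardComp π g).hom.app A'
  have hκ' : ∀ (U : Q.Opens) (m : Γ(E, U)),
      sec κ' U m = OmegaSh.pullSect π A (g ⁻¹ᵁ U) (sec κ U m) := fun U m => rfl
  obtain ⟨u', hu'⟩ := exists_qGrOfMap hE hj hjl' κ'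
  obtain ⟨v, hv⟩ := exists_qGrOfMap hAq hjlA hjl' η
  have hcomp : ∀ {U : Q.Opens} (hU : IsAffineOpen U) {V₁ : Z.Opens} (hV₁ : IsAffineOpen V₁)
      (h₁ : V₁ ≤ g ⁻¹ᵁ U) {V : W.Opens} (h : V ≤ π ⁻¹ᵁ V₁) (h' : V ≤ (π ≫ g) ⁻¹ᵁ U)
      (a : 𝒯.presheaf.obj (op U)),
      (u'.appLE U V h').hom a = (v.appLE V₁ V h).hom ((u.appLE U V₁ h₁).hom a) := by
    intro U hU V₁ hV₁ h₁ V h h' a
    refine RingHom.congr_fun (RingHom.eq_of_eqOn_set_dense (f := (u'.appLE U V h').hom)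
      (g := (v.appLE V₁ V h).hom.comp (u.appLE U V₁ h₁).hom) (SymAlgGen.gen_eq_top hj.1 hU) ?_) a
    rintro _ (⟨r, rfl⟩ | ⟨m, rfl⟩)
    · change (u'.appLE U V h').hom (strL 𝒯 U r) = (v.appLE V₁ V h).hom ((u.appLE U V₁ h₁).hom (strL 𝒯 U r))
      rw [show (u.appLE U V₁ h₁).hom (strL 𝒯 U r) = strL 𝒮A V₁ ((g.appLE U V₁ h₁).hom r) from
        congr(($(u.str_appLE U V₁ h₁)).hom r), show (v.appLE V₁ V h).hom (strL 𝒮A V₁ _) =
        strL 𝒮' V ((π.appLE V₁ V h).hom ((g.appLE U V₁ h₁).hom r)) from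
        congr(($(v.str_appLE V₁ V h)).hom _), show (u'.appLE U V h').hom (strL 𝒯 U r) =
        strL 𝒮' V (((π ≫ g).appLE U V h').hom r) from congr(($(u'.str_appLE U V h')).hom r)]
      refine congrArg (strL 𝒮' V) ?_
      rw [← CommRingCat.comp_apply, Scheme.Hom.appLE_comp_appLE]
    · change (u'.appLE U V h').hom (jL j U m) = (v.appLE V₁ V h).hom ((u.appLE U V₁ h₁).hom (jL j U m))
      rw [appLE_of_app hu' hU h', appLE_of_app hu hU h₁, appLE_of_app hv hV₁ h]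
      refine congrArg (jL jl' V) ?_
      change res A' h' (sec κ' U m) = res A' h (η.app V₁ (res A h₁ (κ.app U m)))
      rw [hκ']
      exact (res_res A' h (π.preimage_mono h₁) _).symm.trans (congrArg (res A' h) (app_res η h₁ _))
  have hgen : ∀ {V₁ : Z.Opens} {g₁ : Γ(A, V₁)} (_ : IsGen g₁) {V : W.Opens} (h : V ≤ π ⁻¹ᵁ V₁),
      IsGen (res A' h (OmegaSh.pullSect π A V₁ g₁)) := fun {V₁ g₁} hg₁ {V} h =>
    isGen_res h (isGen_pullθ π (Iso.refl A') hA' hAq _ hg₁)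
  refine ⟨κ', u', hu', fun w => ?_, fun w => ?_⟩
  · obtain ⟨c, hc⟩ := hp (π w)
    obtain ⟨V, hV, hwV, hVle⟩ := exists_isAffineOpen_mem_and_subset (U := π ⁻¹ᵁ c.U') (x := w) hc
    have hVle' : V ≤ π ⁻¹ᵁ c.U' := hVle
    have hVU : V ≤ (π ≫ g) ⁻¹ᵁ c.U := hVle'.trans (π.preimage_mono c.le)
    refine ⟨⟨c.U, c.hU, V, hV, hVU, c.e, c.he, res A' hVle' (OmegaSh.pullSect π A c.U' c.m),
      hgen c.gen hVle', ?_⟩, hwV⟩
    rw [hcomp c.hU c.hU' c.le hVle' hVU, c.eq, appLE_of_app hv c.hU' hVle']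
    rfl
  obtain ⟨U₀, hU₀, n₀, f₀, hn₀, hf₀, hw₀, hA₀, hc₀⟩ := hd (π w)
  refine ⟨U₀, hU₀, Rel.NV_le u hU₀ n₀ f₀ hw₀, fun r hr => ?_⟩
  obtain ⟨n, a, hn, ha, hwa, hO, hc⟩ :=
    localAt_basicOpen hA hjlA ⟨n₀, f₀, hn₀, hf₀, hw₀, hA₀, hc₀⟩ r hr
  let U := Q.basicOpen r
  have hU : IsAffineOpen U := hU₀.basicOpen r
  let O := Rel.NV u hU n a
  have hOU : O ≤ g ⁻¹ᵁ U := Rel.NV_le u hU n a
  refine ⟨n, a, hn, ha, O, hO, hwa, hOU, ?_, fun O' h hU' t => ?_⟩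
  · have key : ∀ y : W, π y ∈ g ⁻¹ᵁ U → (y ∈ Rel.NV u' hU n a ↔ π y ∈ O) := fun y hy => by
      obtain ⟨V₁, hV₁, g₁, hyV₁, hV₁U, hg₁⟩ := exists_triv hA hy
      obtain ⟨V, hV, hyV, hVle⟩ := exists_isAffineOpen_mem_and_subset (U := π ⁻¹ᵁ V₁) (x := y) hyV₁
      have hVle' : V ≤ π ⁻¹ᵁ V₁ := hVle
      have hVU : V ≤ (π ≫ g) ⁻¹ᵁ U := hVle'.trans (π.preimage_mono hV₁U)
      obtain ⟨C, hC⟩ := exists_coeff hAq hjlA hV₁ hg₁ (u.map_mem U hU V₁ hV₁ hV₁U ha)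
      have hC0 : (u.appLE U V₁ hV₁U).hom a = strL 𝒮A V₁ C * jL jlA V₁ g₁ ^ n := hC
      have e1 : V₁ ⊓ O = Z.basicOpen C :=
        inter_eq_basicOpen hAq hjlA ((u.app U).hom a) (fun z => mem_NV_iff u hU n a z) hV₁ hV₁U hg₁ hC
      have e2 : V ⊓ Rel.NV u' hU n a = W.basicOpen ((π.appLE V₁ V hVle').hom C) := by
        refine inter_eq_basicOpen hA'q hjl' ((u'.app U).hom a) (fun z => mem_NV_iff u' hU n a z) hV hVU
          (hgen hg₁ hVle') ?_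
        change (u'.appLE U V hVU).hom a = _
        rw [hcomp hU hV₁ hV₁U hVle' hVU, hC0, map_mul, map_pow, appLE_of_app hv hV₁ hVle']
        exact congrArg (· * _) congr(($(v.str_appLE V₁ V hVle')).hom C)
      rw [Scheme.basicOpen_appLE, ← e1] at e2
      exact ⟨fun h => (e2.le ⟨hyV, h⟩).2.2, fun h => (e2.ge ⟨hyV, hVle' hyV, h⟩).2⟩
    refine le_antisymm (fun y hy => ?_) fun y hy => ?_
    · exact (key y (Rel.NV_le u' hU n a hy)).1 hy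
    · exact (key y (hOU hy)).2 hy
  · obtain ⟨k, hk, s, hs, he⟩ := hc t
    refine ⟨k, hk, s, hs, ?_⟩
    have h0 := congrArg (v.appLE O O' h).hom he
    rw [map_mul, map_pow, ← hcomp hU hO hOU h hU', ← hcomp hU hO hOU h hU'] at h0
    refine Eq.trans ?_ h0
    exact congrArg (· * _) congr(($(v.str_appLE O O' h)).hom t).symm

/-- The same, from very ampleness. -/
theorem exists_pulled {W Z Q : Scheme.{u}} (π : W ⟶ Z) (g : Z ⟶ Q) {q : W ⟶ Q} (hq : π ≫ g = q)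
    {A : Z.Modules} (hA : PicF.IsInvertible A) (hva : RelProj.IsRelVeryAmple g A)
    {𝒮' : RelProj.QCGrAlg W} {jl' : (Scheme.Modules.pullback π).obj A ⟶ 𝒮'.toModule}
    (hjl' : RelProj.IsGrSymAlg ((Scheme.Modules.pullback π).obj A) 𝒮' jl') :
    ∃ (E : Q.Modules) (_ : Coh.IsQCoh E)
      (κ' : E ⟶ (Scheme.Modules.pushforward q).obj ((Scheme.Modules.pullback π).obj A))
      (𝒯 : RelProj.QCGrAlg Q) (j : E ⟶ 𝒯.toModule) (_ : RelProj.IsGrSymAlg E 𝒯 j)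
      (u' : RelProj.QGrHom q 𝒯 𝒮'),
      Extends j jl' κ' u' ∧ (∀ w, ∃ c : DegOnePair u' jl', w ∈ c.U') ∧
      ∀ w : W, ∃ (U₀ : Q.Opens) (hU₀ : IsAffineOpen U₀), q w ∈ U₀ ∧
        ∀ r : Γ(Q, U₀), q w ∈ Q.basicOpen r → PullAt π g u' (Q.basicOpen r) (hU₀.basicOpen r) w := by
  have hAq : Coh.IsQCoh A := TMul.isQCoh_of_isInvertible hA
  obtain ⟨𝒮A, jlA, hjlA⟩ := exists_isGrSymAlg hAq
  obtain ⟨E, hE, κ, 𝒯, j, hj, u, hu, hd, hp⟩ := exists_localData hA hAq hjlA hva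
  obtain ⟨κ', u', h⟩ := exists_pulled_of_data π g hq hA hjlA hE hj hu hd hp hjl'
  exact ⟨E, hE, κ', 𝒯, j, hj, u', h⟩

/-- Both factors generate a pushout of rings. -/
lemma closure_eq_top_of_isPushout {R A B P : CommRingCat.{u}} {f : R ⟶ A} {g : R ⟶ B} {i : A ⟶ P}
    {k : B ⟶ P} (h : IsPushout f g i k) :
    Subring.closure (Set.range i.hom ∪ Set.range k.hom) = ⊤ := by
  let S := Subring.closure (Set.range i.hom ∪ Set.range k.hom)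
  let i' : A ⟶ CommRingCat.of S := CommRingCat.ofHom
    (i.hom.codRestrict S fun a => Subring.subset_closure (Or.inl ⟨a, rfl⟩))
  let k' : B ⟶ CommRingCat.of S := CommRingCat.ofHom
    (k.hom.codRestrict S fun b => Subring.subset_closure (Or.inr ⟨b, rfl⟩))
  have w : f ≫ i' = g ≫ k' := by
    ext a
    exact congr(($(h.w)).hom a)
  have e : h.desc i' k' w ≫ CommRingCat.ofHom S.subtype = 𝟙 P := by
    refine h.hom_ext ?_ ?_
    · rw [h.inl_desc_assoc, Category.comp_id]; rfl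
    · rw [h.inr_desc_assoc, Category.comp_id]; rfl
  refine top_le_iff.1 fun x _ => ?_
  rw [show x = S.subtype ((h.desc i' k' w).hom x) from congr(($e).hom x).symm]
  exact SetLike.coe_mem _

set_option maxHeartbeats 1600000 in
/-- Pair data from two pulled back families. -/
theorem pairData_of_pulled {W Z₁ Z₂ Q : Scheme.{u}} {g₁ : Z₁ ⟶ Q} {g₂ : Z₂ ⟶ Q}
    {π₁ : W ⟶ Z₁} {π₂ : W ⟶ Z₂} (hW : IsPullback π₁ π₂ g₁ g₂) {q : W ⟶ Q} (hq : π₁ ≫ g₁ = q)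
    {𝒯A 𝒯B : RelProj.QCGrAlg Q} {𝒮A 𝒮B : RelProj.QCGrAlg W}
    {uA : RelProj.QGrHom q 𝒯A 𝒮A} {uB : RelProj.QGrHom q 𝒯B 𝒮B}
    (hdA : ∀ w : W, ∃ (U₀ : Q.Opens) (hU₀ : IsAffineOpen U₀), q w ∈ U₀ ∧
        ∀ r : Γ(Q, U₀), q w ∈ Q.basicOpen r → PullAt π₁ g₁ uA (Q.basicOpen r) (hU₀.basicOpen r) w)
    (hdB : ∀ w : W, ∃ (U₀ : Q.Opens) (hU₀ : IsAffineOpen U₀), q w ∈ U₀ ∧
        ∀ r : Γ(Q, U₀), q w ∈ Q.basicOpen r → PullAt π₂ g₂ uB (Q.basicOpen r) (hU₀.basicOpen r) w)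
    (w : W) : PairData uA uB w := by
  obtain ⟨U₁, hU₁, hw₁, hd₁⟩ := hdA w
  obtain ⟨U₂, hU₂, hw₂, hd₂⟩ := hdB w
  obtain ⟨r, r', heq, hwr⟩ := exists_basicOpen_le_affine_inter hU₁ hU₂ (q w) ⟨hw₁, hw₂⟩
  have hd₂' : ∀ (U : Q.Opens) (hU : IsAffineOpen U), U = Q.basicOpen r' → q w ∈ U →
      PullAt π₂ g₂ uB U hU w := by
    rintro _ hU rfl hm; exact hd₂ r' hm
  obtain ⟨n, a, hn, ha, O₁, hO₁, hwO₁, hO₁U, hNA, hcA⟩ := hd₁ r hwr
  obtain ⟨m, b, hm, hb, O₂, hO₂, hwO₂, hO₂U, hNB, hcB⟩ :=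
    hd₂' _ (hU₁.basicOpen r) heq hwr
  let U := Q.basicOpen r
  have hU : IsAffineOpen U := hU₁.basicOpen r
  let O : W.Opens := π₁ ⁻¹ᵁ O₁ ⊓ π₂ ⁻¹ᵁ O₂
  have hO : IsAffineOpen O := by
    haveI : IsAffine _ := hU
    haveI : IsAffine _ := hO₁
    haveI : IsAffine _ := hO₂
    exact .of_isIso (Scheme.Hom.isPullback_resLE hW hO₂U hO₁U (rfl : O = _)).isoPullback.hom
  have hP := (isIso_pushoutSection_iff hW hO₂U hO₁U (rfl : O = _)).1
    (isIso_pushoutSection_of_isAffineOpen hW hO₂U hO₁U rfl hU hO₂ hO₁)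
  have hOU : O ≤ q ⁻¹ᵁ U := inf_le_left.trans (by rw [← hq]; exact π₁.preimage_mono hO₁U)
  have key : ∀ (N : W.Opens) (h : N ≤ q ⁻¹ᵁ U), N = O →
      Subring.closure (Rel.condSet uA hU n a N h ∪ Rel.condSet uB hU m b N h) = ⊤ := by
    rintro _ h rfl
    refine top_le_iff.1 ?_
    rw [← closure_eq_top_of_isPushout hP]
    refine Subring.closure_mono ?_
    rintro _ (⟨t, rfl⟩ | ⟨t, rfl⟩)
    · exact Or.inl (hcA O inf_le_left h t)
    · exact Or.inr (hcB O inf_le_right h t)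
  refine ⟨U, hU, n, a, m, b, hn, hm, ha, hb, hNA.ge hwO₁, hNB.ge hwO₂, ?_, key _ _ (by rw [hNA, hNB])⟩
  rw [hNA, hNB]
  exact hO

set_option maxHeartbeats 1600000 in
/-- An external tensor product of very ample modules is very ample over the common base. -/
theorem isRelVeryAmple_external {W Z₁ Z₂ Q : Scheme.{u}} {g₁ : Z₁ ⟶ Q} {g₂ : Z₂ ⟶ Q}
    {π₁ : W ⟶ Z₁} {π₂ : W ⟶ Z₂} (hW : IsPullback π₁ π₂ g₁ g₂)
    {A : Z₁.Modules} (hA : PicF.IsInvertible A) (hvaA : RelProj.IsRelVeryAmple g₁ A)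
    {B : Z₂.Modules} (hB : PicF.IsInvertible B) (hvaB : RelProj.IsRelVeryAmple g₂ B)
    {q : W ⟶ Q} (hq : π₁ ≫ g₁ = q) :
    RelProj.IsRelVeryAmple q
      (CohB1.tensorMod ((Scheme.Modules.pullback π₁).obj A) ((Scheme.Modules.pullback π₂).obj B)) := by
  have hA' := PicLoc.isInvertible_pullback π₁ hA
  have hB' := PicLoc.isInvertible_pullback π₂ hB
  obtain ⟨𝒮A, jlA, hjlA⟩ := exists_isGrSymAlg (TMul.isQCoh_of_isInvertible hA')
  obtain ⟨𝒮B, jlB, hjlB⟩ := exists_isGrSymAlg (TMul.isQCoh_of_isInvertible hB')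
  obtain ⟨EA, hEA, κA, 𝒯A, jA, hjA, uA, huA, hpA, hdA⟩ := exists_pulled π₁ g₁ hq hA hvaA hjlA
  obtain ⟨EB, hEB, κB, 𝒯B, jB, hjB, uB, huB, hpB, hdB⟩ :=
    exists_pulled π₂ g₂ (hW.w.symm.trans hq) hB hvaB hjlB
  exact isRelVeryAmple_of_pairData hA' hB' hEA hjA hjlA huA hpA hEB hjB hjlB huB hpB
    (pairData_of_pulled hW hq hdA hdB)

end Groth.Agent.SymAlg
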