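import Groth.Agent.SymAlg.CoprodBundle
import Groth.Agent.SymAlg.VAmpleOps
import Groth.Agent.Nagata.Disjoint

/-!
Very ampleness on a coproduct of schemes.
-/

set_option autoImplicit false
set_option backward.isDefEq.respectTransparency false
set_option linter.style.haveILetI false
set_option linter.unusedSectionVars false

universe u

open CategoryTheory CategoryTheory.Limits AlgebraicGeometry TopologicalSpace Opposite
open scoped HomogeneousIdeal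

noncomputable section

namespace Groth.Agent.SymAlg

open Groth.Agent

set_option maxHeartbeats 1600000 in
/-- A split quotient of modules gives a morphism of bundles pulling `O(1)` back to `O(1)`. -/
theorem exists_bundleMap {Y PE P : Scheme.{u}} {E G : Y.Modules} (hE : Coh.IsQCoh E) (hG : Coh.IsQCoh G)
    (a : G ⟶ E) (s : E ⟶ G) (hs : s ≫ a = 𝟙 E)
    {𝒮 𝒯 : RelProj.QCGrAlg Y} {iE : E ⟶ 𝒮.toModule} (hjE : RelProj.IsGrSymAlg E 𝒮 iE)
    {j : G ⟶ 𝒯.toModule} (hj : RelProj.IsGrSymAlg G 𝒯 j)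
    {pE : PE ⟶ Y} {p : P ⟶ Y}
    {chE : ∀ (U : Y.Opens) (hU : IsAffineOpen U), ((pE ⁻¹ᵁ U : PE.Opens) : Scheme.{u}) ≅ Proj (𝒮.deg U hU)}
    {ch : ∀ (U : Y.Opens) (hU : IsAffineOpen U), ((p ⁻¹ᵁ U : P.Opens) : Scheme.{u}) ≅ Proj (𝒯.deg U hU)}
    (hPE : RelProj.IsRelProj 𝒮 pE chE) (hP : RelProj.IsRelProj 𝒯 p ch)
    {OE : PE.Modules}
    {lamE : ∀ (U : Y.Opens) (hU : IsAffineOpen U),
      OE ⟶ (Scheme.Modules.pushforward (RelProj.emb pE chE U hU)).obj (GrTwist.twist (𝒮.deg U hU) 1)}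
    (hOE : RelProj.IsRelTwist 𝒮 pE chE 1 OE lamE)
    {O1 : P.Modules}
    {lam : ∀ (U : Y.Opens) (hU : IsAffineOpen U),
      O1 ⟶ (Scheme.Modules.pushforward (RelProj.emb p ch U hU)).obj (GrTwist.twist (𝒯.deg U hU) 1)}
    (hO1 : RelProj.IsRelTwist 𝒯 p ch 1 O1 lam) :
    ∃ (π : 𝒯.toQCAlg ⟶ 𝒮.toQCAlg) (hπ : RelProj.IsGradedHom π)
      (hirr : ∀ (U : Y.Opens) (hU : IsAffineOpen U),
        (𝒮.deg U hU)₊ ≤ ((𝒯.deg U hU)₊).map (RelProj.gradedHomAt π hπ U hU))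
      (h : PE ⟶ P),
      j ≫ RelSpec.QCAlg.Hom.toModuleMap π = a ≫ iE ∧ RelProj.IsRelProjMap π hπ hirr ch chE h ∧
      h ≫ p = pE ∧ Nonempty ((Scheme.Modules.pullback h).obj O1 ≅ OE) := by
  haveI : E.IsQuasicoherent := hE
  haveI : G.IsQuasicoherent := hG
  obtain ⟨π, hπ, hjπ⟩ := exists_gradedHom hG hj (a ≫ iE) fun U hU x => hjE.2 U hU (a.app U x)
  have hsec : ∀ (U : Y.Opens) (e : Γ(E, U)), a.app U (s.app U e) = e := fun U e => congr(($hs).app U e)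
  have hsurj : ∀ (U : Y.Opens) (hU : IsAffineOpen U), Function.Surjective (π.hom.app (op U)).hom :=
    fun U hU => surjective_app hjπ hjE.1 hU fun e => ⟨_, hsec U e⟩
  have hirr : ∀ (U : Y.Opens) (hU : IsAffineOpen U),
      (𝒮.deg U hU)₊ ≤ ((𝒯.deg U hU)₊).map (RelProj.gradedHomAt π hπ U hU) := fun U hU => by
    rw [HomogeneousIdeal.irrelevant_le]
    intro i hi b hb
    obtain ⟨x, rfl⟩ := hsurj U hU b
    let x' : 𝒯.presheaf.obj (op U) := (DirectSum.decompose (𝒯.deg U hU) x i : 𝒯.presheaf.obj (op U))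
    have hx' : x' ∈ 𝒯.deg U hU i := SetLike.coe_mem _
    have e : (π.hom.app (op U)).hom x = (RelProj.gradedHomAt π hπ U hU) x' := by
      have h1 := GradedRingHom.map_directSumDecompose (𝒜 := 𝒯.deg U hU) (ℬ := 𝒮.deg U hU) (RelProj.gradedHomAt π hπ U hU) (i := i) (x := x)
      rw [← DirectSum.decompose_of_mem_same (𝒮.deg U hU) hb]
      exact h1.symm
    rw [e]
    exact Ideal.mem_map_of_mem _ (HomogeneousIdeal.mem_irrelevant_of_mem _ hi hx')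
  obtain ⟨h, hh, -⟩ := RelProjLib.existsUnique_relProjMap (φ := π) (hφ := hπ) (hirr := hirr) hP hPE
  have hover : h ≫ p = pE := RelProjLib.relProjMap_over hP hPE hh
  let C := RelTilde.ChartMap.ofSelf π hπ hirr ch chE h hh
  have hO1' := (RelTilde.isRelTwist_iff 𝒯 1 O1 lam).mp hO1
  have hOE' := (RelTilde.isRelTwist_iff 𝒮 1 OE lamE).mp hOE
  obtain ⟨θ, hθ, -⟩ := C.existsUnique_comap 1 hP hPE hO1' hOE'
  haveI := C.isIso_adjunct_comap 1 (fun _ _ => rfl) (isGenDegOne_sym hj) hO1' hOE' θ hθ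
  exact ⟨π, hπ, hirr, h, hjπ, hh, hover,
    ⟨asIso (((Scheme.Modules.pullbackPushforwardAdjunction h).homEquiv O1 OE).symm θ)⟩⟩

set_option maxHeartbeats 800000 in
/-- Very ampleness on a coproduct is tested on the summands. -/
theorem isRelVeryAmple_coprod_iff {X X' Y : Scheme.{u}} (f : X ⨿ X' ⟶ Y) (L : (X ⨿ X').Modules) :
    RelProj.IsRelVeryAmple f L ↔
      RelProj.IsRelVeryAmple (coprod.inl ≫ f) ((Scheme.Modules.pullback (coprod.inl : X ⟶ X ⨿ X')).obj L) ∧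
      RelProj.IsRelVeryAmple (coprod.inr ≫ f) ((Scheme.Modules.pullback (coprod.inr : X' ⟶ X ⨿ X')).obj L) := by
  refine ⟨fun h => ⟨isRelVeryAmple_comp_immersion coprod.inl h, isRelVeryAmple_comp_immersion coprod.inr h⟩, ?_⟩
  rintro ⟨⟨E, hE, 𝒮E, iE, hjE, PE, pE, chE, hPE, OE, lamE, hOE, i, hi, hip, ⟨e⟩⟩,
    ⟨F, hF, 𝒮F, iF, hjF, PF, pF, chF, hPF, OF, lamF, hOF, i', hi', hip', ⟨e'⟩⟩⟩
  haveI := hi
  haveI := hi'
  have hG : Coh.IsQCoh (E ⊞ F) := RPushQC.isQCoh_biprod hE hF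
  obtain ⟨𝒯, j, hj⟩ := exists_isGrSymAlg hG
  obtain ⟨P, p, ch, hP⟩ := RelProjLib.exists_isRelProj 𝒯
  obtain ⟨O1, lam, hO1⟩ := (RelTilde.Datum.self 𝒯).exists_isTilde hP (1 : ℤ)
  have hO1' := (RelTilde.isRelTwist_iff 𝒯 1 O1 lam).mpr hO1
  obtain ⟨πE, hπE, hirrE, hE', hjπE, hhE, hoverE, ⟨dE⟩⟩ :=
    exists_bundleMap hE hG biprod.fst biprod.inl biprod.inl_fst hjE hj hPE hP hOE hO1'
  obtain ⟨πF, hπF, hirrF, hF', hjπF, hhF, hoverF, ⟨dF⟩⟩ :=
    exists_bundleMap hF hG biprod.snd biprod.inr biprod.inr_snd hjF hj hPF hP hOF hO1'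
  haveI := isClosedImmersion_coprod_bundle hE hF hjE hjF hj hjπE hjπF hP hPE hPF hhE hhF
  haveI : IsImmersion (coprod.map i i') := IsZariskiLocalAtTarget.coprodMap _ _ hi hi'
  let k := coprod.map i i' ≫ coprod.desc hE' hF'
  have hl : (coprod.inl : X ⟶ X ⨿ X') ≫ k = i ≫ hE' := by simp [k]
  have hr : (coprod.inr : X' ⟶ X ⨿ X') ≫ k = i' ≫ hF' := by simp [k]
  refine ⟨E ⊞ F, hG, 𝒯, j, hj, P, p, ch, hP, O1, lam, hO1', k, inferInstance, ?_, ?_⟩
  · refine coprod.hom_ext ?_ ?_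
    · rw [reassoc_of% hl, hoverE, hip]
    · rw [reassoc_of% hr, hoverF, hip']
  · exact Nagata.nonempty_iso_of_pieces (coprod.inl : X ⟶ X ⨿ X') (coprod.inr : X' ⟶ X ⨿ X')
      (fun z => (isCompl_range_inl_inr X X').sup_eq_top.ge (Set.mem_univ z))
      (fun a b h => Set.disjoint_left.1 (isCompl_range_inl_inr X X').disjoint ⟨a, rfl⟩ ⟨b, h.symm⟩)
      L ((Scheme.Modules.pullback k).obj O1)
      (e ≪≫ ((Scheme.Modules.pullback i).mapIso dE).symm ≪≫ (Scheme.Modules.pullbackComp i hE').app O1 ≪≫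
        (Scheme.Modules.pullbackCongr hl.symm).app O1 ≪≫ ((Scheme.Modules.pullbackComp coprod.inl k).app O1).symm)
      (e' ≪≫ ((Scheme.Modules.pullback i').mapIso dF).symm ≪≫ (Scheme.Modules.pullbackComp i' hF').app O1 ≪≫
        (Scheme.Modules.pullbackCongr hr.symm).app O1 ≪≫ ((Scheme.Modules.pullbackComp coprod.inr k).app O1).symm)

end Groth.Agent.SymAlg
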