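import Groth.Agent.SymAlg.VAmplePnLocal

/-!
Twists of an invertible module by high powers of a relatively ample one are very ample.
-/

set_option autoImplicit false
set_option backward.isDefEq.respectTransparency false
set_option linter.style.haveILetI false

universe u

open CategoryTheory CategoryTheory.Limits TopologicalSpace AlgebraicGeometry Opposite
open TMul (val homOf val_homOf)

noncomputable section

namespace Groth.Agent.SymAlg

variable {X S : Scheme.{u}}

/-- Twists by high powers of an ample module are very ample relative to projective spaces. -/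
theorem eventually_isRelVeryAmplePn_tensor (f : X ⟶ S) [LocallyOfFiniteType f] {L L' : X.Modules}
    (hL : CohB1.IsAmple L) (hL' : PicF.IsInvertible L') :
    ∃ d₀ : ℕ, ∀ d, d₀ ≤ d → RelAmple.IsRelVeryAmplePn f (CohB1.tensorMod (CohB1.tensorPow L d) L') := by
  classical
  have := hL.2.1
  obtain ⟨m, hm, hcs⟩ := ProjMor.exists_hasChartSections f hL
  have : L'.IsQuasicoherent := TMul.isQCoh_of_isInvertible hL'
  obtain ⟨n₀, hn₀⟩ := TMul.exists_forall_genOn hL (F := L') (TMul.isFT_of_isInvertible hL')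
  refine ⟨m + n₀, fun d hd => ?_⟩
  obtain ⟨a, rfl⟩ := Nat.exists_eq_add_of_le (show m ≤ d by omega)
  have hinv : ∀ k, PicF.IsInvertible (CohB1.tensorPow L k) := TMul.isInvertible_tensorPow hL.1
  let M := CohB1.tensorMod (CohB1.tensorPow L a) L'
  have hM : PicF.IsInvertible M := TMul.isInvertible_tensorMod (hinv a) hL'
  have hcov : ∀ x : X, ∃ t : Coh.structureModule X ⟶ M, x ∈ CohB1.genLocus _ t := by
    intro x
    obtain ⟨D, hD, hxD, hgen⟩ := hn₀ a (by omega) x
    exact TMul.exists_mem_genLocus_of_genOn hM hD (hgen.congr (TMul.commIso _ _)) hxD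
  choose t ht using hcov
  obtain ⟨T, hT⟩ := isCompact_univ.elim_finite_subcover
    (fun x : X => ((CohB1.genLocus _ (t x) : X.Opens) : Set X)) (fun x => (CohB1.genLocus _ (t x)).2)
    (fun x _ => Set.mem_iUnion.mpr ⟨x, ht x⟩)
  obtain ⟨e⟩ := TMul.nonempty_powAddIso L m a
  refine ProjMor.isRelVeryAmplePn_congr ((TMul.assocIso _ _ _).symm ≪≫
    PicGrp.tensorModIso e (Iso.refl L')) (ProjMor.isRelVeryAmplePn_tensor f (hinv m)
    (ProjMor.isRelVeryAmplePn_of_chartSections f (hinv m) hcs) hM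
    (fun k : Fin T.card => val (t (T.equivFin.symm k)) ⊤) fun x => ?_)
  obtain ⟨y, hy, hxy⟩ := Set.mem_iUnion₂.mp (hT (Set.mem_univ x))
  refine ⟨T.equivFin ⟨y, hy⟩, ?_⟩
  have e1 : homOf (val (t y) ⊤) = t y :=
    TMul.hom_ext_val ((val_homOf _ _).trans (Groth.Agent.QC.res_self _ _ _))
  rw [Equiv.symm_apply_apply, e1]
  exact hxy

/-- Twists by high powers of a relatively ample module are very ample. -/
theorem eventually_isRelVeryAmple_tensor [CompactSpace S] (f : X ⟶ S) [QuasiCompact f]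
    [LocallyOfFiniteType f] {L L' : X.Modules} (hL : PicF.IsInvertible L) (hL' : PicF.IsInvertible L')
    (h : RelAmple.IsRelAmple f L) :
    ∃ n₀ : ℕ, ∀ n : ℕ, n₀ ≤ n → RelProj.IsRelVeryAmple f (CohB1.tensorMod (CohB1.tensorPow L n) L') := by
  classical
  choose d hv using fun V : S.affineOpens => eventually_isRelVeryAmplePn_tensor (f ∣_ V.1) (h.2 V)
    (TMul.isInvertible_restrict (f ⁻¹ᵁ V.1).ι hL')
  obtain ⟨T, hT⟩ := isCompact_univ.elim_finite_subcover (fun V : S.affineOpens => (V.1 : Set S))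
    (fun V => V.1.2) (fun x _ => by
      obtain ⟨V, hV, hx, -⟩ := exists_isAffineOpen_mem_and_subset (show x ∈ (⊤ : S.Opens) from trivial)
      exact Set.mem_iUnion.2 ⟨⟨V, hV⟩, hx⟩)
  refine ⟨T.sup d, fun n hn => ?_⟩
  refine isRelVeryAmple_of_pn_local f (TMul.isInvertible_tensorMod (TMul.isInvertible_tensorPow hL n) hL')
    fun y => ?_
  obtain ⟨V, hV, hy⟩ := Set.mem_iUnion₂.1 (hT (Set.mem_univ y))
  obtain ⟨e⟩ := TMul.nonempty_restrictPowIso (f ⁻¹ᵁ V.1).ι L n
  obtain ⟨e'⟩ := TMul.nonempty_restrictTensorIso (f ⁻¹ᵁ V.1).ι (CohB1.tensorPow L n) L'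
  exact ⟨V.1, hy, ProjMor.isRelVeryAmplePn_congr (PicGrp.tensorModIso e (Iso.refl _) ≪≫ e') (hv V n ((Finset.le_sup hV).trans hn))⟩

end Groth.Agent.SymAlg
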