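import Groth.Agent.SymAlg.AmpleR
import Mathlib.AlgebraicGeometry.Morphisms.SchemeTheoreticallyDominant

/-!
`r_{L,σ}` over an affine base for an ample module: quasi-compact, schematically dominant open immersion.
-/

set_option autoImplicit false
set_option backward.isDefEq.respectTransparency false
set_option linter.style.haveILetI false

universe u

open CategoryTheory CategoryTheory.Limits AlgebraicGeometry TopologicalSpace Opposite
  HomogeneousLocalization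

noncomputable section

namespace Groth.Agent.SymAlg

open Groth.Agent

variable {X Y P PL : Scheme.{u}} [CompactSpace X] {f : X ⟶ Y} {L : X.Modules} (hL : PicF.IsInvertible L)
  (hLq : Coh.IsQCoh L) {𝒜 : RelProj.QCGrAlg Y} {𝒮L : RelProj.QCGrAlg X} {j : L ⟶ 𝒮L.toModule}
  (hj : RelProj.IsGrSymAlg L 𝒮L j) (u : RelProj.QGrHom f 𝒜 𝒮L) {p : P ⟶ Y}
  {chart : ∀ (U : Y.Opens) (hU : IsAffineOpen U), ((p ⁻¹ᵁ U : P.Opens) : Scheme.{u}) ≅ Proj (𝒜.deg U hU)}
  {pL : PL ⟶ X}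
  {chartL : ∀ (U : X.Opens) (hU : IsAffineOpen U), ((pL ⁻¹ᵁ U : PL.Opens) : Scheme.{u}) ≅ Proj (𝒮L.deg U hU)}
  (hPL : RelProj.IsRelProj 𝒮L pL chartL) (hP : RelProj.IsRelProj 𝒜 p chart)
  {r : ((RelProj.domQ u pL chartL : PL.Opens) : Scheme.{u}) ⟶ P}
  (hr : RelProj.IsProjQMapOn u p chart pL chartL (RelProj.domQ u pL chartL) r)
  (hY : IsAffineOpen (⊤ : Y.Opens))

variable (p chart) in
lemma iSup_DPlus_eq_top :
    (⨆ a : {a : ℕ × 𝒜.presheaf.obj (op ⊤) // 0 < a.1 ∧ a.2 ∈ 𝒜.deg ⊤ hY a.1},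
      Rel.DPlus p chart hY a.1.2) = ⊤ := by
  refine eq_top_iff.mpr fun y _ => ?_
  obtain ⟨y, rfl⟩ : y ∈ (RelProj.emb p chart ⊤ hY).opensRange := by
    rw [RelProjLib.opensRange_emb]; trivial
  obtain ⟨n, s, hn, hs, hys, -⟩ :=
    exists_basicOpen_le (O := (⊤ : (Proj (𝒜.deg ⊤ hY)).Opens)) (y := y) trivial
  exact Opens.mem_iSup.mpr ⟨⟨(n, s), hn, hs⟩, y, hys, rfl⟩

variable (p chart) in
lemma isAffineOpen_DPlus {n : ℕ} (hn : 0 < n) {s : 𝒜.presheaf.obj (op ⊤)} (hs : s ∈ 𝒜.deg ⊤ hY n) :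
    IsAffineOpen (Rel.DPlus p chart hY s) := by
  have := isAffineOpen_opensRange (Proj.awayι (𝒜.deg ⊤ hY) s hs hn ≫ RelProj.emb p chart ⊤ hY)
  rwa [Scheme.Hom.opensRange_comp, Proj.opensRange_awayι] at this

include hL hLq hj hPL hP hr hY in
/-- `r` is quasi-compact. -/
theorem quasiCompact_of_compact : QuasiCompact r := by
  refine IsZariskiLocalAtTarget.of_iSup_eq_top _ (iSup_DPlus_eq_top p chart hY) fun a => ?_
  haveI : IsAffine (Rel.DPlus p chart hY a.1.2).toScheme :=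
    isAffineOpen_DPlus p chart hY a.2.1 a.2.2
  suffices IsCompact ((r ⁻¹ᵁ Rel.DPlus p chart hY a.1.2 :
      Scheme.Opens (RelProj.domQ u pL chartL).toScheme) : Set (RelProj.domQ u pL chartL).toScheme) by
    haveI : CompactSpace (r ⁻¹ᵁ Rel.DPlus p chart hY a.1.2).toScheme :=
      isCompact_iff_compactSpace.mp this
    exact HasAffineProperty.iff_of_isAffine.mpr ‹_›
  rw [(RelProj.domQ u pL chartL).ι.isOpenEmbedding.isInducing.isCompact_iff]
  have h := Rel.preimage_basicOpen_eq hL hLq hj u hPL hr hY hP a.2.1 a.2.2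
  rw [← Scheme.Hom.coe_image, h]
  haveI := isIso_pL hL hLq hj hPL
  refine pL.isCompact_preimage ?_
  obtain ⟨ι, _, V, hV, hle, e, c, hcov, -, -, hVO⟩ := exists_finite_triv hL hLq hj
    ((u.app ⊤).hom a.1.2) (fun V hV h => resL_uapp_mem u hY a.2.2 V hV h)
    (mem_NV_iff u hY a.1.1 a.1.2) (f.preimage_top ▸ isCompact_univ :
      IsCompact ((f ⁻¹ᵁ ⊤ : X.Opens) : Set X)) le_rfl
  have e' : (Rel.NV u hY a.1.1 a.1.2 : Set X) = ⋃ i, (X.basicOpen (c i) : Set X) := by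
    ext x
    rw [Set.mem_iUnion]
    constructor
    · intro hx
      obtain ⟨i, hi⟩ := hcov x (by simp)
      exact ⟨i, (hVO i).le ⟨hi, hx⟩⟩
    · rintro ⟨i, hi⟩
      exact ((hVO i).ge hi).2
  rw [e']
  exact isCompact_iUnion fun i => ((hV i).basicOpen (c i)).isCompact

include hL hLq hj hPL hP hr hY in
/-- `r` is schematically dominant. -/
theorem isSchemeTheoreticallyDominant_of_bijective (hu : Function.Bijective (u.app ⊤).hom) :
    IsSchemeTheoreticallyDominant r := by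
  haveI := quasiCompact_of_compact hL hLq hj u hPL hP hr hY
  refine ⟨Scheme.IdealSheafData.ext_of_iSup_eq_top
    (fun a : {a : ℕ × 𝒜.presheaf.obj (op ⊤) // 0 < a.1 ∧ a.2 ∈ 𝒜.deg ⊤ hY a.1} =>
      (⟨Rel.DPlus p chart hY a.1.2, isAffineOpen_DPlus p chart hY a.2.1 a.2.2⟩ : P.affineOpens))
    (iSup_DPlus_eq_top p chart hY) fun ⟨⟨n, s⟩, hn, hs⟩ => ?_⟩
  rw [Scheme.Hom.ker_apply, Scheme.IdealSheafData.ideal_bot, Pi.bot_apply, eq_bot_iff]
  intro σ hσ
  rw [RingHom.mem_ker] at hσ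
  rw [Ideal.mem_bot]
  let k := Proj.awayι (𝒜.deg ⊤ hY) s hs hn ≫ RelProj.emb p chart ⊤ hY
  have hk : k.opensRange = Rel.DPlus p chart hY s := by
    rw [Scheme.Hom.opensRange_comp, Proj.opensRange_awayι]
  have hktop : ⊤ ≤ k ⁻¹ᵁ Rel.DPlus p chart hY s := by rw [← hk, Scheme.Hom.preimage_opensRange]
  haveI : IsIso (k.appLE (Rel.DPlus p chart hY s) ⊤ hktop) := by
    haveI : IsIso (k.app (Rel.DPlus p chart hY s)) := k.isIso_app _ hk.ge
    haveI : IsIso (homOfLE hktop) :=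
      ⟨homOfLE le_top, Subsingleton.elim _ _, Subsingleton.elim _ _⟩
    rw [Scheme.Hom.appLE]
    infer_instance
  suffices h : (k.appLE (Rel.DPlus p chart hY s) ⊤ hktop).hom σ = 0 from
    (ConcreteCategory.bijective_of_isIso (k.appLE (Rel.DPlus p chart hY s) ⊤ hktop)).1
      (h.trans (map_zero _).symm)
  obtain ⟨m, b, hb, hσb⟩ := Away.mk_surjective (𝒜.deg ⊤ hY) hs
    ((Scheme.ΓSpecIso _).hom ((k.appLE (Rel.DPlus p chart hY s) ⊤ hktop).hom σ))
  refine (ConcreteCategory.bijective_of_isIso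
    (Scheme.ΓSpecIso (CommRingCat.of (Away (𝒜.deg ⊤ hY) s))).hom).1 ?_
  rw [map_zero, ← hσb]
  -- over every affine open of `X` the fraction maps to zero
  have key : ∀ (W : X.Opens) (hW : IsAffineOpen W), ∃ i : ℕ,
      u.gradedAt ⊤ hY W hW (le_top' W) (s ^ i * b) = 0 := fun W hW => by
    let c : RelProjLib.Idx (g := f) (𝒮 := 𝒜) := ⟨⊤, hY, W, hW, le_top' W, n, hn, s, hs⟩
    let sl := RelProjLib.srcLift u pL chartL c
    let φ := CommRingCat.ofHom (Away.map (u.gradedAt ⊤ hY W hW (le_top' W)) s)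
    have hcomm : sl ≫ r = Spec.map φ ≫ k := (RelProjLib.isProjQMapOn_iff u r).mp hr c
    have hle : ⊤ ≤ (sl ≫ r) ⁻¹ᵁ Rel.DPlus p chart hY s := by
      rw [hcomm, Scheme.Hom.comp_preimage]
      exact le_trans (le_refl _) ((Spec.map φ).preimage_mono hktop)
    have h0 : ((sl ≫ r).appLE (Rel.DPlus p chart hY s) ⊤ hle).hom σ = 0 := by
      rw [Scheme.Hom.comp_appLE, CommRingCat.hom_comp, RingHom.comp_apply, hσ, map_zero]
    have h1 : ((Spec.map φ ≫ k).appLE (Rel.DPlus p chart hY s) ⊤ (hcomm ▸ hle)).hom σ = 0 := by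
      simp only [← hcomm]
      exact h0
    rw [← Scheme.Hom.appLE_comp_appLE (Spec.map φ) k (Rel.DPlus p chart hY s) ⊤ ⊤ hktop le_top,
      CommRingCat.hom_comp, RingHom.comp_apply] at h1
    have h2 : φ.hom (Away.mk (𝒜.deg ⊤ hY) hs m b hb) = 0 := by
      rw [hσb]
      refine Eq.trans ?_ ((congrArg (Scheme.ΓSpecIso _).hom.hom h1).trans (map_zero _))
      exact congr($((RelSpec.specMap_appLE_ΓSpecIso φ le_top).symm)
        ((k.appLE (Rel.DPlus p chart hY s) ⊤ hktop).hom σ))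
    have h3 := congrArg HomogeneousLocalization.val h2
    rw [CommRingCat.hom_ofHom, Away.map_mk, Away.val_mk, HomogeneousLocalization.val_zero,
      Localization.mk_eq_mk', IsLocalization.mk'_eq_zero_iff] at h3
    obtain ⟨⟨_, i, rfl⟩, hi⟩ := h3
    exact ⟨i, by rw [map_mul, map_pow]; exact hi⟩
  choose V hV hxV hle using fun x : X =>
    exists_isAffineOpen_mem_and_subset (U := (⊤ : X.Opens)) (x := x) trivial
  obtain ⟨F, hF⟩ := isCompact_univ.elim_finite_subcover (fun x : X => (V x : Set X))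
    (fun x => (V x).2) (fun x _ => Set.mem_iUnion.mpr ⟨x, hxV x⟩)
  choose i hi using fun x : X => key (V x) (hV x)
  have hzero : (u.app ⊤).hom (s ^ F.sup i * b) = 0 := by
    refine eq_of_locally fun x _ => ?_
    obtain ⟨y, hyF, hxy⟩ := Set.mem_iUnion₂.mp (hF (Set.mem_univ x))
    refine ⟨V y, le_top' (V y), hxy, ?_⟩
    rw [map_zero]
    obtain ⟨l, hl⟩ := Nat.exists_eq_add_of_le (Finset.le_sup (f := i) hyF)
    change u.gradedAt ⊤ hY (V y) (hV y) (le_top' _) _ = 0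
    rw [hl, add_comm, pow_add, mul_assoc, map_mul, hi y, mul_zero]
  have hsb : s ^ F.sup i * b = 0 := hu.1 (hzero.trans (map_zero _).symm)
  refine HomogeneousLocalization.val_injective _ ?_
  rw [Away.val_mk, HomogeneousLocalization.val_zero, Localization.mk_eq_mk',
    IsLocalization.mk'_eq_zero_iff]
  exact ⟨⟨s ^ F.sup i, F.sup i, rfl⟩, hsb⟩

include hL hLq hj hPL hP hr hY in
omit [CompactSpace X] in
/-- All conclusions for an ample module. -/
theorem main_of_isAmple [QuasiCompact f] (hu : Function.Bijective (u.app ⊤).hom)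
    (hLa : CohB1.IsAmple L) :
    RelProj.domQ u pL chartL = ⊤ ∧ IsOpenImmersion r := by
  haveI : IsAffine Y := by
    have : IsAffine (⊤ : Y.Opens).toScheme := hY
    exact IsAffine.of_isIso (Scheme.topIso Y).inv
  have hamp : RelAmple.IsRelAmple f L := TMul.isRelAmple_iff_isAmple.mpr hLa
  have hel := fun x : X =>
    exists_element hL hLq hj u hamp hY hu (x := x) trivial
  refine ⟨eq_top_iff.mpr fun z _ => ?_, ?_⟩
  · obtain ⟨n, a, hn, ha, -, hza⟩ := hel (pL z)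
    obtain ⟨⟨V, hV⟩, hzV⟩ := Opens.mem_iSup.mp hza
    exact (Rel.mem_domQ_of_nonvanishing hL hLq hj u hPL hY hn ha hV hzV).1
  · let ι := {a : ℕ × 𝒜.presheaf.obj (op ⊤) // IsIso (r ∣_ Rel.DPlus p chart hY a.2)}
    let D : ι → P.Opens := fun i => Rel.DPlus p chart hY i.1.2
    have hpre : r ⁻¹ᵁ (⨆ i, D i) = ⊤ := by
      refine eq_top_iff.mpr fun w _ => ?_
      obtain ⟨n, a, hn, ha, hO, hza⟩ := hel (pL ((RelProj.domQ u pL chartL).ι w))
      obtain ⟨⟨V, hV⟩, hzV⟩ := Opens.mem_iSup.mp hza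
      obtain ⟨w', hw', e⟩ :=
        (Rel.mem_preimage_basicOpen_iff hL hLq hj u hPL hr hY hP hn ha _).mpr ⟨V, hzV, hV⟩
      obtain rfl := (RelProj.domQ u pL chartL).ι.isOpenEmbedding.injective e
      exact Opens.mem_iSup.mpr
        ⟨⟨(n, a), isIso_restrict hL hLq hj u hPL hr hP hamp hY hu hn ha hO⟩, hw'⟩
    obtain ⟨e, he⟩ := eq_comp_restrict r hpre
    haveI : IsIso (r ∣_ ⨆ i, D i) :=
      prop_restrict_iSup r (MorphismProperty.isomorphisms Scheme.{u}) D fun i => i.2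
    rw [he]
    infer_instance

end Groth.Agent.SymAlg
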