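import Groth.Agent.SymAlg.OfAffine
import Groth.Agent.SymAlg.Exists
import Groth.Agent.RelTilde.Cast
import Groth.Prelude.Def_RelProj4
import Groth.Agent.SymAlg.PowSym

/-!
The image of a graded morphism of algebras over a quasi-compact morphism, as a graded quotient
algebra.
-/

set_option autoImplicit false
set_option backward.isDefEq.respectTransparency false
set_option linter.style.haveILetI false

universe u

open CategoryTheory CategoryTheory.Limits DirectSum AlgebraicGeometry TopologicalSpace Opposite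
open AlgebraicGeometry.Scheme AlgebraicGeometry.Scheme.AffineZariskiSite

noncomputable section

namespace Groth.Agent.SymAlg

section GradedImage

variable {A B : Type u} [CommRing A] [CommRing B] (𝒜 : ℕ → AddSubgroup A) [GradedRing 𝒜] (π : A →+* B)

/-- The images of the pieces. -/
def imDeg (d : ℕ) : AddSubgroup B := (𝒜 d).map π.toAddMonoidHom

lemma mem_imDeg {d : ℕ} {a : A} (ha : a ∈ 𝒜 d) : π a ∈ imDeg 𝒜 π d :=
  AddSubgroup.mem_map_of_mem _ ha

/-- Componentwise image of the decomposition. -/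
def imDec : A →+ ⨁ d, imDeg 𝒜 π d :=
  (DirectSum.map fun d => AddMonoidHom.mk' (fun a : 𝒜 d => (⟨π a, mem_imDeg 𝒜 π a.2⟩ : imDeg 𝒜 π d))
    fun a b => Subtype.ext (map_add π _ _)).comp (decomposeAddEquiv 𝒜).toAddMonoidHom

lemma imDec_apply (a : A) (d : ℕ) : ((imDec 𝒜 π a) d : B) = π (decompose 𝒜 a d : A) := rfl

/-- The grading of the image. -/
@[reducible] def gradedRingIm (hπ : Function.Surjective π)
    (hker : ∀ a, π a = 0 → ∀ d, π (decompose 𝒜 a d : A) = 0) : GradedRing (imDeg 𝒜 π) :=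
  have hg : ∀ a a', π a = π a' → imDec 𝒜 π a = imDec 𝒜 π a' := fun a a' h => by
    refine sub_eq_zero.mp (DFinsupp.ext fun d => Subtype.ext ?_)
    rw [← map_sub, imDec_apply]
    exact hker _ (by rw [map_sub, h, sub_self]) d
  let dec : B →+ ⨁ d, imDeg 𝒜 π d := AddMonoidHom.mk' (fun b => imDec 𝒜 π (Function.surjInv hπ b))
    fun b b' => by
      rw [← map_add]
      exact hg _ _ (by rw [map_add]; simp only [Function.surjInv_eq hπ])
  haveI hmon : SetLike.GradedMonoid (imDeg 𝒜 π) :=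
    { one_mem := ⟨1, SetLike.one_mem_graded 𝒜, map_one π⟩
      mul_mem := fun i k x y => by
        rintro ⟨a, ha, rfl⟩ ⟨b, hb, rfl⟩
        exact ⟨a * b, SetLike.mul_mem_graded ha hb, map_mul π a b⟩ }
  { __ := hmon
    __ := Decomposition.ofAddHom (imDeg 𝒜 π) dec
      (by
        classical
        ext b
        change DirectSum.coeAddMonoidHom (imDeg 𝒜 π) (imDec 𝒜 π (Function.surjInv hπ b)) = b
        conv_rhs => rw [← Function.surjInv_eq hπ b]
        generalize Function.surjInv hπ b = a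
        induction a using DirectSum.Decomposition.inductionOn 𝒜 with
        | zero => simp
        | add a b ha hb => rw [map_add, map_add, map_add, ha, hb]
        | homogeneous a =>
          simp only [imDec, AddMonoidHom.comp_apply, AddEquiv.coe_toAddMonoidHom, decomposeAddEquiv_apply,
            decompose_coe, DirectSum.map_of, DirectSum.coeAddMonoidHom_of, AddMonoidHom.mk'_apply])
      (by
        refine DirectSum.addHom_ext' fun d => AddMonoidHom.ext fun x => ?_
        obtain ⟨_, a, ha, rfl⟩ := x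
        simp only [AddMonoidHom.comp_apply, AddMonoidHom.id_apply, DirectSum.coeAddMonoidHom_of]
        change imDec 𝒜 π (Function.surjInv hπ (π a)) = _
        rw [hg _ a (Function.surjInv_eq hπ (π a))]
        simp only [imDec, AddMonoidHom.comp_apply, AddEquiv.coe_toAddMonoidHom, decomposeAddEquiv_apply,
          decompose_of_mem 𝒜 ha, DirectSum.map_of]
        rfl) }

end GradedImage

open Groth.Agent

variable {X Y : Scheme.{u}} {q : X ⟶ Y} {𝒯 : RelProj.QCGrAlg Y} {ℬ : RelProj.QCGrAlg X}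

lemma exists_pow_mul_eq_zero_of_res_basicOpen (ℬ : RelProj.QCGrAlg X) {W : X.Opens}
    (hW : IsCompact (W : Set X)) (g : Γ(X, W)) (c : ℬ.presheaf.obj (op W))
    (h : resL ℬ (X.basicOpen_le g) c = 0) : ∃ k : ℕ, strL ℬ W g ^ k * c = 0 := by
  classical
  choose V hV hxV hle using fun x : W =>
    exists_isAffineOpen_mem_and_subset (X := X) (U := W) (x := x.1) x.2
  have hle' : ∀ x : W, V x ≤ W := fun x => hle x
  obtain ⟨F, hF⟩ := hW.elim_finite_subcover (fun x : W => (V x : Set X)) (fun x => (V x).2)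
    (fun x hx => Set.mem_iUnion.mpr ⟨⟨x, hx⟩, hxV _⟩)
  have hk : ∀ x : W, ∃ k : ℕ, resL ℬ (hle' x) (strL ℬ W g ^ k * c) = 0 := fun x => by
    letI := (ℬ.presheaf.map (homOfLE (X.basicOpen_le (QC.resO X (hle' x) g))).op).hom.toAlgebra
    haveI : IsLocalization.Away (strL ℬ (V x) (QC.resO X (hle' x) g))
        (ℬ.presheaf.obj (op (X.basicOpen (QC.resO X (hle' x) g)))) := ℬ.isQC (V x) (hV x) _
    have hle'' : X.basicOpen (QC.resO X (hle' x) g) ≤ X.basicOpen g := by
      rw [show X.basicOpen (QC.resO X (hle' x) g) = V x ⊓ X.basicOpen g from X.basicOpen_res g _]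
      exact inf_le_right
    have h0 : resL ℬ (X.basicOpen_le (QC.resO X (hle' x) g)) (resL ℬ (hle' x) c) = 0 := by
      rw [resL_resL, ← resL_resL hle'' (X.basicOpen_le g), h, map_zero]
    obtain ⟨⟨_, k, rfl⟩, hk⟩ := (IsLocalization.map_eq_zero_iff
      (Submonoid.powers (strL ℬ (V x) (QC.resO X (hle' x) g)))
      (ℬ.presheaf.obj (op (X.basicOpen (QC.resO X (hle' x) g)))) _).mp h0
    exact ⟨k, by rw [map_mul, map_pow, resL_strL]; exact hk⟩
  choose k hk using hk
  refine ⟨F.sup k, eq_of_locally fun x hx => ?_⟩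
  obtain ⟨i, hiF, hi⟩ := Set.mem_iUnion₂.mp (hF hx)
  refine ⟨V i, hle' i, hi, ?_⟩
  obtain ⟨l, hl⟩ := Nat.exists_eq_add_of_le (Finset.le_sup (f := k) hiF)
  rw [hl, add_comm, pow_add, mul_assoc, map_mul, hk i, mul_zero, map_zero]

variable (u : RelProj.QGrHom q 𝒯 ℬ)

lemma uapp_res {V U : Y.Opens} (h : V ≤ U) (a : 𝒯.presheaf.obj (op U)) :
    resL ℬ (q.preimage_mono h) ((u.app U).hom a) =
      (u.app V).hom ((𝒯.presheaf.map (homOfLE h).op).hom a) :=
  congr(($(u.naturality h)).hom a)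

/-- The image in the sections over the inverse image. -/
abbrev imObj (U : Y.Opens) : Subring (ℬ.presheaf.obj (op (q ⁻¹ᵁ U))) := (u.app U).hom.range

/-- Restriction between the images. -/
def imRes {V U : Y.Opens} (h : V ≤ U) : imObj u U →+* imObj u V :=
  ((resL ℬ (q.preimage_mono h)).comp (imObj u U).subtype).codRestrict (imObj u V) (by
    rintro ⟨_, a, rfl⟩
    exact ⟨(𝒯.presheaf.map (homOfLE h).op).hom a, (uapp_res u h a).symm⟩)

/-- The images on the affine opens. -/
def imFun : Y.AffineZariskiSiteᵒᵖ ⥤ CommRingCat.{u} where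
  obj U := CommRingCat.of (imObj u U.unop.1)
  map i := CommRingCat.ofHom (imRes u (toOpens_mono (leOfHom i.unop)))
  map_id U := CommRingCat.hom_ext (RingHom.ext fun x => Subtype.ext
    (congr($(ℬ.presheaf.map_id (op (q ⁻¹ᵁ U.unop.1))) x.1)))
  map_comp i k := CommRingCat.hom_ext (RingHom.ext fun x => Subtype.ext
    (resL_resL _ _ x.1).symm)

/-- The projection on the affine opens. -/
def imProj : (toOpensFunctor Y).op ⋙ 𝒯.presheaf ⟶ imFun u where
  app U := CommRingCat.ofHom (u.app U.unop.1).hom.rangeRestrict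
  naturality U V i := CommRingCat.hom_ext (RingHom.ext fun a => Subtype.ext
    (uapp_res u (toOpens_mono (leOfHom i.unop)) a).symm)

/-- The inclusion on the affine opens. -/
def imIncl : imFun u ⟶ (toOpensFunctor Y).op ⋙ (q.base _* ℬ.presheaf) where
  app U := CommRingCat.ofHom (imObj u U.unop.1).subtype
  naturality U V i := rfl

variable [QuasiCompact q]

lemma coequifibered_im :
    (Functor.whiskerLeft (toOpensFunctor Y).op 𝒯.str ≫ imProj u).Coequifibered := by
  refine coequifibered_iff_forall_isLocalizationAway.mpr fun U r => ?_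
  let _inst := ((imFun u).map (homOfLE (U.basicOpen_le r)).op).hom.toAlgebra
  let π := (u.app U.1).hom
  let π' := (u.app (Y.basicOpen r)).hom
  have hstr : ∀ (W : Y.Opens) (x : Γ(Y, W)),
      (u.app W).hom ((𝒯.str.app (op W)).hom x) = strL ℬ (q ⁻¹ᵁ W) ((q.app W).hom x) :=
    fun W x => congr(($(u.str_app W)).hom x)
  let R : imObj u U.1 := ⟨π ((𝒯.str.app (op U.1)).hom r), ⟨_, rfl⟩⟩
  let R' : ((imFun u).obj (op U) : Type u) := R
  change IsLocalization.Away R' ((imFun u).obj (op (U.basicOpen r)))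
  refine { map_units := ?_, surj := ?_, exists_of_eq := ?_ }
  · rintro ⟨_, k, rfl⟩
    rw [map_pow]
    refine IsUnit.pow k ?_
    have h := (RelTilde.isUnit_res_str 𝒯 U.2 r).map (u.app (Y.basicOpen r)).hom.rangeRestrict
    refine (congrArg IsUnit (Subtype.ext ?_ : _ = (u.app (Y.basicOpen r)).hom.rangeRestrict _)).mpr h
    exact uapp_res u (Y.basicOpen_le r) ((𝒯.str.app (op U.1)).hom r)
  · rintro ⟨_, b, rfl⟩
    obtain ⟨a, k, hk⟩ := RelTilde.surj_res 𝒯 U.2 r b
    refine ⟨⟨⟨π a, a, rfl⟩, ⟨R ^ k, k, rfl⟩⟩, Subtype.ext ?_⟩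
    change π' b * resL ℬ (q.preimage_mono (Y.basicOpen_le r)) ((R ^ k : imObj u U.1) : ℬ.presheaf.obj (op (q ⁻¹ᵁ U.1))) =
      resL ℬ (q.preimage_mono (Y.basicOpen_le r)) (π a)
    rw [SubmonoidClass.coe_pow, map_pow, show (R : ℬ.presheaf.obj (op (q ⁻¹ᵁ U.1))) = π _ from rfl,
      uapp_res u (Y.basicOpen_le r), uapp_res u (Y.basicOpen_le r), ← map_pow, ← map_mul, mul_comm b]
    exact congrArg _ hk
  · intro x y hxy
    have h0 : resL ℬ (q.preimage_mono (Y.basicOpen_le r)) (x.1 - y.1) = 0 := by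
      rw [map_sub, sub_eq_zero]
      exact congrArg Subtype.val hxy
    have hD : X.basicOpen ((q.app U.1).hom r) ≤ q ⁻¹ᵁ Y.basicOpen r :=
      (Scheme.preimage_basicOpen q r).ge
    obtain ⟨k, hk⟩ := exists_pow_mul_eq_zero_of_res_basicOpen ℬ (q.isCompact_preimage U.2.isCompact)
      ((q.app U.1).hom r) (x.1 - y.1) (by
        rw [← resL_resL hD (q.preimage_mono (Y.basicOpen_le r)), h0, map_zero])
    refine ⟨⟨R ^ k, k, rfl⟩, Subtype.ext ?_⟩
    change ((R ^ k : imObj u U.1) : ℬ.presheaf.obj (op (q ⁻¹ᵁ U.1))) * x.1 = _ * y.1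
    rw [SubmonoidClass.coe_pow, show (R : ℬ.presheaf.obj (op (q ⁻¹ᵁ U.1))) = π _ from rfl]
    refine sub_eq_zero.mp ?_
    rw [← mul_sub, hstr U.1 r]
    exact hk

set_option maxHeartbeats 800000 in
/-- The image algebra. -/
theorem exists_image : ∃ (𝒬 : RelProj.QCGrAlg Y) (φ : 𝒯.toQCAlg ⟶ 𝒬.toQCAlg)
    (_ : RelProj.IsGradedHom φ) (w : RelProj.QGrHom q 𝒬 ℬ), ∀ (U : Y.Opens) (hU : IsAffineOpen U),
      Function.Surjective (φ.hom.app (op U)).hom ∧ Function.Injective (w.app U).hom ∧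
      (∀ a, (w.app U).hom ((φ.hom.app (op U)).hom a) = (u.app U).hom a) ∧
      ∀ (d : ℕ), ∀ b ∈ 𝒬.deg U hU d, ∃ a ∈ 𝒯.deg U hU d, (φ.hom.app (op U)).hom a = b := by
  classical
  obtain ⟨A, γ, hγ⟩ := exists_qcAlg (coequifibered_im u)
  let e : ∀ U : Y.AffineZariskiSite, A.presheaf.obj (op U.1) ≃+* imObj u U.1 :=
    fun U => (γ.app (op U)).commRingCatIsoToRingEquiv
  let A' : TopCat.Sheaf CommRingCat.{u} Y.carrier := ⟨A.presheaf, A.isSheaf⟩
  let B' : TopCat.Sheaf CommRingCat.{u} Y.carrier :=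
    (TopCat.Sheaf.pushforward CommRingCat.{u} q.base).obj ⟨ℬ.presheaf, ℬ.isSheaf⟩
  let φh : 𝒯.presheaf ⟶ A.presheaf := Functor.IsCoverDense.restrictHomEquivHom (G := toOpensFunctor Y)
      (K := Opens.grothendieckTopology Y) (ℱ := 𝒯.presheaf) (ℱ' := A') (imProj u ≫ γ.inv)
  let wh : A.presheaf ⟶ q.base _* ℬ.presheaf := Functor.IsCoverDense.restrictHomEquivHom
      (G := toOpensFunctor Y) (K := Opens.grothendieckTopology Y) (ℱ := A.presheaf) (ℱ' := B')
      (γ.hom ≫ imIncl u)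
  have hφ : ∀ (U : Y.AffineZariskiSite) (a : 𝒯.presheaf.obj (op U.1)),
      (φh.app (op U.1)).hom a = (e U).symm ⟨(u.app U.1).hom a, a, rfl⟩ := fun U a =>
    congr($(NatTrans.congr_app ((Functor.IsCoverDense.restrictHomEquivHom (G := toOpensFunctor Y)
      (K := Opens.grothendieckTopology Y) (ℱ := 𝒯.presheaf) (ℱ' := A')).symm_apply_apply
        (imProj u ≫ γ.inv)) (op U)) a)
  have hw : ∀ (U : Y.AffineZariskiSite) (b : A.presheaf.obj (op U.1)),
      (wh.app (op U.1)).hom b = (e U b).1 := fun U b =>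
    congr($(NatTrans.congr_app ((Functor.IsCoverDense.restrictHomEquivHom (G := toOpensFunctor Y)
      (K := Opens.grothendieckTopology Y) (ℱ := A.presheaf) (ℱ' := B')).symm_apply_apply
        (γ.hom ≫ imIncl u)) (op U)) b)
  have hestr : ∀ (U : Y.AffineZariskiSite) (r : Γ(Y, U.1)),
      e U ((A.str.app (op U.1)).hom r) = ⟨(u.app U.1).hom ((𝒯.str.app (op U.1)).hom r), _, rfl⟩ :=
    fun U r => congr($(NatTrans.congr_app hγ (op U)) r)
  have hφcomm : 𝒯.str ≫ φh = A.str := by
    refine (Functor.IsCoverDense.restrictHomEquivHom (G := toOpensFunctor Y)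
      (K := Opens.grothendieckTopology Y) (ℱ := Y.presheaf) (ℱ' := A')).symm.injective ?_
    ext U r
    refine (hφ U.unop _).trans ?_
    exact (e U.unop).symm_apply_eq.mpr (hestr U.unop r).symm
  have hwcomm : A.str ≫ wh = q.c ≫ (TopCat.Presheaf.pushforward CommRingCat.{u} q.base).map ℬ.str := by
    refine (Functor.IsCoverDense.restrictHomEquivHom (G := toOpensFunctor Y)
      (K := Opens.grothendieckTopology Y) (ℱ := Y.presheaf) (ℱ' := B')).symm.injective ?_
    ext U r
    refine (hw U.unop _).trans ?_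
    exact (congrArg Subtype.val (hestr U.unop r)).trans congr(($(u.str_app U.unop.1)).hom r)
  let π : ∀ U : Y.AffineZariskiSite, 𝒯.presheaf.obj (op U.1) →+* A.presheaf.obj (op U.1) :=
    fun U => (φh.app (op U.1)).hom
  have hπs : ∀ U, Function.Surjective (π U) := fun U b => by
    obtain ⟨a, ha⟩ := (e U b).2
    refine ⟨a, (hφ U a).trans ((e U).symm_apply_eq.mpr ?_)⟩
    exact Subtype.ext ha
  have hwπ : ∀ (U : Y.AffineZariskiSite) a, (wh.app (op U.1)).hom (π U a) = (u.app U.1).hom a := fun U a => by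
    rw [hw]
    exact congrArg Subtype.val ((e U).apply_eq_iff_eq_symm_apply.mpr (hφ U a))
  have hker : ∀ (U : Y.AffineZariskiSite) a, π U a = 0 → ∀ d,
      π U (decompose (𝒯.deg U.1 U.2) a d : 𝒯.presheaf.obj (op U.1)) = 0 := fun U a ha d => by
    have h0 : (u.app U.1).hom a = 0 := by rw [← hwπ, ha, map_zero]
    refine (hφ U _).trans ((e U).symm_apply_eq.mpr (Subtype.ext ?_))
    change (u.app U.1).hom _ = _
    refine eq_of_locally fun x hx => ?_
    obtain ⟨V, hV, hxV, hle⟩ := exists_isAffineOpen_mem_and_subset (U := q ⁻¹ᵁ U.1) (x := x) hx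
    refine ⟨V, hle, hxV, ?_⟩
    rw [map_zero, ZeroMemClass.coe_zero, map_zero]
    change (u.gradedAt U.1 U.2 V hV hle) (decompose (𝒯.deg U.1 U.2) a d : 𝒯.presheaf.obj (op U.1)) = 0
    rw [GradedRingHom.map_directSumDecompose]
    have h1 : u.gradedAt U.1 U.2 V hV hle a = 0 := by
      change resL ℬ hle ((u.app U.1).hom a) = 0
      rw [h0, map_zero]
    rw [h1, decompose_zero]
    rfl
  let 𝒬 : RelProj.QCGrAlg Y :=
    { A with
      deg := fun U hU => imDeg (𝒯.deg U hU) (π ⟨U, hU⟩)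
      graded := fun U hU => gradedRingIm (𝒯.deg U hU) (π ⟨U, hU⟩) (hπs ⟨U, hU⟩) (hker ⟨U, hU⟩)
      str_mem := fun U hU r =>
        ⟨(𝒯.str.app (op U)).hom r, 𝒯.str_mem U hU r, congr(($(NatTrans.congr_app hφcomm (op U))).hom r)⟩
      map_mem := fun {U V} hU hV i {d x} hx => by
        obtain ⟨a, ha, rfl⟩ := hx
        exact ⟨(𝒯.presheaf.map (homOfLE i).op).hom a, 𝒯.map_mem hU hV i ha,
          congr(($(φh.naturality (homOfLE i).op)).hom a)⟩ }
  refine ⟨𝒬, ⟨φh, hφcomm⟩, fun U hU d a ha => ⟨a, ha, rfl⟩,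
    { app := fun U => wh.app (op U)
      naturality := fun {U V} i => (wh.naturality (homOfLE i).op).symm
      str_app := fun U => NatTrans.congr_app hwcomm (op U)
      map_mem := fun U hU U' hU' hle {d x} hx => ?_ }, fun U hU => ⟨hπs ⟨U, hU⟩, ?_, hwπ ⟨U, hU⟩, ?_⟩⟩
  · obtain ⟨a, ha, rfl⟩ := hx
    change resL ℬ hle ((wh.app (op U)).hom (π ⟨U, hU⟩ a)) ∈ _
    rw [hwπ ⟨U, hU⟩]
    exact Graded.map_mem (u.gradedAt U hU U' hU' hle) ha
  · intro b b' h
    change (wh.app (op U)).hom b = (wh.app (op U)).hom b' at h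
    rw [hw ⟨U, hU⟩, hw ⟨U, hU⟩] at h
    exact (e ⟨U, hU⟩).injective (Subtype.ext h)
  · rintro d b ⟨a, ha, rfl⟩
    exact ⟨a, ha, rfl⟩

end Groth.Agent.SymAlg
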