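import Groth.Agent.SymAlg.FTSub
import Groth.Agent.SymAlg.CanonGen
import Groth.Agent.SymAlg.ImageAlg
import Groth.Agent.QC.FiniteType

/-!
A very ample module realises `X` as a dense open subscheme of the Proj of an algebra generated by a
finite type degree-one part.
-/

set_option autoImplicit false
set_option backward.isDefEq.respectTransparency false
set_option linter.style.haveILetI false

universe u

open CategoryTheory CategoryTheory.Limits DirectSum AlgebraicGeometry TopologicalSpace Opposite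
open scoped HomogeneousIdeal
open Groth.Agent.QC (res resO res_res res_self res_smul app_res)

noncomputable section

namespace Groth.Agent.SymAlg

open Groth.Agent
open TMul (IsGen)

/-- The degree-one part of a symmetric algebra consists of the sections of the module. -/
theorem exists_jsec_of_mem_deg_one {Y : Scheme.{u}} {E : Y.Modules} [E.IsQuasicoherent]
    {𝒯 : RelProj.QCGrAlg Y} {j : E ⟶ 𝒯.toModule} (hj : RelProj.IsGrSymAlg E 𝒯 j) {U : Y.Opens}
    (hU : IsAffineOpen U) {x : 𝒯.presheaf.obj (op U)} (hx : x ∈ 𝒯.deg U hU 1) :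
    ∃ m : Γ(E, U), SymAlgGen.jsec j U m = x := by
  classical
  let T : Set (𝒯.presheaf.obj (op U)) :=
    Set.range (SymAlgGen.strS 𝒯.toQCAlg U) ∪ Set.range (SymAlgGen.jsec j U)
  have hM : ∀ y ∈ Submonoid.closure T, ∃ d, y ∈ 𝒯.deg U hU d ∧
      (d = 0 → ∃ r, SymAlgGen.strS 𝒯.toQCAlg U r = y) ∧ (d = 1 → ∃ m, SymAlgGen.jsec j U m = y) := by
    intro y hy
    induction hy using Submonoid.closure_induction with
    | mem y hy =>
      rcases hy with ⟨r, rfl⟩ | ⟨m, rfl⟩
      · exact ⟨0, 𝒯.str_mem U hU r, fun _ => ⟨r, rfl⟩, fun h => absurd h (by omega)⟩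
      · exact ⟨1, hj.2 U hU m, fun h => absurd h (by omega), fun _ => ⟨m, rfl⟩⟩
    | one => exact ⟨0, SetLike.one_mem_graded _, fun _ => ⟨1, map_one _⟩, fun h => absurd h (by omega)⟩
    | mul a b _ _ ha hb =>
      obtain ⟨d, ha, ha0, ha1⟩ := ha
      obtain ⟨e, hb, hb0, hb1⟩ := hb
      refine ⟨d + e, SetLike.mul_mem_graded ha hb, fun h => ?_, fun h => ?_⟩
      · obtain ⟨r, rfl⟩ := ha0 (by omega)
        obtain ⟨r', rfl⟩ := hb0 (by omega)
        exact ⟨r * r', map_mul _ _ _⟩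
      · rcases Nat.eq_zero_or_pos d with hd | hd
        · obtain ⟨r, rfl⟩ := ha0 hd
          obtain ⟨m, rfl⟩ := hb1 (by omega)
          exact ⟨r • m, SymAlgGen.jsec_smul (j := j) U r m⟩
        · obtain ⟨r, rfl⟩ := hb0 (by omega)
          obtain ⟨m, rfl⟩ := ha1 (by omega)
          exact ⟨r • m, (SymAlgGen.jsec_smul (j := j) U r m).trans (mul_comm _ _)⟩
  suffices key : ∀ z : 𝒯.presheaf.obj (op U), ∃ m, SymAlgGen.jsec j U m =
      (decompose (𝒯.deg U hU) z 1 : 𝒯.presheaf.obj (op U)) by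
    obtain ⟨m, hm⟩ := key x
    exact ⟨m, hm.trans (decompose_of_mem_same _ hx)⟩
  intro z
  have hz : z ∈ Subring.closure T := (SymAlgGen.gen_eq_top hj.1 hU).ge (Subring.mem_top z)
  rw [Subring.mem_closure_iff] at hz
  have hzero : SymAlgGen.jsec j U 0 = 0 := map_zero (j.app U).hom
  induction hz using AddSubgroup.closure_induction with
  | mem y hy =>
    obtain ⟨d, hd, -, hd1⟩ := hM y hy
    by_cases h : d = 1
    · subst h
      rw [decompose_of_mem_same _ hd]
      exact hd1 rfl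
    · exact ⟨0, by rw [decompose_of_mem_ne _ hd h, hzero]⟩
  | zero => exact ⟨0, by rw [decompose_zero, hzero]; rfl⟩
  | add a b _ _ ha hb =>
    obtain ⟨m, hm⟩ := ha
    obtain ⟨n, hn⟩ := hb
    exact ⟨m + n, by rw [decompose_add, DirectSum.add_apply, AddMemClass.coe_add, ← hm, ← hn]; exact map_add (j.app U).hom m n⟩
  | neg a _ ha =>
    obtain ⟨m, hm⟩ := ha
    exact ⟨-m, by rw [decompose_neg]; exact (map_neg (j.app U).hom m).trans (congrArg Neg.neg hm)⟩

namespace Rel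

variable {Y X : Scheme.{u}} {q : X ⟶ Y} {L : X.Modules} (hL : PicF.IsInvertible L)
  (hLq : Coh.IsQCoh L) {𝒮 : RelProj.QCGrAlg Y} {𝒮L : RelProj.QCGrAlg X} {jl : L ⟶ 𝒮L.toModule}
  (hjl : RelProj.IsGrSymAlg L 𝒮L jl) (u : RelProj.QGrHom q 𝒮 𝒮L)

include hL hLq hjl in
/-- For an algebra inside `q_*` of `⊕ L^n`, vanishing where `f` does not is killed by a power of `f`. -/
theorem exists_pow_mul_eq_zero [QuasiCompact q] {U : Y.Opens} (hU : IsAffineOpen U)
    (hinj : Function.Injective (u.app U).hom) {n m : ℕ} {f s : 𝒮.presheaf.obj (op U)}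
    (hf : f ∈ 𝒮.deg U hU n) (hs : s ∈ 𝒮.deg U hU m)
    (h : ∀ (V : X.affineOpens) (hV : V.1 ≤ q ⁻¹ᵁ U), Nonvanishing u hU n f V →
      (u.appLE U V.1 hV).hom s = 0) :
    ∃ k : ℕ, 0 < k ∧ f ^ k * s = 0 := by
  classical
  choose V hV e hxV hle he using fun x : (q ⁻¹ᵁ U : X.Opens) => exists_triv hL x.2
  choose c hc using fun x => exists_coeff hLq hjl (hV x) (he x) (u.map_mem U hU (V x) (hV x) (hle x) hf)
  choose d hd using fun x => exists_coeff hLq hjl (hV x) (he x) (u.map_mem U hU (V x) (hV x) (hle x) hs)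
  have hk : ∀ x, ∃ k : ℕ, c x ^ k * d x = 0 := fun x => by
    have hD : IsAffineOpen (X.basicOpen (c x)) := (hV x).basicOpen (c x)
    have hfD : (u.appLE U (X.basicOpen (c x)) ((X.basicOpen_le _).trans (hle x))).hom f =
        resL 𝒮L (X.basicOpen_le (c x)) (strL 𝒮L (V x) (c x) * jL jl (V x) (e x) ^ n) := by
      rw [← hc]
      exact (resL_appLE u (X.basicOpen_le (c x)) (hle x) f).symm
    have h0 := h ⟨X.basicOpen (c x), hD⟩ ((X.basicOpen_le _).trans (hle x))
      ⟨(X.basicOpen_le _).trans (hle x), by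
        rw [hfD]; exact subset_span_basicOpen hLq hjl (hV x) (he x) n (c x)⟩
    rw [← resL_appLE u (X.basicOpen_le (c x)) (hle x) s,
      show (u.appLE U (V x) (hle x)).hom s = strL 𝒮L (V x) (d x) * jL jl (V x) (e x) ^ m from hd x,
      map_mul, map_pow, resL_strL, resL_jL] at h0
    have h1 : resO X (X.basicOpen_le (c x)) (d x) = 0 :=
      coeff_inj hLq hjl hD (isGen_res _ (he x)) (n := m) (by rw [h0, map_zero, zero_mul])
    haveI := (hV x).isLocalization_basicOpen (c x)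
    obtain ⟨⟨_, k, rfl⟩, hk⟩ := (IsLocalization.map_eq_zero_iff (Submonoid.powers (c x))
      Γ(X, X.basicOpen (c x)) (d x)).mp h1
    exact ⟨k, hk⟩
  choose k hk using hk
  obtain ⟨t, ht⟩ := (q.isCompact_preimage hU.isCompact).elim_finite_subcover
    (fun x : (q ⁻¹ᵁ U : X.Opens) => (V x : Set X)) (fun x => (V x).2)
    (fun x hx => Set.mem_iUnion.mpr ⟨⟨x, hx⟩, hxV _⟩)
  refine ⟨t.sup k + 1, Nat.succ_pos _, hinj ?_⟩
  rw [map_zero]
  refine eq_of_locally fun x hx => ?_
  obtain ⟨i, hit, hxi⟩ := Set.mem_iUnion₂.mp (ht hx)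
  refine ⟨V i, hle i, hxi, ?_⟩
  rw [map_zero, map_mul, map_pow, map_mul, map_pow]
  change (u.appLE U (V i) (hle i)).hom f ^ _ * (u.appLE U (V i) (hle i)).hom s = 0
  rw [show (u.appLE U (V i) (hle i)).hom f = _ from hc i,
    show (u.appLE U (V i) (hle i)).hom s = _ from hd i]
  obtain ⟨l, hl⟩ := Nat.exists_eq_add_of_le (Finset.le_sup (f := k) hit)
  rw [hl]
  have h2 : strL 𝒮L (V i) (c i) ^ k i * strL 𝒮L (V i) (d i) = 0 := by
    rw [← map_pow, ← map_mul, hk i, map_zero]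
  linear_combination (strL 𝒮L (V i) (c i) ^ (l + 1) * (jL jl (V i) (e i) ^ n) ^ (k i + l + 1) *
    jL jl (V i) (e i) ^ m) * h2

end Rel

section Main

variable {Y X : Scheme.{u}}

set_option maxHeartbeats 1600000 in
/-- A dense open immersion into the Proj of an algebra generated by a finite type degree-one part. -/
theorem exists_openImm [CompactSpace Y] [QuasiSeparatedSpace Y] (q : X ⟶ Y) [QuasiCompact q]
    [LocallyOfFiniteType q] {L : X.Modules} (hL : PicF.IsInvertible L) (h : RelProj.IsRelVeryAmple q L) :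
    ∃ (𝒮 : RelProj.QCGrAlg Y) (P : Scheme.{u}) (p : P ⟶ Y)
      (chart : ∀ (U : Y.Opens) (hU : IsAffineOpen U), ((p ⁻¹ᵁ U : P.Opens) : Scheme.{u}) ≅ Proj (𝒮.deg U hU))
      (O1 : P.Modules)
      (lam : ∀ (U : Y.Opens) (hU : IsAffineOpen U),
        O1 ⟶ (Scheme.Modules.pushforward (RelProj.emb p chart U hU)).obj (GrTwist.twist (𝒮.deg U hU) 1))
      (i : X ⟶ P),
      𝒮.IsGenDegOne ∧ 𝒮.IsFTDeg 1 ∧ RelProj.IsRelProj 𝒮 p chart ∧ RelProj.IsRelTwist 𝒮 p chart 1 O1 lam ∧
        IsOpenImmersion i ∧ Dense (Set.range i.base) ∧ i ≫ p = q ∧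
        Nonempty (L ≅ (Scheme.Modules.pullback i).obj O1) := by
  classical
  have hLq : Coh.IsQCoh L := TMul.isQCoh_of_isInvertible hL
  obtain ⟨𝒮L, jl, hjl⟩ := exists_isGrSymAlg hLq
  obtain ⟨PL, pL, chartL, hPL⟩ := RelProjLib.exists_isRelProj 𝒮L
  obtain ⟨E, hEq, hEft, ι, hι, 𝒯, jE, hjE, u, hu, hs, hd⟩ := exists_ft_veryAmple q hL hLq hjl h
  haveI : E.IsQuasicoherent := hEq
  obtain ⟨𝒬, φ, hφ, w, hw⟩ := exists_image u
  have happ : ∀ U : Y.Opens, u.app U = φ.hom.app (op U) ≫ w.app U := fun U =>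
    CommRingCat.hom_ext (RingHom.ext fun a => eq_of_affine_base 𝒮L fun V hV hle => by
      change resL 𝒮L _ ((u.app U).hom a) = resL 𝒮L _ ((w.app U).hom ((φ.hom.app (op U)).hom a))
      rw [qApp_res _ hle, qApp_res _ hle, ← (hw V hV).2.2.1]
      exact congrArg (w.app V).hom (congr($(φ.hom.naturality (homOfLE hle).op) a)))
  have hdw : Rel.ImmData w := hd.map w φ u happ hφ
  obtain ⟨P, p, chart, hP⟩ := RelProjLib.exists_isRelProj 𝒬
  obtain ⟨r, hr, -⟩ := RelProjLib.existsUnique_qmap w hP hPL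
  obtain ⟨htop, hri⟩ := Rel.isImmersion_of_immData hL hLq hjl w hPL hr hP hdw
  obtain ⟨κ, -, U, n, f, hnf, hcov, hA⟩ := hdw
  haveI := isIso_pL hL hLq hjl hPL
  haveI : IsOpenImmersion r := by
    haveI := prop_restrict_iSup r (MorphismProperty.isomorphisms Scheme.{u})
      (fun a => Rel.DPlus p chart (U a).2 (f a)) fun a =>
      (Rel.isIso_restrict_iff hL hLq hjl w hPL hr (U a).2 hP (hnf a).1 (hnf a).2 (hA a).1
        (Rel.NV_le w _ _ _) rfl).2 ⟨(hA a).2, fun m _ s' hs' h0 => by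
          refine Rel.exists_pow_mul_eq_zero hL hLq hjl w (U a).2 (hw _ (U a).2).2.1 (hnf a).2 hs' ?_
          intro V hV hNV
          rw [← resL_appLE w (Rel.Nonvanishing.le_NV w (U a).2 hNV) (Rel.NV_le w _ _ _), h0, map_zero]⟩
    haveI : IsIso (r ∣_ ⨆ a, Rel.DPlus p chart (U a).2 (f a)) := this
    have hΩ : r ⁻¹ᵁ (⨆ a, Rel.DPlus p chart (U a).2 (f a)) = ⊤ := eq_top_iff.2 fun z _ => by
      obtain ⟨a, ha⟩ := hcov (pL ((RelProj.domQ w pL chartL).ι z))
      obtain ⟨⟨V, hV⟩, hzV⟩ := Opens.mem_iSup.1 ha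
      obtain ⟨z', hz', e⟩ := (Rel.mem_preimage_basicOpen_iff hL hLq hjl w hPL hr (U a).2 hP (hnf a).1 (hnf a).2 _).2
        ⟨V, hzV, hV⟩
      obtain rfl := (RelProj.domQ w pL chartL).ι.isOpenEmbedding.injective e
      exact Opens.mem_iSup.2 ⟨a, hz'⟩
    obtain ⟨e, he⟩ := eq_comp_restrict r hΩ
    rw [he]
    infer_instance
  haveI : IsDominant r := (Rel.isDominant_iff_nonvanishing hL hLq hjl w hPL hr hP).2
    fun U hU n hn f hf hnil => by
      by_contra! hno
      obtain ⟨k, -, hk⟩ := Rel.exists_pow_mul_eq_zero hL hLq hjl w hU (hw U hU).2.1 hf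
        (SetLike.one_mem_graded _) fun V hV hNV => eq_of_locally fun x hx =>
          absurd hNV (hno V ⟨x, hx⟩)
      exact hnil ⟨k, by rwa [mul_one] at hk⟩
  haveI : IsIso (RelProj.domQ w pL chartL).ι := by
    rw [htop]; exact (Scheme.topIso PL).isIso_hom
  have hgen : 𝒬.IsGenDegOne := fun U hU => by
    refine top_le_iff.mp fun b _ => ?_
    obtain ⟨a, rfl⟩ := (hw U hU).1 b
    have ha : a ∈ Subring.closure (Set.range (SymAlgGen.strS 𝒯.toQCAlg U) ∪ Set.range (SymAlgGen.jsec jE U)) :=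
      (SymAlgGen.gen_eq_top hjE.1 hU).ge (Subring.mem_top a)
    have h2 := Subring.mem_map.mpr ⟨a, ha, (rfl : (φ.hom.app (op U)).hom a = _)⟩
    rw [RingHom.map_closure] at h2
    refine Subring.closure_mono ?_ h2
    rintro _ ⟨y, ⟨s, rfl⟩ | ⟨m, rfl⟩, rfl⟩
    · exact Or.inl (hφ U hU 0 _ (𝒯.str_mem U hU s))
    · exact Or.inr (hφ U hU 1 _ (hjE.2 U hU m))
  have hft : 𝒬.IsFTDeg 1 := fun U hU => by
    obtain ⟨G, hG⟩ := (QC.finite_sections (U := U) hU hEft).fg_top
    let g : Γ(E, U) → 𝒬.presheaf.obj (op U) := fun m => (φ.hom.app (op U)).hom (SymAlgGen.jsec jE U m)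
    refine ⟨G.image g, ?_, fun x hx => ?_⟩
    · rw [Finset.coe_image]
      rintro _ ⟨m, -, rfl⟩
      exact hφ U hU 1 _ (hjE.2 U hU m)
    · obtain ⟨a, ha, rfl⟩ := (hw U hU).2.2.2 1 x hx
      obtain ⟨m, rfl⟩ := exists_jsec_of_mem_deg_one hjE hU ha
      clear hx ha
      letI := (𝒬.str.app (op U)).hom.toAlgebra
      have hg : g m ∈ Submodule.span Γ(Y, U) ((G.image g : Finset _) : Set (𝒬.presheaf.obj (op U))) := by
        have hm : m ∈ Submodule.span Γ(Y, U) (G : Set Γ(E, U)) := hG ▸ Submodule.mem_top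
        induction hm using Submodule.span_induction with
        | mem t ht => exact Submodule.subset_span (Finset.mem_image_of_mem g ht)
        | zero =>
          rw [show g 0 = 0 from (congrArg (φ.hom.app (op U)).hom (map_zero (jE.app U).hom)).trans (map_zero _)]
          exact zero_mem _
        | add a b _ _ iha ihb =>
          rw [show g (a + b) = g a + g b from (congrArg (φ.hom.app (op U)).hom (map_add (jE.app U).hom a b)).trans (map_add (φ.hom.app (op U)).hom _ _)]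
          exact add_mem iha ihb
        | smul r a _ iha =>
          rw [show g (r • a) = r • g a from (congrArg (φ.hom.app (op U)).hom (SymAlgGen.jsec_smul (j := jE) U r a)).trans
            ((map_mul (φ.hom.app (op U)).hom _ _).trans (congrArg (· * g a)
              (show (φ.hom.app (op U)).hom ((𝒯.str.app (op U)).hom r) = (𝒬.str.app (op U)).hom r from
                congr($(NatTrans.congr_app φ.comm (op U)) r))))]
          exact Submodule.smul_mem _ r iha
      obtain ⟨c, hc⟩ := Submodule.mem_span_finset.mp hg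
      exact ⟨c, hc.2.symm⟩
  have hcov' : ∀ x : X, ∃ c : DegOnePair w jl, x ∈ c.U' := fun x => by
    obtain ⟨U, hU, e, V, hV, hVU, hxV, hspan⟩ := hs x
    refine exists_degOnePair hL hLq hjl hU (hφ U hU 1 _ (hjE.2 U hU e)) hV hVU ?_ hxV
    rwa [← Rel.appLE_map w φ u happ]
  obtain ⟨O1, lam, hO1⟩ := (RelTilde.Datum.self 𝒬).exists_isTilde hP (1 : ℤ)
  obtain ⟨d⟩ := nonempty_pullback_twist_iso_degOne hL hLq hgen hjl hP hPL hr hcov' htop hO1
  refine ⟨𝒬, P, p, chart, O1, lam, inv pL ≫ inv (RelProj.domQ w pL chartL).ι ≫ r, hgen, hft, hP,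
    (RelTilde.isRelTwist_iff 𝒬 1 O1 lam).mpr hO1, inferInstance, ?_, ?_, ⟨d⟩⟩
  · exact (inferInstance : IsDominant (inv pL ≫ inv (RelProj.domQ w pL chartL).ι ≫ r)).denseRange
  · rw [Category.assoc, Category.assoc, RelProjLib.qmap_over w hP hPL hr, IsIso.inv_hom_id_assoc,
      IsIso.inv_hom_id_assoc]

end Main

end Groth.Agent.SymAlg
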