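import Groth.Agent.SymAlg.RLDom
import Groth.Agent.SymAlg.RLImmData

/-!
# Everywhere defined immersion from local data (any index type)
-/

universe u

open CategoryTheory CategoryTheory.Limits AlgebraicGeometry TopologicalSpace Opposite
open scoped HomogeneousIdeal

noncomputable section

namespace Groth.Agent.SymAlg.Rel

open Groth.Agent

variable {Y X P PL : Scheme.{u}} {q : X ⟶ Y} {L : X.Modules} {𝒮 : RelProj.QCGrAlg Y} {𝒮L : RelProj.QCGrAlg X}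

variable (hL : PicF.IsInvertible L)
  (hLq : Coh.IsQCoh L) {j : L ⟶ 𝒮L.toModule}
  (hj : RelProj.IsGrSymAlg L 𝒮L j) (u : RelProj.QGrHom q 𝒮 𝒮L) {p : P ⟶ Y}
  {chart : ∀ (U : Y.Opens) (hU : IsAffineOpen U), ((p ⁻¹ᵁ U : P.Opens) : Scheme.{u}) ≅ Proj (𝒮.deg U hU)}
  {pL : PL ⟶ X}
  {chartL : ∀ (U : X.Opens) (hU : IsAffineOpen U), ((pL ⁻¹ᵁ U : PL.Opens) : Scheme.{u}) ≅ Proj (𝒮L.deg U hU)}
  (hPL : RelProj.IsRelProj 𝒮L pL chartL)
  {r : ((RelProj.domQ u pL chartL : PL.Opens) : Scheme.{u}) ⟶ P}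
  (hr : RelProj.IsProjQMapOn u p chart pL chartL (RelProj.domQ u pL chartL) r)
  (hP : RelProj.IsRelProj 𝒮 p chart)

include hL hLq hj hPL hr hP

/-- `r` is an everywhere defined immersion as soon as local data exist (no finiteness needed). -/
theorem isImmersion_of_localData {ι : Type u} (U : ι → Y.affineOpens) (n : ι → ℕ)
    (f : ∀ a, 𝒮.presheaf.obj (op (U a).1))
    (hnf : ∀ a, 0 < n a ∧ f a ∈ 𝒮.deg (U a).1 (U a).2 (n a))
    (hcov : ∀ x : X, ∃ a, x ∈ NV u (U a).2 (n a) (f a))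
    (hA : ∀ a, IsAffineOpen (NV u (U a).2 (n a) (f a)) ∧
      ∀ x, x ∈ condSet u (U a).2 (n a) (f a) (NV u (U a).2 (n a) (f a)) (NV_le u _ _ _)) :
    RelProj.domQ u pL chartL = ⊤ ∧ IsImmersion r := by
  have key : ∀ x : X, ∃ a, ∃ V : X.affineOpens, x ∈ V.1 ∧ Nonvanishing u (U a).2 (n a) (f a) V := fun x => by
    obtain ⟨a, ha⟩ := hcov x
    obtain ⟨⟨V, hV⟩, hxV⟩ := Opens.mem_iSup.1 ha
    exact ⟨a, V, hxV, hV⟩
  refine ⟨eq_top_iff.2 fun z _ => ?_, ?_⟩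
  · obtain ⟨a, V, hxV, hV⟩ := key (pL z)
    exact (mem_domQ_of_nonvanishing hL hLq hj u hPL (U a).2 (hnf a).1 (hnf a).2 hV hxV).1
  · have hΩ : r ⁻¹ᵁ (⨆ a, DPlus p chart (U a).2 (f a)) = ⊤ := eq_top_iff.2 fun w _ => by
      obtain ⟨a, V, hxV, hV⟩ := key (pL ((RelProj.domQ u pL chartL).ι w))
      obtain ⟨w', hw', e⟩ :=
        (mem_preimage_basicOpen_iff hL hLq hj u hPL hr (U a).2 hP (hnf a).1 (hnf a).2 _).2 ⟨V, hxV, hV⟩
      obtain rfl := (RelProj.domQ u pL chartL).ι.isOpenEmbedding.injective e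
      exact Opens.mem_iSup.2 ⟨a, hw'⟩
    haveI := prop_restrict_iSup r @IsClosedImmersion (fun a => DPlus p chart (U a).2 (f a)) fun a =>
      (isClosedImmersion_restrict_iff hL hLq hj u hPL hr (U a).2 hP (hnf a).1 (hnf a).2 (hA a).1
        (NV_le u _ _ _) rfl).2 (hA a).2
    obtain ⟨e, he⟩ := eq_comp_restrict r hΩ
    rw [he]
    infer_instance


end Groth.Agent.SymAlg.Rel
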