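import Groth.Agent.SymAlg.VAmpleData
import Groth.Agent.RelProjLib.Map
import Groth.Agent.ProjNoether.CoprodEmb
import Groth.Agent.S8263
import Groth.Agent.RPushQC.SectionsExact

/-!
`P(E) ⨿ P(F)` is a closed subscheme of `P(E ⊕ F)`.
-/

set_option autoImplicit false
set_option backward.isDefEq.respectTransparency false
set_option linter.style.haveILetI false
set_option linter.unusedSectionVars false

universe u

open CategoryTheory CategoryTheory.Limits AlgebraicGeometry TopologicalSpace Opposite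
open scoped HomogeneousIdeal

noncomputable section

namespace Groth.Agent.SymAlg

open Groth.Agent

variable {Y : Scheme.{u}} {E F G : Y.Modules} {𝒯 𝒮 : RelProj.QCGrAlg Y} {jG : G ⟶ 𝒯.toModule}
  {jE : E ⟶ 𝒮.toModule} {π : 𝒯.toQCAlg ⟶ 𝒮.toQCAlg} {a : G ⟶ E}
  (h : jG ≫ RelSpec.QCAlg.Hom.toModuleMap π = a ≫ jE)

include h in
lemma app_jsec (U : Y.Opens) (m : Γ(G, U)) :
    (π.hom.app (op U)).hom (SymAlgGen.jsec jG U m) = SymAlgGen.jsec jE U (a.app U m) :=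
  congr(($h).app U m)

include h in
/-- A morphism of symmetric algebras induced by a surjection on affines is surjective there. -/
lemma surjective_app [E.IsQuasicoherent] (hjE : RelSpec.IsSymAlg E 𝒮.toQCAlg jE) {U : Y.Opens} (hU : IsAffineOpen U)
    (ha : Function.Surjective (a.app U)) : Function.Surjective (π.hom.app (op U)).hom := by
  intro x
  suffices SymAlgGen.gen jE U ≤ (π.hom.app (op U)).hom.range from
    this ((SymAlgGen.gen_eq_top hjE hU).ge (Subring.mem_top x))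
  refine Subring.closure_le.2 ?_
  rintro _ (⟨r, rfl⟩ | ⟨e, rfl⟩)
  · exact ⟨(𝒯.str.app (op U)).hom r, congr(($(NatTrans.congr_app π.comm (op U))).hom r)⟩
  · obtain ⟨m, rfl⟩ := ha e
    exact ⟨SymAlgGen.jsec jG U m, app_jsec h U m⟩

/-- A prime of a symmetric algebra containing the degree one generators contains the irrelevant ideal. -/
lemma irrelevant_le_of_jsec_mem [G.IsQuasicoherent] (hjG : RelProj.IsGrSymAlg G 𝒯 jG) {U : Y.Opens} (hU : IsAffineOpen U)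
    (I : Ideal (𝒯.presheaf.obj (op U))) (hI : ∀ m : Γ(G, U), SymAlgGen.jsec jG U m ∈ I) :
    (𝒯.deg U hU)₊.toIdeal ≤ I := by
  let P0 := GradedRing.projZeroRingHom (𝒯.deg U hU)
  let q := Ideal.Quotient.mk I
  have key : SymAlgGen.gen jG U ≤ RingHom.eqLocus q (q.comp P0) := by
    refine Subring.closure_le.2 ?_
    rintro _ (⟨r, rfl⟩ | ⟨m, rfl⟩)
    · refine congrArg q ?_
      exact (DirectSum.decompose_of_mem_same _ (𝒯.str_mem U hU r)).symm
    · show q _ = q (P0 _)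
      rw [show P0 (SymAlgGen.jsec jG U m) = 0 from
        DirectSum.decompose_of_mem_ne _ (hjG.2 U hU m) one_ne_zero, map_zero]
      exact Ideal.Quotient.eq_zero_iff_mem.2 (hI m)
  intro x hx
  have hx' : q x = q (P0 x) := key ((SymAlgGen.gen_eq_top hjG.1 hU).ge (Subring.mem_top x))
  have h0 : P0 x = 0 := (HomogeneousIdeal.mem_irrelevant_iff _ x).1 hx
  rw [h0, map_zero] at hx'
  exact Ideal.Quotient.eq_zero_iff_mem.1 hx'

theorem isClosedImmersion_coprod_bundle (hEq : Coh.IsQCoh E) (hFq : Coh.IsQCoh F) {PE PF P : Scheme.{u}} {𝒮E 𝒮F : RelProj.QCGrAlg Y}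
    {iE : E ⟶ 𝒮E.toModule} (hjE : RelProj.IsGrSymAlg E 𝒮E iE)
    {iF : F ⟶ 𝒮F.toModule} (hjF : RelProj.IsGrSymAlg F 𝒮F iF)
    {j : E ⊞ F ⟶ 𝒯.toModule} (hj : RelProj.IsGrSymAlg (E ⊞ F) 𝒯 j)
    {πE : 𝒯.toQCAlg ⟶ 𝒮E.toQCAlg} {hπE : RelProj.IsGradedHom πE}
    (hjπE : j ≫ RelSpec.QCAlg.Hom.toModuleMap πE = biprod.fst ≫ iE)
    {πF : 𝒯.toQCAlg ⟶ 𝒮F.toQCAlg} {hπF : RelProj.IsGradedHom πF}
    (hjπF : j ≫ RelSpec.QCAlg.Hom.toModuleMap πF = biprod.snd ≫ iF)
    {hirrE : ∀ (U : Y.Opens) (hU : IsAffineOpen U),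
      (𝒮E.deg U hU)₊ ≤ ((𝒯.deg U hU)₊).map (RelProj.gradedHomAt πE hπE U hU)}
    {hirrF : ∀ (U : Y.Opens) (hU : IsAffineOpen U),
      (𝒮F.deg U hU)₊ ≤ ((𝒯.deg U hU)₊).map (RelProj.gradedHomAt πF hπF U hU)}
    {p : P ⟶ Y} {pE : PE ⟶ Y} {pF : PF ⟶ Y}
    {ch : ∀ (U : Y.Opens) (hU : IsAffineOpen U), ((p ⁻¹ᵁ U : P.Opens) : Scheme.{u}) ≅ Proj (𝒯.deg U hU)}
    {chE : ∀ (U : Y.Opens) (hU : IsAffineOpen U), ((pE ⁻¹ᵁ U : PE.Opens) : Scheme.{u}) ≅ Proj (𝒮E.deg U hU)}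
    {chF : ∀ (U : Y.Opens) (hU : IsAffineOpen U), ((pF ⁻¹ᵁ U : PF.Opens) : Scheme.{u}) ≅ Proj (𝒮F.deg U hU)}
    (hP : RelProj.IsRelProj 𝒯 p ch) (hPE : RelProj.IsRelProj 𝒮E pE chE) (hPF : RelProj.IsRelProj 𝒮F pF chF)
    {hE' : PE ⟶ P} (hhE : RelProj.IsRelProjMap πE hπE hirrE ch chE hE')
    {hF' : PF ⟶ P} (hhF : RelProj.IsRelProjMap πF hπF hirrF ch chF hF') :
    IsClosedImmersion (coprod.desc hE' hF') := by
  haveI : E.IsQuasicoherent := hEq
  haveI : F.IsQuasicoherent := hFq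
  haveI : (E ⊞ F).IsQuasicoherent := RPushQC.isQCoh_biprod hEq hFq
  have sfst : ∀ (U : Y.Opens) (e : Γ(E, U)),
      (biprod.fst : E ⊞ F ⟶ E).app U ((biprod.inl : E ⟶ E ⊞ F).app U e) = e := fun U e =>
    congr(($(biprod.inl_fst (X := E) (Y := F))).app U e)
  have ssnd : ∀ (U : Y.Opens) (e : Γ(F, U)),
      (biprod.snd : E ⊞ F ⟶ F).app U ((biprod.inr : F ⟶ E ⊞ F).app U e) = e := fun U e =>
    congr(($(biprod.inr_snd (X := E) (Y := F))).app U e)
  have z1 : ∀ (U : Y.Opens) (e : Γ(F, U)),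
      (biprod.fst : E ⊞ F ⟶ E).app U ((biprod.inr : F ⟶ E ⊞ F).app U e) = 0 := fun U e =>
    congr(($(biprod.inr_fst (X := E) (Y := F))).app U e)
  have z2 : ∀ (U : Y.Opens) (e : Γ(E, U)),
      (biprod.snd : E ⊞ F ⟶ F).app U ((biprod.inl : E ⟶ E ⊞ F).app U e) = 0 := fun U e =>
    congr(($(biprod.inl_snd (X := E) (Y := F))).app U e)
  haveI : IsClosedImmersion hE' := Groth.Agent.S8263.result πE hπE
    (fun U hU => surjective_app hjπE hjE.1 hU fun e => ⟨_, sfst U e⟩) hirrE p pE ch chE hP hPE hE' hhE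
  haveI : IsClosedImmersion hF' := Groth.Agent.S8263.result πF hπF
    (fun U hU => surjective_app hjπF hjF.1 hU fun e => ⟨_, ssnd U e⟩) hirrF p pF ch chF hP hPF hF' hhF
  refine ProjNoether.isClosedImmersion_desc hE' hF' (Set.disjoint_left.2 ?_)
  rintro w ⟨x, rfl⟩ ⟨y, hxy⟩
  obtain ⟨U, hU, hxU, -⟩ := exists_isAffineOpen_mem_and_subset (x := pE.base x) (U := ⊤) trivial
  have hE'p := RelProjLib.relProjMap_over hP hPE hhE
  have hF'p := RelProjLib.relProjMap_over hP hPF hhF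
  have hyU : pF.base y ∈ U := by
    rw [← hF'p, Scheme.Hom.comp_apply, hxy, ← Scheme.Hom.comp_apply, hE'p]
    exact hxU
  obtain ⟨x', hx'⟩ := RelTilde.exists_point (q := pE) (ch := chE) U hU (x := x) hxU
  obtain ⟨y', hy'⟩ := RelTilde.exists_point (q := pF) (ch := chF) U hU (x := y) hyU
  have hx'' := congr(($((RelProjLib.isRelProjMap_iff hE').mp hhE U hU)).base x')
  have hy'' := congr(($((RelProjLib.isRelProjMap_iff hF').mp hhF U hU)).base y')
  simp only [Scheme.Hom.comp_base, TopCat.hom_comp, ContinuousMap.comp_apply] at hx'' hy''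
  rw [hx'] at hx''
  rw [hy', hxy, hx''] at hy''
  have hpt := (RelProj.emb p ch U hU).isOpenEmbedding.injective hy''
  let xp : ProjectiveSpectrum (𝒮E.deg U hU) := x'
  let yp : ProjectiveSpectrum (𝒮F.deg U hU) := y'
  have hpt' : ProjectiveSpectrum.comap (RelProj.gradedHomAt πE hπE U hU) (hirrE U hU) xp =
      ProjectiveSpectrum.comap (RelProj.gradedHomAt πF hπF U hU) (hirrF U hU) yp := hpt
  let I := (ProjectiveSpectrum.comap (RelProj.gradedHomAt πE hπE U hU) (hirrE U hU) xp).asHomogeneousIdeal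
  have hI : ∀ m : Γ(E ⊞ F, U), SymAlgGen.jsec j U m ∈ I.toIdeal := fun m => by
    have e1 : ∀ e : Γ(E, U), SymAlgGen.jsec j U ((biprod.inl : E ⟶ E ⊞ F).app U e) ∈ I.toIdeal := fun e => by
      simp only [I, hpt']
      show (πF.hom.app (op U)).hom _ ∈ yp.asHomogeneousIdeal
      rw [app_jsec hjπF, z2]
      simp [SymAlgGen.jsec]
    have e2 : ∀ e : Γ(F, U), SymAlgGen.jsec j U ((biprod.inr : F ⟶ E ⊞ F).app U e) ∈ I.toIdeal := fun e => by
      show (πE.hom.app (op U)).hom _ ∈ xp.asHomogeneousIdeal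
      rw [app_jsec hjπE, z1]
      simp [SymAlgGen.jsec]
    have hm : m = (biprod.inl : E ⟶ E ⊞ F).app U ((biprod.fst : E ⊞ F ⟶ E).app U m) +
        (biprod.inr : F ⟶ E ⊞ F).app U ((biprod.snd : E ⊞ F ⟶ F).app U m) :=
      (congr(($(biprod.total (X := E) (Y := F))).app U m)).symm
    rw [hm, show ∀ a b, SymAlgGen.jsec j U (a + b) = SymAlgGen.jsec j U a + SymAlgGen.jsec j U b from
      fun a b => map_add (j.app U).hom a b]
    exact I.toIdeal.add_mem (e1 _) (e2 _)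
  exact (ProjectiveSpectrum.comap (RelProj.gradedHomAt πE hπE U hU) (hirrE U hU) xp).not_irrelevant_le
    (irrelevant_le_of_jsec_mem hj hU I.toIdeal hI)

end Groth.Agent.SymAlg
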