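import Groth.Agent.SymAlg.BundleCrit
import Groth.Agent.RelTilde.ProjMap
import Groth.Agent.RelTilde.ScalarExt
import Groth.Agent.RelProjLib.QMap

/-!
The canonical morphism of an invertible module `L` on `X` into `P(q_* L)` over `Y`, and the inverse
image of `O(1)` along it.
-/

set_option autoImplicit false
set_option backward.isDefEq.respectTransparency false
set_option linter.style.haveILetI false
set_option linter.unusedSectionVars false

universe u

open CategoryTheory CategoryTheory.Limits DirectSum AlgebraicGeometry TopologicalSpace Opposite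
open scoped HomogeneousIdeal
open Groth.Agent.QC (res resO res_res res_self res_smul app_res)

noncomputable section

namespace Groth.Agent.SymAlg

open Groth.Agent
open TMul (IsGen)

variable {X Y P PL : Scheme.{u}} {q : X ⟶ Y} {L : X.Modules} (hL : PicF.IsInvertible L)
  (hLq : Coh.IsQCoh L) (hF : Coh.IsQCoh ((Scheme.Modules.pushforward q).obj L)) {𝒮 : RelProj.QCGrAlg Y}
  {jF : (Scheme.Modules.pushforward q).obj L ⟶ 𝒮.toModule}
  (hjF : RelProj.IsGrSymAlg ((Scheme.Modules.pushforward q).obj L) 𝒮 jF)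
  {𝒮L : RelProj.QCGrAlg X} {jl : L ⟶ 𝒮L.toModule} (hjl : RelProj.IsGrSymAlg L 𝒮L jl)

/-- A section over the inverse image in the algebra of `q_* L`. -/
abbrev jFs (jF : (Scheme.Modules.pushforward q).obj L ⟶ 𝒮.toModule) (U : Y.Opens)
    (m : Γ(L, q ⁻¹ᵁ U)) : 𝒮.presheaf.obj (op U) :=
  jF.app U (show Γ((Scheme.Modules.pushforward q).obj L, U) from m)

/-- `u` extends `L = L`. -/
def IsCanon (jF : (Scheme.Modules.pushforward q).obj L ⟶ 𝒮.toModule) (jl : L ⟶ 𝒮L.toModule)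
    (u : RelProj.QGrHom q 𝒮 𝒮L) : Prop :=
  ∀ (U : Y.Opens), IsAffineOpen U → ∀ m : Γ(L, q ⁻¹ᵁ U),
    (u.app U).hom (jFs jF U m) = jL jl (q ⁻¹ᵁ U) m

include hF hjF hjl in
/-- The canonical graded morphism `Sym(q_* L) ⟶ q_* Sym L`. -/
theorem exists_canon : ∃ u : RelProj.QGrHom q 𝒮 𝒮L, IsCanon jF jl u := by
  let F := (Scheme.Modules.pushforward q).obj L
  haveI : F.IsQuasicoherent := hF
  let adj := Scheme.Modules.pullbackPushforwardAdjunction q
  let ν : (Scheme.Modules.pullback q).obj F ⟶ L := (adj.homEquiv F L).symm (𝟙 F)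
  have hν : ∀ (W : Y.Opens) (m : Γ(F, W)), ν.app (q ⁻¹ᵁ W) (OmegaSh.pullSect q F W m) = m := fun W m => by
    have h1 : (adj.unit.app F ≫ (Scheme.Modules.pushforward q).map ν) = 𝟙 F :=
      (adj.homEquiv_unit F L ν).symm.trans (Equiv.apply_symm_apply _ _)
    exact congr(($h1).app W m)
  obtain ⟨u, hu⟩ := exists_qHom q (ν ≫ jl) hF hjF.1
  have hu' : ∀ (U : Y.Opens), IsAffineOpen U → ∀ m : Γ(L, q ⁻¹ᵁ U),
      (u.app U).hom (jFs jF U m) = jL jl (q ⁻¹ᵁ U) m := fun U hU m =>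
    (hu U hU m).trans (congrArg (jL jl (q ⁻¹ᵁ U)) (hν U m))
  refine ⟨{ toQHom := u, map_mem := fun U hU U' hU' hle {d x} hx => ?_ }, hu'⟩
  refine map_mem_of_gen (𝒮.deg U hU) (𝒮L.deg U' hU') (u.appLE U U' hle).hom
    (SymAlgGen.gen_eq_top hjF.1 hU) ?_ hx
  rintro _ (⟨r, rfl⟩ | ⟨m, rfl⟩)
  · refine ⟨0, 𝒮.str_mem U hU r, ?_⟩
    have h : (u.appLE U U' hle).hom ((𝒮.str.app (op U)).hom r) =
        (𝒮L.str.app (op U')).hom ((q.appLE U U' hle).hom r) :=
      congr(($(u.str_appLE U U' hle)).hom r)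
    change (u.appLE U U' hle).hom ((𝒮.str.app (op U)).hom r) ∈ _
    rw [h]
    exact 𝒮L.str_mem U' hU' _
  · refine ⟨1, hjF.2 U hU m, ?_⟩
    have h : (u.appLE U U' hle).hom (SymAlgGen.jsec jF U m) = jL jl U' (res L hle m) := by
      rw [RelSpec.QHom.appLE_eq, CommRingCat.hom_comp, RingHom.comp_apply]
      exact (congrArg _ (hu' U hU m)).trans (app_res jl hle _)
    rw [h]
    exact jL_mem hjl hU' _

variable {u : RelProj.QGrHom q 𝒮 𝒮L} (hu : IsCanon jF jl u)

include hu in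
lemma appLE_jFs (U : Y.Opens) (hU : IsAffineOpen U) {U' : X.Opens} (h : U' ≤ q ⁻¹ᵁ U)
    (m : Γ(L, q ⁻¹ᵁ U)) : (u.appLE U U' h).hom (jFs jF U m) = jL jl U' (res L h m) := by
  rw [RelSpec.QHom.appLE_eq, CommRingCat.hom_comp, RingHom.comp_apply]
  exact (congrArg _ (hu U hU m)).trans (app_res jl h _)

variable (q L) in
/-- Affine pairs on which a section of `q_* L` generates `L`. -/
structure GenPair where
  U : Y.Opens
  hU : IsAffineOpen U
  U' : X.Opens
  hU' : IsAffineOpen U'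
  le : U' ≤ q ⁻¹ᵁ U
  m : Γ(L, q ⁻¹ᵁ U)
  gen : IsGen (res L le m)

include hLq hjF hjl hu in
lemma hirr_genPair (c : GenPair q L) :
    (𝒮L.deg c.U' c.hU')₊ ≤ ((𝒮.deg c.U c.hU)₊).map (u.gradedAt c.U c.hU c.U' c.hU' c.le) := by
  intro b hb
  obtain ⟨a, rfl⟩ := Ideal.mem_span_singleton'.mp (irrelevant_le_span hLq hjl c.hU' c.gen hb)
  change a * _ ∈ Ideal.map (u.gradedAt c.U c.hU c.U' c.hU' c.le) ((𝒮.deg c.U c.hU)₊).toIdeal
  refine Ideal.mul_mem_left _ a ?_
  rw [← appLE_jFs hu c.U c.hU c.le c.m]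
  refine Ideal.mem_map_of_mem _ ?_
  exact HomogeneousIdeal.mem_irrelevant_of_mem _ one_pos (hjF.2 c.U c.hU c.m)

variable {p : P ⟶ Y}
  {ch : ∀ (U : Y.Opens) (hU : IsAffineOpen U), ((p ⁻¹ᵁ U : P.Opens) : Scheme.{u}) ≅ Proj (𝒮.deg U hU)}
  (hP : RelProj.IsRelProj 𝒮 p ch)
  {pL : PL ⟶ X}
  {chartL : ∀ (U : X.Opens) (hU : IsAffineOpen U), ((pL ⁻¹ᵁ U : PL.Opens) : Scheme.{u}) ≅ Proj (𝒮L.deg U hU)}
  (hPL : RelProj.IsRelProj 𝒮L pL chartL)
  {r : ((RelProj.domQ u pL chartL : PL.Opens) : Scheme.{u}) ⟶ P}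
  (hr : RelProj.IsProjQMapOn u p ch pL chartL (RelProj.domQ u pL chartL) r)
  (hcov : ∀ x : X, ∃ c : GenPair q L, x ∈ c.U')

include hr in
lemma isProjQMap_inv (htop : RelProj.domQ u pL chartL = ⊤) [IsIso (RelProj.domQ u pL chartL).ι] :
    RelProj.IsProjQMap u p ch pL chartL (inv (RelProj.domQ u pL chartL).ι ≫ r) := by
  refine ⟨htop, fun U hU U' hU' hle d hd f hf => ?_⟩
  let c : RelProjLib.Idx (g := q) (𝒮 := 𝒮) := ⟨U, hU, U', hU', hle, d, hd, f, hf⟩
  have hs : RelProjLib.src u pL chartL c ≫ inv (RelProj.domQ u pL chartL).ι =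
      RelProjLib.srcLift u pL chartL c := by
    rw [IsIso.comp_inv_eq, RelProjLib.srcLift_ι]
  have h2 : RelProjLib.src u pL chartL c ≫ inv (RelProj.domQ u pL chartL).ι ≫ r =
      RelProjLib.tgt u p ch c := by
    rw [← Category.assoc, hs]
    exact (RelProjLib.isProjQMapOn_iff u r).mp hr c
  exact h2

set_option maxHeartbeats 1600000 in
include hL hLq hF hjF hjl hu hP hPL hr hcov in
/-- The inverse image of `O(1)` along the canonical morphism is `L`. -/
theorem nonempty_pullback_twist_iso (htop : RelProj.domQ u pL chartL = ⊤) [IsIso pL]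
    [IsIso (RelProj.domQ u pL chartL).ι] {O1 : P.Modules}
    {lam : ∀ (U : Y.Opens) (hU : IsAffineOpen U), O1 ⟶ (RelTilde.Datum.self 𝒮).E p ch 1 U hU}
    (hO1 : (RelTilde.Datum.self 𝒮).IsTilde p ch 1 O1 lam) :
    Nonempty (L ≅ (Scheme.Modules.pullback
      (inv pL ≫ inv (RelProj.domQ u pL chartL).ι ≫ r)).obj O1) := by
  haveI : ((Scheme.Modules.pushforward q).obj L).IsQuasicoherent := hF
  let g := inv (RelProj.domQ u pL chartL).ι ≫ r
  have hg := isProjQMap_inv hr htop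
  let C : RelTilde.ChartMap (RelTilde.Datum.self 𝒮) (RelTilde.Datum.self 𝒮L) p pL ch chartL g :=
    { ι := GenPair q L
      U := fun c => c.U
      U' := fun c => c.U'
      hU := fun c => c.hU
      hU' := fun c => c.hU'
      cover := fun z => by
        obtain ⟨c, hc⟩ := hcov (pL.base z)
        exact ⟨c, hc⟩
      χ := fun c => u.gradedAt c.U c.hU c.U' c.hU' c.le
      hirr := fun c => hirr_genPair hLq hjF hjl hu c
      v := fun c => RelTilde.ringHomSemilinear (u.gradedAt c.U c.hU c.U' c.hU' c.le)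
      hv := fun c => RelTilde.ringHomSemilinear_mem _
      square := fun c => by
        refine (Proj.mapAffineOpenCover (u.gradedAt c.U c.hU c.U' c.hU' c.le)
          (hirr_genPair hLq hjF hjl hu c)).openCover.hom_ext _ _ fun s => ?_
        simp only [Scheme.AffineOpenCover.openCover_f, Proj.mapAffineOpenCover_f]
        rw [Proj.awayι_comp_map_assoc _ _ s.1.2 _ s.2.2]
        refine Eq.trans ?_ (hg.2 c.U c.hU c.U' c.hU' c.le s.1 s.1.2 _ s.2.2)
        rw [← Category.assoc]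
        rfl
      natRing := fun c k b b' a => by
        change (u.appLE c.U c.U' c.le ≫ 𝒮L.presheaf.map (homOfLE b'.le).op).hom a =
          (𝒮.presheaf.map (homOfLE b.le).op ≫ u.appLE k.U k.U' k.le).hom a
        rw [u.toQHom.appLE_map, RelSpec.QHom.appLE_eq, RelSpec.QHom.appLE_eq, ← Category.assoc,
          ← u.naturality b.le, Category.assoc, ← Functor.map_comp]
        rfl
      natMod := fun c k b b' a => by
        change (u.appLE c.U c.U' c.le ≫ 𝒮L.presheaf.map (homOfLE b'.le).op).hom a =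
          (𝒮.presheaf.map (homOfLE b.le).op ≫ u.appLE k.U k.U' k.le).hom a
        rw [u.toQHom.appLE_map, RelSpec.QHom.appLE_eq, RelSpec.QHom.appLE_eq, ← Category.assoc,
          ← u.naturality b.le, Category.assoc, ← Functor.map_comp]
        rfl
      common := fun c k O hO bc bk x hx => by
        obtain ⟨t, t', htt', hxt⟩ := exists_basicOpen_le_affine_inter c.hU k.hU (q.base (pL.base x))
          ⟨c.le (bc.le hx), k.le (bk.le hx)⟩
        obtain ⟨s, hs, hxs⟩ := hO.exists_basicOpen_le (V := q ⁻¹ᵁ Y.basicOpen t) ⟨pL.base x, hxt⟩ hx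
        refine ⟨⟨Y.basicOpen t, c.hU.basicOpen t, X.basicOpen s, hO.basicOpen s, hs,
          res L (q.preimage_mono (Y.basicOpen_le t)) c.m, ?_⟩, hxs,
          RelTilde.isB_basicOpen t, ⟨t', htt'.symm⟩, RelTilde.isB_basicOpen s⟩
        rw [res_res]
        have h := c.gen.res ((X.basicOpen_le s).trans bc.le)
        rwa [res_res] at h }
  obtain ⟨L₁, lam₁, hL₁⟩ := (RelTilde.Datum.self 𝒮L).exists_isTilde hPL (1 : ℤ)
  obtain ⟨θ, hθ, -⟩ := C.existsUnique_comap 1 hP hPL hO1 hL₁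
  have hgen : 𝒮.IsGenDegOne := fun U hU => by
    refine top_le_iff.mp ?_
    rw [← SymAlgGen.gen_eq_top hjF.1 hU]
    refine Subring.closure_mono ?_
    rintro _ (⟨a, rfl⟩ | ⟨m, rfl⟩)
    · exact Or.inl (𝒮.str_mem U hU a)
    · exact Or.inr (hjF.2 U hU m)
  haveI : IsIso (((Scheme.Modules.pullbackPushforwardAdjunction g).homEquiv O1 L₁).symm θ) :=
    C.isIso_adjunct_comap 1 (fun _ _ => rfl) hgen hO1 hL₁ θ hθ
  obtain ⟨φ, hφ⟩ := exists_isFund hjl hPL hL₁
  haveI : IsIso (((Scheme.Modules.pullbackPushforwardAdjunction pL).homEquiv L L₁).symm φ) := by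
    refine RelTilde.isIso_adjunct pL φ hLq hL₁.isQCoh fun z => ?_
    obtain ⟨U, hU, e, hxU, -, he⟩ := exists_triv hL (O := ⊤) (x := pL.base z) trivial
    refine ⟨U, hU, pL ⁻¹ᵁ U, hU.preimage pL, le_rfl, hxU,
      RelTilde.isBC_of_isGen pL φ le_rfl e he ?_⟩
    exact isGen_fund hjl hL₁ hφ U hU e le_rfl
      (le_top.trans (basicOpen_gen_eq_top hLq hjl hU he).ge)
  refine ⟨?_⟩
  exact ((Scheme.Modules.pullbackId X).app L).symm ≪≫
    (Scheme.Modules.pullbackCongr (IsIso.inv_hom_id pL).symm).app L ≪≫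
    ((Scheme.Modules.pullbackComp (inv pL) pL).app L).symm ≪≫
    (Scheme.Modules.pullback (inv pL)).mapIso
      (asIso (((Scheme.Modules.pullbackPushforwardAdjunction pL).homEquiv L L₁).symm φ) ≪≫
        (asIso (((Scheme.Modules.pullbackPushforwardAdjunction g).homEquiv O1 L₁).symm θ)).symm) ≪≫
    (Scheme.Modules.pullbackComp (inv pL) g).app O1

end Groth.Agent.SymAlg
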