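import Groth.Prelude.Def_RelProj2
import Groth.Agent.SymAlg.Exists
import Groth.Agent.RelProjLib.Basic
import Groth.Agent.TMul.Power
import Mathlib.Algebra.Polynomial.Eval.Coeff

/-!
The graded symmetric algebra of an invertible module and its relative Proj.
-/

set_option autoImplicit false
set_option backward.isDefEq.respectTransparency false
set_option linter.style.haveILetI false

universe u

open CategoryTheory CategoryTheory.Limits AlgebraicGeometry TopologicalSpace Opposite Polynomial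
  HomogeneousLocalization
open AlgebraicGeometry.Scheme.AffineZariskiSite
open scoped HomogeneousIdeal

noncomputable section

namespace Groth.Agent.SymAlg

open Groth.Agent TMul

variable {X : Scheme.{u}} {L : X.Modules} (hLq : Coh.IsQCoh L) {𝒮L : RelProj.QCGrAlg X}
  {j : L ⟶ 𝒮L.toModule} (hj : RelProj.IsGrSymAlg L 𝒮L j)

/-- The structure map on sections. -/
abbrev strL (𝒮L : RelProj.QCGrAlg X) (U : X.Opens) : Γ(X, U) →+* 𝒮L.presheaf.obj (op U) :=
  (𝒮L.str.app (op U)).hom

/-- A section of the module in the algebra. -/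
def jL (j : L ⟶ 𝒮L.toModule) (U : X.Opens) (e : Γ(L, U)) : 𝒮L.presheaf.obj (op U) :=
  j.app U e

/-- Restriction in the algebra. -/
abbrev resL (𝒮L : RelProj.QCGrAlg X) {V U : X.Opens} (h : V ≤ U) :
    𝒮L.presheaf.obj (op U) →+* 𝒮L.presheaf.obj (op V) :=
  (𝒮L.presheaf.map (homOfLE h).op).hom

lemma resL_strL {V U : X.Opens} (h : V ≤ U) (c : Γ(X, U)) :
    resL 𝒮L h (strL 𝒮L U c) = strL 𝒮L V (QC.resO X h c) :=
  congr($(𝒮L.str.naturality (homOfLE h).op) c).symm

lemma resL_jL {V U : X.Opens} (h : V ≤ U) (e : Γ(L, U)) :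
    resL 𝒮L h (jL j U e) = jL j V (QC.res L h e) :=
  QC.app_res j h e

lemma resL_resL {W V U : X.Opens} (h : W ≤ V) (h' : V ≤ U) (a : 𝒮L.presheaf.obj (op U)) :
    resL 𝒮L h (resL 𝒮L h' a) = resL 𝒮L (h.trans h') a := by
  simp only [resL, ← CommRingCat.comp_apply, ← Functor.map_comp]
  rfl

lemma isGen_res {U V : X.Opens} (h : V ≤ U) {e : Γ(L, U)} (he : IsGen e) :
    IsGen (QC.res L h e) := fun W hW => by
  simp only [QC.res_res]
  exact he W (hW.trans h)

/-- Evaluation at a section. -/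
abbrev evalL (j : L ⟶ 𝒮L.toModule) (U : X.Opens) (e : Γ(L, U)) :
    Γ(X, U)[X] →+* 𝒮L.presheaf.obj (op U) :=
  Polynomial.eval₂RingHom (strL 𝒮L U) (jL j U e)

include hj in
lemma jL_mem {U : X.Opens} (hU : IsAffineOpen U) (e : Γ(L, U)) :
    jL j U e ∈ 𝒮L.deg U hU 1 := hj.2 U hU e

section gen

variable {U : X.Opens} (hU : IsAffineOpen U) {e : Γ(L, U)} (he : IsGen e)

include hLq hj hU he

/-- Over an affine open with a generator the algebra is a polynomial ring. -/
theorem evalL_bijective : Function.Bijective (evalL j U e) := by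
  obtain ⟨γ, hγ, hjγ⟩ := exists_affineIso hLq hj.1
  let W : X.AffineZariskiSite := ⟨U, hU⟩
  let co : Γ(L, U) ≃ₗ[Γ(X, U)] Γ(X, U) := (coeffEquiv he le_rfl).symm
  have hco : ∀ m, co m • e = m := fun m => by
    conv_rhs => rw [← (coeffEquiv he le_rfl).apply_symm_apply m]
    exact congrArg _ (QC.res_self L le_rfl e).symm
  let θ : symObj L U →+* Γ(X, U)[X] :=
    symLift Polynomial.C
      (AddMonoidHom.mk' (fun m => Polynomial.C (co m) * Polynomial.X)
        (fun a b => by rw [map_add, map_add, add_mul]))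
      (fun r m => by
        change Polynomial.C (co (r • m)) * _ = _ * (Polynomial.C (co m) * _)
        rw [map_smul, smul_eq_mul, map_mul, mul_assoc])
  let Φ := evalL j U e
  let g : 𝒮L.presheaf.obj (op U) →+* symObj L U := CommRingCat.Hom.hom (γ.hom.app (op W))
  have hstr : ∀ r, g (strL 𝒮L U r) = algebraMap _ (symObj L U) r :=
    fun r => congr($(NatTrans.congr_app hγ (op W)) r)
  have hjm : ∀ m, g (jL j U m) =
      SymmetricAlgebra.ι Γ(X, U) Γ(L, U) m := fun m =>
    (congrArg _ (hjγ W m)).trans ((γ.app (op W)).inv_hom_id_apply _)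
  have h1 : ∀ x : symObj L U, g (Φ (θ x)) = x :=
    RingHom.congr_fun (f := (g.comp Φ).comp θ) (g := RingHom.id _)
      (symHom_ext (fun r => by simp [θ, Φ, hstr]) (fun m => by
        simp only [θ, RingHom.comp_apply, symLift_ι, AddMonoidHom.mk'_apply, RingHom.id_apply, Φ,
          Polynomial.coe_eval₂RingHom, Polynomial.eval₂_mul, Polynomial.eval₂_C, Polynomial.eval₂_X]
        rw [map_mul, hstr, hjm, ← Algebra.smul_def, ← map_smul, hco]))
  have hinj : Function.Injective g :=
    (ConcreteCategory.bijective_of_isIso (γ.hom.app (op W))).1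
  have hco1 : co e = 1 := by
    rw [show co = (coeffEquiv he le_rfl).symm from rfl, LinearEquiv.symm_apply_eq]
    exact ((one_smul _ _).trans (QC.res_self L le_rfl e)).symm
  have h2 : ∀ p, θ (g (Φ p)) = p :=
    RingHom.congr_fun (f := (θ.comp g).comp Φ) (g := RingHom.id _)
      (Polynomial.ringHom_ext (fun r => by simp [θ, Φ, hstr]) (by simp [θ, Φ, hjm, hco1]))
  exact ⟨fun p q h => by rw [← h2 p, h, h2], fun a => ⟨θ (g a), hinj (h1 _)⟩⟩

omit hLq he in
lemma mem_deg_mul_pow (c : Γ(X, U)) (n : ℕ) :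
    strL 𝒮L U c * jL j U e ^ n ∈ 𝒮L.deg U hU n := by
  have := SetLike.mul_mem_graded (A := 𝒮L.deg U hU) (𝒮L.str_mem U hU c)
    (SetLike.pow_mem_graded n (jL_mem hj hU e))
  simpa using this

omit he in
lemma decompose_evalL (n : ℕ) (p : Γ(X, U)[X]) :
    (DirectSum.decompose (𝒮L.deg U hU) (evalL j U e p) n : 𝒮L.presheaf.obj (op U)) =
      strL 𝒮L U (p.coeff n) * jL j U e ^ n := by
  classical
  induction p using Polynomial.induction_on' with
  | add p q hp hq =>
    rw [map_add, DirectSum.decompose_add, DirectSum.add_apply, AddMemClass.coe_add, hp, hq,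
      Polynomial.coeff_add, map_add, add_mul]
  | monomial k c =>
    rw [show evalL j U e (Polynomial.monomial k c) = strL 𝒮L U c * jL j U e ^ k from
      Polynomial.eval₂_monomial _ _, Polynomial.coeff_monomial]
    split_ifs with h
    · subst h
      exact DirectSum.decompose_of_mem_same _ (mem_deg_mul_pow hj hU c k)
    · rw [DirectSum.decompose_of_mem_ne _ (mem_deg_mul_pow hj hU c k) h, map_zero, zero_mul]

lemma exists_coeff {n : ℕ} {x : 𝒮L.presheaf.obj (op U)} (hx : x ∈ 𝒮L.deg U hU n) :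
    ∃ c, x = strL 𝒮L U c * jL j U e ^ n := by
  obtain ⟨p, rfl⟩ := (evalL_bijective hLq hj hU he).2 x
  exact ⟨p.coeff n, (DirectSum.decompose_of_mem_same _ hx).symm.trans (decompose_evalL hLq hj hU n p)⟩

lemma coeff_inj {n : ℕ} {c c' : Γ(X, U)}
    (h : strL 𝒮L U c * jL j U e ^ n = strL 𝒮L U c' * jL j U e ^ n) : c = c' := by
  have := (evalL_bijective hLq hj hU he).1 (a₁ := Polynomial.monomial n c)
    (a₂ := Polynomial.monomial n c') (by simpa [Polynomial.eval₂_monomial] using! h)
  simpa using congrArg (fun p => Polynomial.coeff p n) this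

lemma irrelevant_le_span : (𝒮L.deg U hU)₊.toIdeal ≤ Ideal.span {jL j U e} := by
  change (𝒮L.deg U hU)₊.toIdeal ≤ _
  rw [HomogeneousIdeal.toIdeal_irrelevant_le]
  intro i hi x hx
  obtain ⟨c, rfl⟩ := exists_coeff hLq hj hU he hx
  exact Ideal.mul_mem_left _ _ (Ideal.pow_mem_of_mem _ (Ideal.mem_span_singleton_self _) _ hi)

lemma not_mem (y : Proj (𝒮L.deg U hU)) : jL j U e ∉ y.asHomogeneousIdeal := fun h =>
  y.not_irrelevant_le ((irrelevant_le_span hLq hj hU he).trans (by
    rw [Ideal.span_singleton_le_iff_mem]; exact h))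

lemma basicOpen_gen_eq_top : Proj.basicOpen (𝒮L.deg U hU) (jL j U e) = ⊤ :=
  eq_top_iff.mpr fun y _ => not_mem hLq hj hU he y

lemma awayHom_bijective :
    Function.Bijective ((fromZeroRingHom (𝒮L.deg U hU) (Submonoid.powers (jL j U e))).comp
      (𝒮L.strZero U hU).hom) := by
  have hE := jL_mem hj hU e
  refine ⟨fun c c' h => ?_, fun x => ?_⟩
  · have h' : (Localization.mk (strL 𝒮L U c) 1 : Localization (Submonoid.powers (jL j U e))) =
        Localization.mk (strL 𝒮L U c') 1 := congrArg HomogeneousLocalization.val h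
    rw [Localization.mk_eq_mk_iff, Localization.r_iff_exists] at h'
    obtain ⟨⟨_, k, rfl⟩, hk⟩ := h'
    refine coeff_inj hLq hj hU he (n := k) ?_
    simpa [mul_comm] using! hk
  · obtain ⟨n, a, ha, rfl⟩ := Away.mk_surjective (𝒮L.deg U hU) hE x
    obtain ⟨c, rfl⟩ := exists_coeff hLq hj hU he (n := n) (by simpa using ha)
    refine ⟨c, HomogeneousLocalization.val_injective _ ?_⟩
    rw [Away.val_mk]
    change (Localization.mk (strL 𝒮L U c) 1 : Localization (Submonoid.powers (jL j U e))) = _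
    rw [Localization.mk_eq_mk_iff, Localization.r_iff_exists]
    exact ⟨1, by simp [mul_comm]⟩

/-- The chart `Spec O(U) = Proj`. -/
lemma awayι_affBase :
    Proj.awayι (𝒮L.deg U hU) (jL j U e) (jL_mem hj hU e) Nat.one_pos ≫
        RelProjLib.affBase 𝒮L U hU =
      Spec.map (CommRingCat.ofHom ((fromZeroRingHom (𝒮L.deg U hU)
        (Submonoid.powers (jL j U e))).comp (𝒮L.strZero U hU).hom)) := by
  rw [RelProjLib.affBase_eq, Proj.awayι_toSpecZero_assoc, ← Spec.map_comp]
  rfl

lemma isIso_affBase : IsIso (RelProjLib.affBase 𝒮L U hU) := by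
  haveI : IsIso (Proj.awayι (𝒮L.deg U hU) (jL j U e) (jL_mem hj hU e) Nat.one_pos) := by
    refine isIso_of_isOpenImmersion_of_opensRange_eq_top _ ?_
    rw [Proj.opensRange_awayι, basicOpen_gen_eq_top hLq hj hU he]
  haveI : IsIso (CommRingCat.ofHom ((fromZeroRingHom (𝒮L.deg U hU)
      (Submonoid.powers (jL j U e))).comp (𝒮L.strZero U hU).hom)) :=
    (ConcreteCategory.isIso_iff_bijective _).mpr (awayHom_bijective hLq hj hU he)
  haveI : IsIso (Proj.awayι (𝒮L.deg U hU) (jL j U e) (jL_mem hj hU e) Nat.one_pos ≫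
      RelProjLib.affBase 𝒮L U hU) := by
    rw [awayι_affBase hLq hj hU he]; infer_instance
  exact IsIso.of_isIso_comp_left (Proj.awayι (𝒮L.deg U hU) (jL j U e) (jL_mem hj hU e) Nat.one_pos) _

lemma mem_basicOpen_iff_affBase {n : ℕ} (hn : 0 < n) (c : Γ(X, U)) (y : Proj (𝒮L.deg U hU)) :
    y ∈ Proj.basicOpen (𝒮L.deg U hU) (strL 𝒮L U c * jL j U e ^ n) ↔
      RelProjLib.affBase 𝒮L U hU y ∈ PrimeSpectrum.basicOpen c := by
  obtain ⟨a, rfl⟩ : y ∈ (Proj.awayι (𝒮L.deg U hU) (jL j U e) (jL_mem hj hU e) Nat.one_pos).opensRange := by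
    rw [Proj.opensRange_awayι, basicOpen_gen_eq_top hLq hj hU he]; trivial
  rw [← Scheme.Hom.comp_apply, awayι_affBase hLq hj hU he]
  change a ∈ Proj.awayι (𝒮L.deg U hU) (jL j U e) (jL_mem hj hU e) Nat.one_pos ⁻¹ᵁ
    Proj.basicOpen (𝒮L.deg U hU) (strL 𝒮L U c * jL j U e ^ n) ↔ _
  rw [Proj.awayι_preimage_basicOpen (𝒮L.deg U hU) (jL_mem hj hU e) Nat.one_pos
    (mem_deg_mul_pow hj hU c n) hn]
  have : Away.isLocalizationElem (jL_mem hj hU e) (mem_deg_mul_pow (e := e) hj hU c n) =
      (fromZeroRingHom (𝒮L.deg U hU) (Submonoid.powers (jL j U e))) ((𝒮L.strZero U hU).hom c) := by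
    refine HomogeneousLocalization.val_injective _ ?_
    simp only [Away.isLocalizationElem, Away.val_mk]
    change _ = (Localization.mk (strL 𝒮L U c) 1 : Localization (Submonoid.powers (jL j U e)))
    rw [Localization.mk_eq_mk_iff, Localization.r_iff_exists]
    exact ⟨1, by simp [mul_comm]⟩
  rw [this]
  rfl

end gen

end Groth.Agent.SymAlg
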