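import Groth.Agent.SymAlg.Segre2
import Groth.Agent.ProjMor.Segre
import Groth.Agent.SymAlg.VAmplePn

/-!
Very ampleness relative to projective space from global sections generating the degree-one part.
-/

set_option autoImplicit false
set_option backward.isDefEq.respectTransparency false
set_option linter.style.haveILetI false
set_option linter.unusedSectionVars false

universe u

open CategoryTheory CategoryTheory.Limits DirectSum AlgebraicGeometry TopologicalSpace Opposite
open scoped HomogeneousIdeal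
open Groth.Agent.QC (res resO res_res res_self res_smul app_res)

noncomputable section

namespace Groth.Agent.SymAlg

open Groth.Agent
open TMul (IsGen tm homOf val val_homOf)

variable {X Y : Scheme.{u}} {q : X ⟶ Y}

section Crit

/-- The functions on `W` generated by the base and the ratios of the sections. -/
def ratioRing {A : X.Modules} {ι : Type u} (τ : ι → Γ(A, ⊤)) (U : Y.Opens) (k : ι) (W : X.Opens)
    (h : W ≤ q ⁻¹ᵁ U) : Subring Γ(X, W) :=
  Subring.closure (Set.range (q.appLE U W h).hom ∪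
    {c | ∃ l, c • res A (le_top : W ≤ ⊤) (τ k) = res A (le_top : W ≤ ⊤) (τ l)})

set_option maxHeartbeats 1600000 in
/-- Sections whose ratios give the functions on an affine cover define an immersion into `P^n_Y`. -/
theorem isRelVeryAmplePn_of_ratios {A : X.Modules} (hA : PicF.IsInvertible A) {ι : Type u} [Fintype ι]
    (τ : ι → Γ(A, ⊤))
    (h : ∀ x : X, ∃ (U : Y.Opens) (_ : IsAffineOpen U) (k : ι) (W : X.Opens) (hW : W ≤ q ⁻¹ᵁ U)
      (P : Γ(X, W)), W = CohB1.genLocus A (homOf (τ k)) ⊓ q ⁻¹ᵁ U ∧ P ∈ ratioRing τ U k W hW ∧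
        x ∈ X.basicOpen P ∧ IsAffineOpen (X.basicOpen P) ∧
        ∀ z : Γ(X, X.basicOpen P), ∃ (N : ℕ) (r : Γ(X, W)), r ∈ ratioRing τ U k W hW ∧
          resO X (X.basicOpen_le P) r = z * resO X (X.basicOpen_le P) P ^ N) :
    RelAmple.IsRelVeryAmplePn q A := by
  classical
  let e := Fintype.equivFin ι
  let n := Fintype.card ι
  let s' : Fin (n + 1) → ProjUP.Γm A := Fin.cons (0 : Γ(A, ⊤)) fun k => τ (e.symm k)
  have hs' : ∀ i, ∃ j, s' j = τ i := fun i => ⟨(e i).succ, by simp [s']⟩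
  have hgen : ProjUP.GeneratedBy A s' := ProjMor.generatedBy_of_mem_genLocus s' fun x => by
    obtain ⟨U, -, k, W, -, P, hW, -, hx, -⟩ := h x
    obtain ⟨j, hj⟩ := hs' k
    exact ⟨j, by rw [hj]; exact (hW.le (X.basicOpen_le P hx)).1⟩
  obtain ⟨m, hm, hiso, hj⟩ := ProjMor.exists_toProjSpaceOver q hA s' hgen
  refine ⟨n, m, ProjMor.isImmersion_of_forall m fun x => ?_, hm, hiso⟩
  obtain ⟨U, hU, k, W, hWU, P, hW, hP, hxP, hA', hz⟩ := h x
  obtain ⟨j, hjk⟩ := hs' k
  obtain ⟨hloc, hrat⟩ := hj j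
  subst hm
  let C := ProjMor.chartOver n j U
  have hC : IsAffineOpen C := ProjMor.isAffineOpen_chartOver n j hU
  have hpre : m ⁻¹ᵁ C = W := by
    rw [hW, ← hjk, ← hloc]
    rfl
  have hWC : W ≤ m ⁻¹ᵁ C := hpre.ge
  let φ : Γ(CohB1.ProjSpaceOver n Y, C) →+* Γ(X, W) := (m.appLE C W hWC).hom
  have hR : ratioRing τ U k W hWU ≤ φ.range := by
    refine Subring.closure_le.2 ?_
    rintro c (⟨a, rfl⟩ | ⟨l, hl⟩)
    · refine ⟨((CohB1.ProjSpaceOver.toBase n Y).appLE U C inf_le_right).hom a, ?_⟩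
      change ((_ ≫ m.appLE C W hWC)).hom a = _
      rw [Scheme.Hom.appLE_comp_appLE]
    · obtain ⟨l', hl'⟩ := hs' l
      refine ⟨((ProjMor.pz n Y).appLE (ProjMor.chart n j) C inf_le_left).hom (ProjMor.ratio n j l'), ?_⟩
      change ((_ ≫ m.appLE C W hWC)).hom _ = c
      rw [Scheme.Hom.appLE_comp_appLE]
      have hWg : W ≤ CohB1.genLocus A (homOf (τ k)) := hW.le.trans inf_le_left
      have hWp : W ≤ (m ≫ ProjMor.pz n Y) ⁻¹ᵁ ProjMor.chart n j := hWg.trans (by rw [hloc, hjk])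
      have hg : IsGen (res A (le_top : W ≤ ⊤) (τ k)) := by
        have := (ProjMor.isGen_homOf (τ k)).res hWg
        rwa [res_res] at this
      refine (hg W le_rfl).1 ?_
      simp only [res_self, hl, ← hl']
      have e1 := congrArg (res A hWp) (hrat l')
      rw [res_smul, res_res, res_res, ProjMor.ev_res, hjk] at e1
      exact e1
  obtain ⟨Q, hQ⟩ := hR hP
  let D := (CohB1.ProjSpaceOver n Y).basicOpen Q
  have hD : IsAffineOpen D := hC.basicOpen Q
  have hDC : D ≤ C := (CohB1.ProjSpaceOver n Y).basicOpen_le Q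
  have hDpre : m ⁻¹ᵁ D = X.basicOpen P := by
    have h1 : X.basicOpen (φ Q) = W ⊓ m ⁻¹ᵁ D := Scheme.basicOpen_appLE _ _ _ _ _
    rw [hQ] at h1
    rw [h1, eq_comm, inf_eq_right]
    exact (m.preimage_mono hDC).trans hpre.le
  refine ⟨D, (hDpre.ge hxP : x ∈ m ⁻¹ᵁ D), ?_⟩
  haveI : IsAffine D.toScheme := hD
  haveI : IsAffine (m ⁻¹ᵁ D).toScheme := by rw [hDpre]; exact hA'
  suffices IsClosedImmersion (m ∣_ D) from inferInstance
  refine ProjMor.isClosedImmersion_restrict_of_surjective m D ?_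
  have hs : Function.Surjective (m.appLE D (X.basicOpen P) hDpre.ge).hom := fun z => by
    obtain ⟨N, r, hr, he⟩ := hz z
    obtain ⟨r', hr'⟩ := hR hr
    obtain ⟨w, hw⟩ := (RingedSpace.isUnit_res_basicOpen _ Q).exists_right_inv
    let ψ : Γ(CohB1.ProjSpaceOver n Y, D) →+* Γ(X, X.basicOpen P) := (m.appLE D (X.basicOpen P) hDpre.ge).hom
    have hψ : ∀ a, ψ (resO _ hDC a) = resO X (X.basicOpen_le P) (φ a) := fun a => by
      simp only [ψ, φ, resO, ← CommRingCat.comp_apply, Scheme.Hom.appLE_map, Scheme.Hom.map_appLE]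
    have h0 : ψ (resO _ hDC Q) = resO X (X.basicOpen_le P) P := (hψ Q).trans (congrArg _ hQ)
    let w' : Γ(CohB1.ProjSpaceOver n Y, D) := w
    have h1 : resO X (X.basicOpen_le P) P * ψ w' = 1 := by
      rw [← h0, ← map_mul]
      exact (congrArg ψ hw).trans (map_one _)
    refine ⟨resO _ hDC r' * w' ^ N, ?_⟩
    change ψ (resO _ hDC r' * w' ^ N) = z
    rw [map_mul, map_pow, hψ, hr', he, mul_assoc, ← mul_pow, h1, one_pow, mul_one]
  have key : ∀ (V : X.Opens) (hV : V ≤ m ⁻¹ᵁ D), V = X.basicOpen P →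
      Function.Surjective (m.appLE D V hV).hom := by
    rintro _ _ rfl; exact hs
  exact key _ le_rfl hDpre

end Crit

section Gens

variable {L L' : X.Modules} {E : Y.Modules} {𝒯 : RelProj.QCGrAlg Y} {j : E ⟶ 𝒯.toModule}
  {𝒮L : RelProj.QCGrAlg X} {jl : L ⟶ 𝒮L.toModule} {κ : E ⟶ (Scheme.Modules.pushforward q).obj L}
  {u : RelProj.QGrHom q 𝒯 𝒮L}

/-- Homogeneous elements are multiples of powers of a section when the generators are. -/
theorem exists_ratio_pow (hj : RelProj.IsGrSymAlg E 𝒯 j) [E.IsQuasicoherent] (hu : Extends j jl κ u)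
    {U : Y.Opens} (hU : IsAffineOpen U) {W : X.Opens} (h : W ≤ q ⁻¹ᵁ U) (σ : Γ(L, W))
    (R : Subring Γ(X, W)) (hRb : ∀ a, (q.appLE U W h).hom a ∈ R)
    (hRm : ∀ m : Γ(E, U), ∃ r ∈ R, r • σ = res L h (sec κ U m))
    {d : ℕ} {y : 𝒯.presheaf.obj (op U)} (hy : y ∈ 𝒯.deg U hU d) :
    ∃ r ∈ R, (u.appLE U W h).hom y = strL 𝒮L W r * jL jl W σ ^ d := by
  classical
  let B := (u.appLE U W h).hom
  let S : ℕ → 𝒯.presheaf.obj (op U) → Prop := fun n z =>
    ∃ r ∈ R, B z = strL 𝒮L W r * jL jl W σ ^ n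
  have hM : ∀ z ∈ Submonoid.closure
      (Set.range (SymAlgGen.strS 𝒯.toQCAlg U) ∪ Set.range (SymAlgGen.jsec j U)),
      ∃ n, z ∈ 𝒯.deg U hU n ∧ S n z := fun z hz => by
    induction hz using Submonoid.closure_induction with
    | mem z hz =>
      obtain ⟨c, rfl⟩ | ⟨m, rfl⟩ := hz
      · refine ⟨0, 𝒯.str_mem U hU c, _, hRb c, ?_⟩
        rw [pow_zero, mul_one]
        exact congr(($(u.str_appLE U W h)).hom c)
      · obtain ⟨r, hr, he⟩ := hRm m
        refine ⟨1, hj.2 U hU m, r, hr, ?_⟩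
        change (u.appLE U W h).hom (jL j U m) = _
        rw [appLE_of_app hu hU h, pow_one, show res L h (κ.app U m) = r • σ from he.symm]
        exact Scheme.Modules.Hom.app_smul jl r σ
    | one => exact ⟨0, SetLike.one_mem_graded _, 1, R.one_mem, by rw [map_one, map_one, pow_zero, mul_one]⟩
    | mul z z' _ _ hz hz' =>
      obtain ⟨n, hn, r, hr, he⟩ := hz
      obtain ⟨n', hn', r', hr', he'⟩ := hz'
      exact ⟨n + n', SetLike.mul_mem_graded hn hn', r * r', R.mul_mem hr hr',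
        by rw [map_mul, map_mul, he, he', pow_add]; ring⟩
  suffices key : ∀ z, S d (decompose (𝒯.deg U hU) z d : 𝒯.presheaf.obj (op U)) by
    have := key y
    rwa [decompose_of_mem_same _ hy] at this
  intro z
  have hz : z ∈ Subring.closure
      (Set.range (SymAlgGen.strS 𝒯.toQCAlg U) ∪ Set.range (SymAlgGen.jsec j U)) :=
    (SymAlgGen.gen_eq_top hj.1 hU).ge (Subring.mem_top z)
  rw [Subring.mem_closure_iff] at hz
  have hS0 : S d 0 := ⟨0, R.zero_mem, by simp⟩
  induction hz using AddSubgroup.closure_induction with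
  | mem z hz =>
    obtain ⟨n, hn, hS⟩ := hM z hz
    by_cases h' : n = d
    · subst h'; rw [decompose_of_mem_same _ hn]; exact hS
    · rw [decompose_of_mem_ne _ hn h']; exact hS0
  | zero => rw [decompose_zero]; exact hS0
  | add a b _ _ ha hb =>
    obtain ⟨r, hr, he⟩ := ha
    obtain ⟨r', hr', he'⟩ := hb
    refine ⟨r + r', R.add_mem hr hr', ?_⟩
    rw [decompose_add, DirectSum.add_apply, AddMemClass.coe_add, map_add, map_add, he, he', add_mul]
  | neg a _ ha =>
    obtain ⟨r, hr, he⟩ := ha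
    refine ⟨-r, R.neg_mem hr, ?_⟩
    rw [decompose_neg]
    change B (-(decompose (𝒯.deg U hU) a d : 𝒯.presheaf.obj (op U))) = _
    rw [map_neg, map_neg, he, neg_mul]

set_option maxHeartbeats 1600000 in
/-- Global sections which locally are `κ(e_l) ⊗ g` with `e_l` spanning give very ampleness relative
to projective space. -/
theorem isRelVeryAmplePn_of_gens (hL : PicF.IsInvertible L) (hL' : PicF.IsInvertible L')
    (hE : Coh.IsQCoh E) (hj : RelProj.IsGrSymAlg E 𝒯 j) (hjl : RelProj.IsGrSymAlg L 𝒮L jl)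
    (hu : Extends j jl κ u) (hp : ∀ x : X, ∃ c : DegOnePair u jl, x ∈ c.U')
    {ι : Type u} [Fintype ι] (τ : ι → Γ(CohB1.tensorMod L L', ⊤))
    (h : ∀ x : X, ∃ (U : Y.Opens) (hU : IsAffineOpen U) (e : ι → Γ(E, U)) (g : Γ(L', q ⁻¹ᵁ U)),
      LocalAt u U hU x ∧ Submodule.span Γ(Y, U) (Set.range e) = ⊤ ∧ IsGen g ∧
      ∀ l, res (CohB1.tensorMod L L') (le_top : q ⁻¹ᵁ U ≤ ⊤) (τ l) = tm (sec κ U (e l)) g) :
    RelAmple.IsRelVeryAmplePn q (CohB1.tensorMod L L') := by
  classical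
  haveI : E.IsQuasicoherent := hE
  have hLq : Coh.IsQCoh L := TMul.isQCoh_of_isInvertible hL
  refine isRelVeryAmplePn_of_ratios (q := q) (TMul.isInvertible_tensorMod hL hL') τ fun x => ?_
  obtain ⟨U, hU, e, g, ⟨n, a, hn, ha, hxa, hO, hc⟩, hspan, hg, hτ⟩ := h x
  let O := Rel.NV u hU n a
  have hOU : O ≤ q ⁻¹ᵁ U := Rel.NV_le u hU n a
  obtain ⟨V, hV, gV, hxV, hVU, hgV⟩ := exists_triv hL (O := q ⁻¹ᵁ U) (x := x) (hOU hxa)
  obtain ⟨cm, hcm, hctop⟩ := exists_sec_unit hE hLq hj hjl hu hp hU hV hVU hgV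
  obtain ⟨k, hxk⟩ : ∃ k, x ∈ X.basicOpen (cm (e k)) := by
    have hle : Ideal.span (Set.range cm) ≤ Ideal.span (Set.range fun l => cm (e l)) := by
      refine Ideal.span_le.2 ?_
      rintro _ ⟨m, rfl⟩
      have hm : m ∈ Submodule.span Γ(Y, U) (Set.range e) := hspan ▸ trivial
      suffices ∀ c : Γ(X, V), c • gV = res L hVU (sec κ U m) → c ∈ Ideal.span (Set.range fun l => cm (e l)) from
        this _ (hcm m)
      induction hm using Submodule.span_induction with
      | mem m hm =>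
        obtain ⟨l, rfl⟩ := hm
        intro c hc'
        rw [(hgV V le_rfl).1 (show c • res L le_rfl gV = cm (e l) • res L le_rfl gV by
          rw [res_self, hc', hcm])]
        exact Ideal.subset_span ⟨l, rfl⟩
      | zero =>
        intro c hc'
        rw [(hgV V le_rfl).1 (show c • res L le_rfl gV = (0 : Γ(X, V)) • res L le_rfl gV by
          rw [res_self, hc', zero_smul, sec, map_zero, map_zero])]
        exact Ideal.zero_mem _
      | add m m' _ _ hm hm' =>
        intro c hc'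
        have e0 : c = cm m + cm m' := (hgV V le_rfl).1 (show c • res L le_rfl gV = _ • res L le_rfl gV by
          rw [res_self, hc', add_smul, hcm, hcm, sec, map_add, map_add])
        exact e0 ▸ Ideal.add_mem _ (hm _ (hcm m)) (hm' _ (hcm m'))
      | smul b m _ hm =>
        intro c hc'
        have e0 : c = (q.appLE U V hVU).hom b * cm m :=
          (hgV V le_rfl).1 (show c • res L le_rfl gV = _ • res L le_rfl gV by
            rw [res_self, hc', mul_smul, hcm]
            exact (RelTilde.resθ q κ hVU).map_smulₛₗ b m)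
        exact e0 ▸ Ideal.mul_mem_left _ _ (hm _ (hcm m))
    obtain ⟨⟨_, l, rfl⟩, hl⟩ := Opens.mem_iSup.mp
      ((hV.self_le_iSup_basicOpen_iff).2 (top_le_iff.1 (hctop.ge.trans hle)) hxV)
    exact ⟨l, hl⟩
  let A := CohB1.tensorMod L L'
  let W := CohB1.genLocus A (homOf (τ k)) ⊓ q ⁻¹ᵁ U
  have hWU : W ≤ q ⁻¹ᵁ U := inf_le_right
  let σ := res L hWU (sec κ U (e k))
  let gW := res L' hWU g
  have hτW : ∀ l, res A (le_top : W ≤ ⊤) (τ l) = tm (res L hWU (sec κ U (e l))) gW := fun l => by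
    rw [← res_res A hWU le_top, hτ, TMul.res_tm]
  have hσ : IsGen σ := by
    intro V' hV'
    have h1 : IsGen (tm σ gW) := by
      have := (ProjMor.isGen_homOf (τ k)).res (inf_le_left : W ≤ _)
      rw [res_res, hτW] at this
      exact this
    have h2 := h1 V' hV'
    simp only [TMul.res_tm, ← TMul.smul_tm] at h2
    exact (TMul.tm_bijective (M := L) (isGen_res hWU hg) V' hV').of_comp_iff' _ |>.1 h2
  have hxW : x ∈ W := by
    refine ⟨?_, hVU hxV⟩
    have hgen : IsGen (res L ((X.basicOpen_le (cm (e k))).trans hVU) (sec κ U (e k))) := by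
      rw [← res_res L (X.basicOpen_le (cm (e k))) hVU, ← hcm, res_smul]
      exact TMul.isGen_smul (isGen_res _ hgV) (RingedSpace.isUnit_res_basicOpen _ (cm (e k)))
    refine TMul.le_genLocus (homOf (τ k)) (U := X.basicOpen (cm (e k))) ?_ hxk
    rw [val_homOf, ← res_res A ((X.basicOpen_le (cm (e k))).trans hVU) le_top, hτ, TMul.res_tm]
    exact TMul.isGen_tm hgen (isGen_res _ hg)
  let R := ratioRing τ U k W hWU
  have hRb : ∀ b, (q.appLE U W hWU).hom b ∈ R := fun b => Subring.subset_closure (Or.inl ⟨b, rfl⟩)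
  have hRm : ∀ m : Γ(E, U), ∃ r ∈ R, r • σ = res L hWU (sec κ U m) := fun m => by
    have hm : m ∈ Submodule.span Γ(Y, U) (Set.range e) := hspan ▸ trivial
    induction hm using Submodule.span_induction with
    | mem m hm =>
      obtain ⟨l, rfl⟩ := hm
      obtain ⟨c, hc'⟩ := exists_smul_eq hσ (res L hWU (sec κ U (e l)))
      refine ⟨c, Subring.subset_closure (Or.inr ⟨l, ?_⟩), hc'⟩
      rw [hτW, hτW, ← TMul.smul_tm, hc']
    | zero => exact ⟨0, R.zero_mem, by rw [zero_smul, sec, map_zero, map_zero]⟩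
    | add m m' _ _ hm hm' =>
      obtain ⟨r, hr, he⟩ := hm
      obtain ⟨r', hr', he'⟩ := hm'
      refine ⟨r + r', R.add_mem hr hr', ?_⟩
      rw [add_smul, he, he', ← map_add]
      exact congrArg (res L hWU) (map_add (κ.app U).hom m m').symm
    | smul b m _ hm =>
      obtain ⟨r, hr, he⟩ := hm
      refine ⟨_, R.mul_mem (hRb b) hr, ?_⟩
      rw [mul_smul, he]
      exact ((RelTilde.resθ q κ hWU).map_smulₛₗ b m).symm
  have hfr : ∀ (d : ℕ) (y : 𝒯.presheaf.obj (op U)), y ∈ 𝒯.deg U hU d →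
      ∃ r ∈ R, (u.appLE U W hWU).hom y = strL 𝒮L W r * jL jl W σ ^ d :=
    fun d y hy => exists_ratio_pow hj hu hU hWU σ R hRb hRm hy
  obtain ⟨ra, hra, hae⟩ := hfr n a ha
  have hWO : W ⊓ O = X.basicOpen ra := by
    refine le_antisymm (fun y hy => ?_) (le_inf (X.basicOpen_le _) fun y hy => ?_)
    · obtain ⟨V', hV', g', hyV', hV'W, -⟩ := exists_triv hL (O := W) (x := y) hy.1
      have h1 := inter_eq_basicOpen hLq hjl ((u.app U).hom a) (fun z => mem_NV_iff u hU n a z) hV'
        (hV'W.trans hWU) (isGen_res hV'W hσ) (c := resO X hV'W ra) (by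
          have h2 := congrArg (resL 𝒮L hV'W) hae
          rw [map_mul, map_pow, resL_strL, resL_jL, resL_appLE] at h2
          exact h2)
      exact ((Scheme.basicOpen_res X ra _).le (h1.le ⟨hyV', hy.2⟩)).2
    · obtain ⟨V', hV', g', hyV', hV'W, -⟩ := exists_triv hL (O := W) (x := y) (X.basicOpen_le _ hy)
      have h1 := inter_eq_basicOpen hLq hjl ((u.app U).hom a) (fun z => mem_NV_iff u hU n a z) hV'
        (hV'W.trans hWU) (isGen_res hV'W hσ) (c := resO X hV'W ra) (by
          have h2 := congrArg (resL 𝒮L hV'W) hae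
          rw [map_mul, map_pow, resL_strL, resL_jL, resL_appLE] at h2
          exact h2)
      exact (h1.ge ((Scheme.basicOpen_res X ra _).ge ⟨hyV', hy⟩)).2
  -- fractions on `W ⊓ O`
  let T := W ⊓ O
  have hTW : T ≤ W := inf_le_left
  have hTO : T ≤ O := inf_le_right
  have hfrac : ∀ z : Γ(X, O), ∃ (l : ℕ), 0 < l ∧ ∃ r ∈ R,
      resO X hTO z * resO X hTW ra ^ l = resO X hTW r := fun z => by
    obtain ⟨l, hl, s, hs, he⟩ := hc z
    obtain ⟨r, hr, hre⟩ := hfr (l * n) s hs
    refine ⟨l, hl, r, hr, ?_⟩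
    have h1 := congrArg (resL 𝒮L hTO) he
    change resL 𝒮L hTO (strL 𝒮L O z * _) = _ at h1
    rw [map_mul, map_pow, resL_appLE, resL_appLE, resL_strL] at h1
    have h2 := congrArg (resL 𝒮L hTW) hae
    have h3 := congrArg (resL 𝒮L hTW) hre
    rw [map_mul, map_pow, resL_strL, resL_jL, resL_appLE] at h2 h3
    have h4 : strL 𝒮L T (resO X hTO z * resO X hTW ra ^ l) * jL jl T (res L hTW σ) ^ (l * n) =
        strL 𝒮L T (resO X hTW r) * jL jl T (res L hTW σ) ^ (l * n) := by
      rw [← h3, ← h1, h2, map_mul, map_pow, mul_pow, ← pow_mul, mul_comm n l, mul_assoc]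
    refine Groth.Agent.QC.section_eq_of_locally (M := Coh.structureModule X) (U := T) fun y hy => ?_
    obtain ⟨V', hV', g', hyV', hV'T, -⟩ := exists_triv hL (O := T) (x := y) hy
    refine ⟨V', hV'T, hyV', ?_⟩
    have h5 := congrArg (resL 𝒮L hV'T) h4
    rw [map_mul (resL 𝒮L hV'T), map_mul (resL 𝒮L hV'T), map_pow (resL 𝒮L hV'T), resL_strL, resL_strL,
      resL_jL] at h5
    exact coeff_inj hLq hjl hV' (isGen_res hV'T (isGen_res hTW hσ)) h5
  obtain ⟨hh, hhW, hxh⟩ := hO.exists_basicOpen_le (⟨x, hxW⟩ : W) hxa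
  obtain ⟨lh, hlh, rs, hrs, hse⟩ := hfrac hh
  let P := rs * ra
  let D := X.basicOpen hh
  have hDT : D ≤ T := le_inf hhW (X.basicOpen_le hh)
  have hTP : X.basicOpen P = D := by
    have e1 : X.basicOpen (resO X hTW P) = X.basicOpen (resO X hTO hh) := by
      rw [map_mul, ← hse, Scheme.basicOpen_mul, Scheme.basicOpen_mul,
        Scheme.basicOpen_pow _ _ hlh, inf_assoc, inf_idem, inf_eq_left]
      refine (X.basicOpen_le _).trans ?_
      rw [show resO X hTW ra = _ from rfl]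
      exact le_of_le_of_eq (le_inf le_rfl hWO.le) (Scheme.basicOpen_res X ra _).symm
    have e2 : X.basicOpen P ≤ T := by
      rw [Scheme.basicOpen_mul]
      exact inf_le_right.trans hWO.ge
    rw [show X.basicOpen (resO X hTW P) = T ⊓ X.basicOpen P from Scheme.basicOpen_res X P _,
      show X.basicOpen (resO X hTO hh) = T ⊓ D from Scheme.basicOpen_res X hh _,
      inf_eq_right.2 e2, inf_eq_right.2 hDT] at e1
    exact e1
  refine ⟨U, hU, k, W, hWU, P, rfl, R.mul_mem hrs hra, hTP.ge hxh, hTP ▸ hO.basicOpen hh, ?_⟩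
  have key : ∀ (D' : X.Opens) (hD' : D' ≤ W), D' = D → ∀ z : Γ(X, D'),
      ∃ (N : ℕ) (r : Γ(X, W)), r ∈ R ∧ resO X hD' r = z * resO X hD' P ^ N := by
    rintro _ hD' rfl z
    haveI := hO.isLocalization_basicOpen hh
    obtain ⟨K, t, ht⟩ := IsLocalization.Away.surj hh z
    have ht' : z * resO X (X.basicOpen_le hh) hh ^ K = resO X (X.basicOpen_le hh) t := ht
    obtain ⟨lt, -, rt, hrt, hte⟩ := hfrac t
    have h1 := congrArg (resO X hDT) hse
    have h2 := congrArg (resO X hDT) hte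
    rw [map_mul, map_pow, QC.resO_resO, QC.resO_resO, QC.resO_resO] at h1 h2
    rw [← ht'] at h2
    refine ⟨K + lt, rt * ra ^ (lh * K + K) * rs ^ lt, R.mul_mem (R.mul_mem hrt (R.pow_mem hra _)) (R.pow_mem hrs _), ?_⟩
    simp only [P, map_mul, map_pow, ← h2, ← h1]
    ring
  exact key _ _ hTP

end Gens

end Groth.Agent.SymAlg
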