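import Groth.Agent.SymAlg.OpenImm
import Groth.Agent.SymAlg.VAmpleData
import Groth.Agent.S4426

/-!
Finite type very ample data, and projectivity of proper morphisms carrying them.
-/

set_option autoImplicit false
set_option backward.isDefEq.respectTransparency false
set_option linter.style.haveILetI false
set_option linter.unusedSectionVars false

universe u

open CategoryTheory CategoryTheory.Limits DirectSum AlgebraicGeometry TopologicalSpace Opposite
open scoped HomogeneousIdeal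
open Groth.Agent.QC (res resO res_res res_self res_smul app_res)

noncomputable section

namespace Groth.Agent.SymAlg

open Groth.Agent
open TMul (IsGen)

variable {Y X : Scheme.{u}}

/-- Very ampleness through the symmetric algebra of a module of finite type, as local data. -/
def FTData (q : X ⟶ Y) (L : X.Modules) : Prop :=
  PicF.IsInvertible L ∧ ∃ (𝒮L : RelProj.QCGrAlg X) (jl : L ⟶ 𝒮L.toModule) (_ : RelProj.IsGrSymAlg L 𝒮L jl)
    (E : Y.Modules) (_ : Coh.IsQCoh E) (_ : CohB1.IsFT E) (𝒯 : RelProj.QCGrAlg Y) (j : E ⟶ 𝒯.toModule)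
    (_ : RelProj.IsGrSymAlg E 𝒯 j) (u : RelProj.QGrHom q 𝒯 𝒮L),
    (∀ x, LocalData u x) ∧ ∀ x : X, ∃ c : DegOnePair u jl, x ∈ c.U'

theorem FTData.isRelVeryAmple {q : X ⟶ Y} {L : X.Modules} (h : FTData q L) :
    RelProj.IsRelVeryAmple q L := by
  obtain ⟨hL, 𝒮L, jl, hjl, E, hE, -, 𝒯, j, hj, u, hd, hs⟩ := h
  haveI : E.IsQuasicoherent := hE
  exact isRelVeryAmple_of_localData hL (TMul.isQCoh_of_isInvertible hL) hjl (isGenDegOne_sym hj) hd hs

/-- An immersion into the bundle of a finite type module gives data. -/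
theorem ftData_of_bundle {P : Scheme.{u}} {i : X ⟶ P} [IsImmersion i] {q : X ⟶ Y} {L : X.Modules}
    {E : Y.Modules} (hE : Coh.IsQCoh E) (hft : CohB1.IsFT E)
    {𝒯 : RelProj.QCGrAlg Y} {j : E ⟶ 𝒯.toModule} (hj : RelProj.IsGrSymAlg E 𝒯 j) {p : P ⟶ Y}
    {ch : ∀ (U : Y.Opens) (hU : IsAffineOpen U), ((p ⁻¹ᵁ U : P.Opens) : Scheme.{u}) ≅ Proj (𝒯.deg U hU)}
    (hP : RelProj.IsRelProj 𝒯 p ch) {O1 : P.Modules}
    {lam : ∀ (U : Y.Opens) (hU : IsAffineOpen U),
      O1 ⟶ (Scheme.Modules.pushforward (RelProj.emb p ch U hU)).obj (GrTwist.twist (𝒯.deg U hU) 1)}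
    (hO1 : RelProj.IsRelTwist 𝒯 p ch 1 O1 lam) (hip : i ≫ p = q) (hL : PicF.IsInvertible L)
    (e : L ≅ (Scheme.Modules.pullback i).obj O1) : FTData q L := by
  have hLq := TMul.isQCoh_of_isInvertible hL
  obtain ⟨𝒮L, jl, hjl⟩ := exists_isGrSymAlg hLq
  obtain ⟨κ, u, -, hd, hs⟩ := exists_localData_bundle hE hj hP hO1 hip hL hLq e hjl
  exact ⟨hL, 𝒮L, jl, hjl, E, hE, hft, 𝒯, j, hj, u, hd, hs⟩

set_option maxHeartbeats 1600000 in
/-- A proper morphism with finite type very ample data is projective. -/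
theorem isProjective_of_ftData (q : X ⟶ Y) [IsProper q] {L : X.Modules} (h : FTData q L) :
    RelProj.IsProjective q := by
  classical
  obtain ⟨hL, 𝒮L, jl, hjl, E, hEq, hEft, 𝒯, jE, hjE, u, hd, hs⟩ := h
  haveI : E.IsQuasicoherent := hEq
  have hLq : Coh.IsQCoh L := TMul.isQCoh_of_isInvertible hL
  obtain ⟨PL, pL, chartL, hPL⟩ := RelProjLib.exists_isRelProj 𝒮L
  obtain ⟨𝒬, φ, hφ, w, hw⟩ := exists_image u
  have happ : ∀ U : Y.Opens, u.app U = φ.hom.app (op U) ≫ w.app U := fun U =>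
    CommRingCat.hom_ext (RingHom.ext fun a => eq_of_affine_base 𝒮L fun V hV hle => by
      change resL 𝒮L _ ((u.app U).hom a) = resL 𝒮L _ ((w.app U).hom ((φ.hom.app (op U)).hom a))
      rw [qApp_res _ hle, qApp_res _ hle, ← (hw V hV).2.2.1]
      exact congrArg (w.app V).hom (congr($(φ.hom.naturality (homOfLE hle).op) a)))
  have hcov : ∀ x : X, ∃ c : DegOnePair w jl, x ∈ c.U' := fun x => by
    obtain ⟨c, hc⟩ := hs x
    exact ⟨⟨c.U, c.hU, c.U', c.hU', c.le, (φ.hom.app (op c.U)).hom c.e, hφ c.U c.hU 1 _ c.he, c.m, c.gen,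
      (Rel.appLE_map w φ u happ c.U c.U' c.le c.e).symm.trans c.eq⟩, hc⟩
  choose U hU n f hn hf hxf hA hc using hd
  let g : ∀ x, 𝒬.presheaf.obj (op (U x)) := fun x => (φ.hom.app (op (U x))).hom (f x)
  have hg : ∀ x, g x ∈ 𝒬.deg (U x) (hU x) (n x) := fun x => hφ (U x) (hU x) _ _ (hf x)
  have hNV : ∀ x, Rel.NV u (hU x) (n x) (f x) = Rel.NV w (hU x) (n x) (g x) :=
    fun x => Rel.NV_map w φ u happ (hU x) _ _
  have hA' : ∀ x, IsAffineOpen (Rel.NV w (hU x) (n x) (g x)) := fun x => hNV x ▸ hA x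
  have hc' : ∀ x t, t ∈ Rel.condSet w (hU x) (n x) (g x) (Rel.NV w (hU x) (n x) (g x)) (Rel.NV_le w _ _ _) :=
    fun x => Rel.condSet_congr_all w (hU x) _ _ (hNV x) (Rel.NV_le u _ _ _) _ fun t =>
      Rel.condSet_map w φ u happ hφ (hU x) _ _ _ _ (hc x t)
  obtain ⟨P, p, chart, hP⟩ := RelProjLib.exists_isRelProj 𝒬
  obtain ⟨r, hr, -⟩ := RelProjLib.existsUnique_qmap w hP hPL
  have htop := domQ_eq_top_of_degOne hL hLq hjl hPL hcov
  haveI := isIso_pL hL hLq hjl hPL
  haveI : IsOpenImmersion r := by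
    haveI := prop_restrict_iSup r (MorphismProperty.isomorphisms Scheme.{u})
      (fun x => Rel.DPlus p chart (hU x) (g x)) fun x =>
      (Rel.isIso_restrict_iff hL hLq hjl w hPL hr (hU x) hP (hn x) (hg x) (hA' x)
        (Rel.NV_le w _ _ _) rfl).2 ⟨hc' x, fun m _ s' hs' h0 => by
          refine Rel.exists_pow_mul_eq_zero hL hLq hjl w (hU x) (hw _ (hU x)).2.1 (hg x) hs' ?_
          intro V hV hNV
          rw [← resL_appLE w (Rel.Nonvanishing.le_NV w (hU x) hNV) (Rel.NV_le w _ _ _), h0, map_zero]⟩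
    haveI : IsIso (r ∣_ ⨆ x, Rel.DPlus p chart (hU x) (g x)) := this
    have hΩ : r ⁻¹ᵁ (⨆ x, Rel.DPlus p chart (hU x) (g x)) = ⊤ := eq_top_iff.2 fun z _ => by
      have ha := (hNV (pL ((RelProj.domQ w pL chartL).ι z))).le (hxf _)
      obtain ⟨⟨V, hV⟩, hzV⟩ := Opens.mem_iSup.1 ha
      obtain ⟨z', hz', e⟩ :=
        (Rel.mem_preimage_basicOpen_iff hL hLq hjl w hPL hr (hU _) hP (hn _) (hg _) _).2 ⟨V, hzV, hV⟩
      obtain rfl := (RelProj.domQ w pL chartL).ι.isOpenEmbedding.injective e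
      exact Opens.mem_iSup.2 ⟨_, hz'⟩
    obtain ⟨e, he⟩ := eq_comp_restrict r hΩ
    rw [he]
    infer_instance
  haveI : IsDominant r := (Rel.isDominant_iff_nonvanishing hL hLq hjl w hPL hr hP).2
    fun U hU n hn f hf hnil => by
      by_contra! hno
      obtain ⟨k, -, hk⟩ := Rel.exists_pow_mul_eq_zero hL hLq hjl w hU (hw U hU).2.1 hf
        (SetLike.one_mem_graded _) fun V hV hNV => eq_of_locally fun x hx =>
          absurd hNV (hno V ⟨x, hx⟩)
      exact hnil ⟨k, by rwa [mul_one] at hk⟩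
  haveI : IsIso (RelProj.domQ w pL chartL).ι := by
    rw [htop]; exact (Scheme.topIso PL).isIso_hom
  have hgen : 𝒬.IsGenDegOne := fun U hU => by
    refine top_le_iff.mp fun b _ => ?_
    obtain ⟨a, rfl⟩ := (hw U hU).1 b
    have ha : a ∈ Subring.closure (Set.range (SymAlgGen.strS 𝒯.toQCAlg U) ∪ Set.range (SymAlgGen.jsec jE U)) :=
      (SymAlgGen.gen_eq_top hjE.1 hU).ge (Subring.mem_top a)
    have h2 := Subring.mem_map.mpr ⟨a, ha, (rfl : (φ.hom.app (op U)).hom a = _)⟩
    rw [RingHom.map_closure] at h2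
    refine Subring.closure_mono ?_ h2
    rintro _ ⟨y, ⟨s, rfl⟩ | ⟨m, rfl⟩, rfl⟩
    · exact Or.inl (hφ U hU 0 _ (𝒯.str_mem U hU s))
    · exact Or.inr (hφ U hU 1 _ (hjE.2 U hU m))
  have hft : 𝒬.IsFTDeg 1 := fun U hU => by
    obtain ⟨G, hG⟩ := (QC.finite_sections (U := U) hU hEft).fg_top
    let g : Γ(E, U) → 𝒬.presheaf.obj (op U) := fun m => (φ.hom.app (op U)).hom (SymAlgGen.jsec jE U m)
    refine ⟨G.image g, ?_, fun x hx => ?_⟩
    · rw [Finset.coe_image]
      rintro _ ⟨m, -, rfl⟩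
      exact hφ U hU 1 _ (hjE.2 U hU m)
    · obtain ⟨a, ha, rfl⟩ := (hw U hU).2.2.2 1 x hx
      obtain ⟨m, rfl⟩ := exists_jsec_of_mem_deg_one hjE hU ha
      clear hx ha
      letI := (𝒬.str.app (op U)).hom.toAlgebra
      have hg : g m ∈ Submodule.span Γ(Y, U) ((G.image g : Finset _) : Set (𝒬.presheaf.obj (op U))) := by
        have hm : m ∈ Submodule.span Γ(Y, U) (G : Set Γ(E, U)) := hG ▸ Submodule.mem_top
        induction hm using Submodule.span_induction with
        | mem t ht => exact Submodule.subset_span (Finset.mem_image_of_mem g ht)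
        | zero =>
          rw [show g 0 = 0 from (congrArg (φ.hom.app (op U)).hom (map_zero (jE.app U).hom)).trans (map_zero _)]
          exact zero_mem _
        | add a b _ _ iha ihb =>
          rw [show g (a + b) = g a + g b from (congrArg (φ.hom.app (op U)).hom (map_add (jE.app U).hom a b)).trans (map_add (φ.hom.app (op U)).hom _ _)]
          exact add_mem iha ihb
        | smul r a _ iha =>
          rw [show g (r • a) = r • g a from (congrArg (φ.hom.app (op U)).hom (SymAlgGen.jsec_smul (j := jE) U r a)).trans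
            ((map_mul (φ.hom.app (op U)).hom _ _).trans (congrArg (· * g a)
              (show (φ.hom.app (op U)).hom ((𝒯.str.app (op U)).hom r) = (𝒬.str.app (op U)).hom r from
                congr($(NatTrans.congr_app φ.comm (op U)) r))))]
          exact Submodule.smul_mem _ r iha
      obtain ⟨c, hc⟩ := Submodule.mem_span_finset.mp hg
      exact ⟨c, hc.2.symm⟩
  let G : X ⟶ P := inv pL ≫ inv (RelProj.domQ w pL chartL).ι ≫ r
  have hG : G ≫ p = q := by
    rw [Category.assoc, Category.assoc, RelProjLib.qmap_over w hP hPL hr, IsIso.inv_hom_id_assoc,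
      IsIso.inv_hom_id_assoc]
  haveI : IsOpenImmersion G := inferInstance
  haveI : IsDominant G := inferInstance
  haveI : IsProper G := Groth.Agent.S4426.result q 𝒬 p chart hP G hG
  haveI : Surjective G := ⟨fun y => by
    have hcl : IsClosed (Set.range G.base) := G.isClosedMap.isClosed_range
    have := G.denseRange y
    rwa [hcl.closure_eq] at this⟩
  haveI : IsIso G := (isIso_iff_isOpenImmersion_and_surjective G).mpr ⟨inferInstance, inferInstance⟩
  exact ⟨𝒬, P, p, chart, asIso G, hgen, hft, hP, hG⟩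

end Groth.Agent.SymAlg
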