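import Groth.Agent.SymAlg.RL

/-!
Immersion criteria for `r_{L,ψ}` over an affine base.
-/

set_option autoImplicit false
set_option backward.isDefEq.respectTransparency false
set_option linter.style.haveILetI false

universe u

open CategoryTheory CategoryTheory.Limits AlgebraicGeometry TopologicalSpace Opposite
  HomogeneousLocalization
open scoped HomogeneousIdeal

noncomputable section

namespace Groth.Agent.SymAlg

open Groth.Agent

variable {Y X P PL : Scheme.{u}} {q : X ⟶ Y} {L : X.Modules} (hL : PicF.IsInvertible L)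
  (hLq : Coh.IsQCoh L) {𝒮 : RelProj.QCGrAlg Y} {𝒮L : RelProj.QCGrAlg X} {j : L ⟶ 𝒮L.toModule}
  (hj : RelProj.IsGrSymAlg L 𝒮L j) (u : RelProj.QGrHom q 𝒮 𝒮L) {p : P ⟶ Y}
  {chart : ∀ (U : Y.Opens) (hU : IsAffineOpen U), ((p ⁻¹ᵁ U : P.Opens) : Scheme.{u}) ≅ Proj (𝒮.deg U hU)}
  {pL : PL ⟶ X}
  {chartL : ∀ (U : X.Opens) (hU : IsAffineOpen U), ((pL ⁻¹ᵁ U : PL.Opens) : Scheme.{u}) ≅ Proj (𝒮L.deg U hU)}
  (hPL : RelProj.IsRelProj 𝒮L pL chartL)
  {r : ((RelProj.domQ u pL chartL : PL.Opens) : Scheme.{u}) ⟶ P}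
  (hr : RelProj.IsProjQMapOn u p chart pL chartL (RelProj.domQ u pL chartL) r)
  (hY : IsAffineOpen (⊤ : Y.Opens))

variable (p chart) in
/-- `D₊(f)` in `P`. -/
abbrev DPlus (f : 𝒮.presheaf.obj (op ⊤)) : P.Opens :=
  RelProj.emb p chart ⊤ hY ''ᵁ Proj.basicOpen (𝒮.deg ⊤ hY) f

/-- The locus where `ψ f` does not vanish. -/
abbrev NV (n : ℕ) (f : 𝒮.presheaf.obj (op ⊤)) : X.Opens :=
  ⨆ V : {V : X.affineOpens // Nonvanishing u hY n f V}, V.1.1

lemma Nonvanishing.le_NV {n : ℕ} {f : 𝒮.presheaf.obj (op ⊤)} {V : X.affineOpens}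
    (h : Nonvanishing u hY n f V) : V.1 ≤ NV u hY n f :=
  le_iSup (fun V : {V : X.affineOpens // Nonvanishing u hY n f V} => V.1.1) ⟨V, h⟩

section chart

variable {n : ℕ} (hn : 0 < n) {f : 𝒮.presheaf.obj (op ⊤)} (hf : f ∈ 𝒮.deg ⊤ hY n)
  {O : X.Opens} (hO : IsAffineOpen O) (hOeq : O = NV u hY n f)

/-- The map of coefficient rings. -/
abbrev rHom : Away (𝒮.deg ⊤ hY) f →+*
    Away (𝒮L.deg O hO) (u.gradedAt ⊤ hY O hO (le_top' O) f) :=
  Away.map (u.gradedAt ⊤ hY O hO (le_top' O)) f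

/-- Functions as fractions. -/
abbrev fzs : Γ(X, O) →+* Away (𝒮L.deg O hO) (u.gradedAt ⊤ hY O hO (le_top' O) f) :=
  (fromZeroRingHom (𝒮L.deg O hO)
    (Submonoid.powers (u.gradedAt ⊤ hY O hO (le_top' O) f))).comp (𝒮L.strZero O hO).hom

include hL hLq hj hPL hn hf hO hOeq

lemma isIso_awayι :
    IsIso (Proj.awayι (𝒮L.deg O hO) (u.gradedAt ⊤ hY O hO (le_top' O) f)
      (Graded.map_mem (u.gradedAt ⊤ hY O hO (le_top' O)) hf) hn) := by
  refine isIso_of_isOpenImmersion_of_opensRange_eq_top _ ?_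
  rw [Proj.opensRange_awayι, eq_top_iff]
  intro y _
  have hzO : pL (RelProj.emb pL chartL O hO y) ∈ O := by
    have : RelProj.emb pL chartL O hO y ∈ (RelProj.emb pL chartL O hO).opensRange := ⟨y, rfl⟩
    rwa [RelProjLib.opensRange_emb] at this
  have hzNV : pL (RelProj.emb pL chartL O hO y) ∈ NV u hY n f := hOeq.le hzO
  obtain ⟨⟨V, hV⟩, hzV⟩ := Opens.mem_iSup.mp hzNV
  obtain ⟨y', hy', h⟩ := (mem_emb_iff_exists hL hLq hj u hPL hY hn hf hO hzO).mpr
    ⟨V, (Nonvanishing.le_NV u hY hV).trans hOeq.ge, hzV, hV⟩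
  exact (RelProj.emb pL chartL O hO).isOpenEmbedding.injective h ▸ hy'

lemma fzs_bijective : Function.Bijective (fzs u hY (f := f) hO) := by
  haveI := isIso_awayι hL hLq hj u hPL hY hn hf hO hOeq
  haveI : IsIso (RelProjLib.affBase 𝒮L O hO) :=
    MorphismProperty.of_isPullback (P := MorphismProperty.isomorphisms Scheme.{u})
      (RelProjLib.isPullback_emb hPL O hO).flip (isIso_pL hL hLq hj hPL)
  have h : Proj.awayι (𝒮L.deg O hO) (u.gradedAt ⊤ hY O hO (le_top' O) f)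
      (Graded.map_mem (u.gradedAt ⊤ hY O hO (le_top' O)) hf) hn ≫ RelProjLib.affBase 𝒮L O hO =
      Spec.map (CommRingCat.ofHom (fzs u hY (f := f) hO)) := by
    rw [RelProjLib.affBase_eq, Proj.awayι_toSpecZero_assoc, ← Spec.map_comp]
    rfl
  haveI : IsIso (Spec.map (CommRingCat.ofHom (fzs u hY (f := f) hO))) := h ▸ inferInstance
  exact isIso_SpecMap_iff.mp this

include hr in
lemma restrict_iff (Q : MorphismProperty Scheme.{u}) [Q.RespectsIso] :
    Q (r ∣_ DPlus p chart hY f) ↔ Q (Spec.map (CommRingCat.ofHom (rHom u hY (f := f) hO))) := by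
  let c : RelProjLib.Idx (g := q) (𝒮 := 𝒮) := ⟨⊤, hY, O, hO, le_top' O, n, hn, f, hf⟩
  let s := RelProjLib.srcLift u pL chartL c
  let k := Proj.awayι (𝒮.deg ⊤ hY) f hf hn ≫ RelProj.emb p chart ⊤ hY
  have hk : k.opensRange = DPlus p chart hY f := by
    rw [Scheme.Hom.opensRange_comp, Proj.opensRange_awayι]
  have hcomm : Spec.map (CommRingCat.ofHom (rHom u hY (f := f) hO)) ≫ k = s ≫ r :=
    ((RelProjLib.isProjQMapOn_iff u r).mp hr c).symm
  have hrange : s.opensRange = r ⁻¹ᵁ k.opensRange := by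
    rw [hk]
    refine Opens.ext (Set.ext fun w => ?_)
    have e1 : w ∈ s.opensRange ↔ (RelProj.domQ u pL chartL).ι w ∈
        RelProj.emb pL chartL O hO ''ᵁ
          Proj.basicOpen (𝒮L.deg O hO) (u.gradedAt ⊤ hY O hO (le_top' O) f) := by
      refine Iff.trans ?_ (SetLike.ext_iff.mp (RelProjLib.opensRange_src u pL chartL c) _)
      constructor
      · rintro ⟨a, rfl⟩
        exact ⟨a, by rw [← Scheme.Hom.comp_apply, RelProjLib.srcLift_ι]⟩
      · rintro ⟨a, ha⟩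
        refine ⟨a, (RelProj.domQ u pL chartL).ι.isOpenEmbedding.injective ?_⟩
        rw [← Scheme.Hom.comp_apply, RelProjLib.srcLift_ι]
        exact ha
    refine e1.trans ?_
    have e2 : w ∈ r ⁻¹ᵁ DPlus p chart hY f ↔ (RelProj.domQ u pL chartL).ι w ∈
        (RelProj.domQ u pL chartL).ι ''ᵁ (r ⁻¹ᵁ DPlus p chart hY f) :=
      ⟨fun h => ⟨w, h, rfl⟩, fun ⟨w', h, e⟩ =>
        (RelProj.domQ u pL chartL).ι.isOpenEmbedding.injective e ▸ h⟩
    refine Iff.trans ?_ e2.symm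
    rw [mem_preimage_basicOpen_iff hL hLq hj u hPL hr hY hn hf]
    constructor
    · intro h
      have hz : pL ((RelProj.domQ u pL chartL).ι w) ∈ O := by
        have := Scheme.Hom.image_le_opensRange _ _ h
        rwa [RelProjLib.opensRange_emb] at this
      obtain ⟨V, -, hzV, hV⟩ := (mem_emb_iff_exists hL hLq hj u hPL hY hn hf hO hz).mp h
      exact ⟨V, hzV, hV⟩
    · rintro ⟨V, hzV, hV⟩
      have hVO : V.1 ≤ O := (Nonvanishing.le_NV u hY hV).trans hOeq.ge
      exact (mem_emb_iff_exists hL hLq hj u hPL hY hn hf hO (hVO hzV)).mpr ⟨V, hVO, hzV, hV⟩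
  have hpb : IsPullback (Spec.map (CommRingCat.ofHom (rHom u hY (f := f) hO))) s k r :=
    IsOpenImmersion.isPullback _ _ _ _ hcomm.symm hrange.symm
  rw [show DPlus p chart hY f = k.opensRange from hk.symm,
    Q.arrow_mk_iso_iff (morphismRestrictOpensRange r k)]
  exact (Q.arrow_mk_iso_iff (Arrow.isoMk hpb.flip.isoPullback (Iso.refl _)
    (by simp [IsPullback.isoPullback_hom_snd]))).symm

lemma surjective_iff :
    Function.Surjective (rHom u hY (f := f) hO) ↔
      ∀ x : Γ(X, O), ∃ (m : ℕ) (_ : 0 < m) (s' : 𝒮.presheaf.obj (op ⊤)) (_ : s' ∈ 𝒮.deg ⊤ hY (m * n)),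
        (𝒮L.str.app (op O)).hom x * ((u.appLE ⊤ O (le_top' O)).hom f) ^ m =
          (u.appLE ⊤ O (le_top' O)).hom s' := by
  let ψ := u.gradedAt ⊤ hY O hO (le_top' O)
  constructor
  · intro hs x
    obtain ⟨z, hz⟩ := hs (fzs u hY (f := f) hO x)
    obtain ⟨k, a, ha, rfl⟩ := Away.mk_surjective (𝒮.deg ⊤ hY) hf z
    have h := congrArg HomogeneousLocalization.val hz
    rw [rHom, Away.map_mk, Away.val_mk] at h
    replace h : (Localization.mk (ψ a) ⟨ψ f ^ k, k, rfl⟩ : Localization (Submonoid.powers (ψ f))) =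
        Localization.mk ((𝒮L.str.app (op O)).hom x) 1 := h
    rw [Localization.mk_eq_mk_iff, Localization.r_iff_exists] at h
    obtain ⟨⟨_, i, rfl⟩, hi⟩ := h
    simp only [Submonoid.coe_one, one_mul] at hi
    refine ⟨i + k + 1, by omega, f ^ (i + 1) * a, ?_, ?_⟩
    · have := SetLike.mul_mem_graded (SetLike.pow_mem_graded (i + 1) hf) ha
      have e : (i + 1) • n + k • n = (i + k + 1) * n := by simp only [smul_eq_mul]; ring
      exact e ▸ this
    · change _ * ψ f ^ (i + k + 1) = ψ (f ^ (i + 1) * a)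
      rw [map_mul, map_pow]
      linear_combination (-ψ f) * hi
  · intro h z
    obtain ⟨x, rfl⟩ := (fzs_bijective hL hLq hj u hPL hY hn hf hO hOeq).2 z
    obtain ⟨m, -, s', hs', he⟩ := h x
    refine ⟨Away.mk (𝒮.deg ⊤ hY) hf m s' (by rwa [smul_eq_mul]), HomogeneousLocalization.val_injective _ ?_⟩
    rw [rHom, Away.map_mk, Away.val_mk]
    change (Localization.mk (ψ s') ⟨ψ f ^ m, m, rfl⟩ : Localization (Submonoid.powers (ψ f))) =
      Localization.mk ((𝒮L.str.app (op O)).hom x) 1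
    rw [Localization.mk_eq_mk_iff, Localization.r_iff_exists]
    refine ⟨1, ?_⟩
    change (1 : 𝒮L.presheaf.obj (op O)) * (1 * ψ s') = 1 * (ψ f ^ m * (𝒮L.str.app (op O)).hom x)
    rw [one_mul, one_mul, one_mul, mul_comm]
    exact he.symm

omit hL hLq hj hPL hOeq in
lemma injective_iff :
    Function.Injective (rHom u hY (f := f) hO) ↔
      ∀ m : ℕ, 0 < m → ∀ s' ∈ 𝒮.deg ⊤ hY (m * n),
        (u.appLE ⊤ O (le_top' O)).hom s' = 0 → ∃ k : ℕ, 0 < k ∧ f ^ k * s' = 0 := by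
  let ψ := u.gradedAt ⊤ hY O hO (le_top' O)
  constructor
  · intro hi m _ s' hs' h0
    replace h0 : ψ s' = 0 := h0
    have hz : Away.mk (𝒮.deg ⊤ hY) hf m s' (by rwa [smul_eq_mul]) = 0 := hi (by
      refine HomogeneousLocalization.val_injective _ ?_
      rw [map_zero, rHom, Away.map_mk, Away.val_mk, HomogeneousLocalization.val_zero]
      change (Localization.mk (ψ s') ⟨ψ f ^ m, m, rfl⟩ : Localization (Submonoid.powers (ψ f))) = 0
      rw [h0, Localization.mk_zero])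
    have h := congrArg HomogeneousLocalization.val hz
    rw [Away.val_mk, HomogeneousLocalization.val_zero, Localization.mk_eq_mk',
      IsLocalization.mk'_eq_zero_iff] at h
    obtain ⟨⟨_, k, rfl⟩, hk⟩ := h
    exact ⟨k + 1, by omega, by rw [pow_succ', mul_assoc, hk, mul_zero]⟩
  · intro h
    rw [injective_iff_map_eq_zero]
    intro z hz
    obtain ⟨k, a, ha, rfl⟩ := Away.mk_surjective (𝒮.deg ⊤ hY) hf z
    have h1 := congrArg HomogeneousLocalization.val hz
    rw [rHom, Away.map_mk, Away.val_mk, HomogeneousLocalization.val_zero, Localization.mk_eq_mk',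
      IsLocalization.mk'_eq_zero_iff] at h1
    obtain ⟨⟨_, i, rfl⟩, hi⟩ := h1
    obtain ⟨l, -, hl⟩ := h (i + k + 1) (by omega) (f ^ (i + 1) * a) (by
      have := SetLike.mul_mem_graded (SetLike.pow_mem_graded (i + 1) hf) ha
      have e : (i + 1) • n + k • n = (i + k + 1) * n := by simp only [smul_eq_mul]; ring
      exact e ▸ this) (by
      change ψ (f ^ (i + 1) * a) = 0
      rw [map_mul, map_pow, pow_succ', mul_assoc, hi, mul_zero])
    refine HomogeneousLocalization.val_injective _ ?_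
    rw [Away.val_mk, HomogeneousLocalization.val_zero, Localization.mk_eq_mk',
      IsLocalization.mk'_eq_zero_iff]
    exact ⟨⟨f ^ (l + i + 1), l + i + 1, rfl⟩, by
      change f ^ (l + i + 1) * a = 0
      rw [← hl]; ring⟩

include hr in
theorem isClosedImmersion_restrict_iff :
    IsClosedImmersion (r ∣_ DPlus p chart hY f) ↔
      ∀ x : Γ(X, O), ∃ (m : ℕ) (_ : 0 < m) (s' : 𝒮.presheaf.obj (op ⊤)) (_ : s' ∈ 𝒮.deg ⊤ hY (m * n)),
        (𝒮L.str.app (op O)).hom x * ((u.appLE ⊤ O (le_top' O)).hom f) ^ m =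
          (u.appLE ⊤ O (le_top' O)).hom s' := by
  rw [← surjective_iff hL hLq hj u hPL hY hn hf hO hOeq]
  refine (restrict_iff hL hLq hj u hPL hr hY hn hf hO hOeq @IsClosedImmersion).trans ⟨fun h => ?_, fun h => ?_⟩
  · haveI := h
    have e := (IsClosedImmersion.isAffine_surjective_of_isAffine
      (f := Spec.map (CommRingCat.ofHom (rHom u hY (f := f) hO)))).2
    refine fun z => ?_
    obtain ⟨w, hw⟩ := e ((Scheme.ΓSpecIso _).inv z)
    refine ⟨(Scheme.ΓSpecIso _).hom w, ?_⟩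
    have := congr($(Scheme.ΓSpecIso_naturality (CommRingCat.ofHom (rHom u hY (f := f) hO))) w)
    refine (Eq.symm this).trans ?_
    exact (congrArg (fun v => (Scheme.ΓSpecIso (CommRingCat.of (Away (𝒮L.deg O hO)
      (u.gradedAt ⊤ hY O hO (le_top' O) f)))).hom.hom v) hw).trans (CommRingCat.hom_inv_apply (Scheme.ΓSpecIso (CommRingCat.of (Away (𝒮L.deg O hO)
      (u.gradedAt ⊤ hY O hO (le_top' O) f)))) z)
  · exact IsClosedImmersion.spec_of_surjective _ h

include hr in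
theorem isIso_restrict_iff :
    IsIso (r ∣_ DPlus p chart hY f) ↔
      (∀ x : Γ(X, O), ∃ (m : ℕ) (_ : 0 < m) (s' : 𝒮.presheaf.obj (op ⊤)) (_ : s' ∈ 𝒮.deg ⊤ hY (m * n)),
        (𝒮L.str.app (op O)).hom x * ((u.appLE ⊤ O (le_top' O)).hom f) ^ m =
          (u.appLE ⊤ O (le_top' O)).hom s') ∧
      ∀ m : ℕ, 0 < m → ∀ s' ∈ 𝒮.deg ⊤ hY (m * n),
        (u.appLE ⊤ O (le_top' O)).hom s' = 0 → ∃ k : ℕ, 0 < k ∧ f ^ k * s' = 0 := by
  rw [← surjective_iff hL hLq hj u hPL hY hn hf hO hOeq, ← injective_iff u hY hn hf hO]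
  refine (restrict_iff hL hLq hj u hPL hr hY hn hf hO hOeq (MorphismProperty.isomorphisms Scheme.{u})).trans ?_
  change IsIso _ ↔ _
  rw [isIso_SpecMap_iff]
  exact ⟨fun h => ⟨h.2, h.1⟩, fun h => ⟨h.2, h.1⟩⟩

end chart

end Groth.Agent.SymAlg
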