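import Groth.Agent.SymAlg.VAmpleTensor
import Groth.Agent.SymAlg.VAmpleMul

/-!
Products of very ample data: `A ⊗ B` is very ample when `(r_A, r_B)` is an immersion into the
product of the bundles.
-/

set_option autoImplicit false
set_option backward.isDefEq.respectTransparency false
set_option linter.style.haveILetI false
set_option linter.unusedSectionVars false

universe u

open CategoryTheory CategoryTheory.Limits DirectSum AlgebraicGeometry TopologicalSpace Opposite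
open scoped HomogeneousIdeal
open Groth.Agent.QC (res resO res_res res_self res_smul app_res)

noncomputable section

namespace Groth.Agent.SymAlg

open Groth.Agent
open TMul (IsGen tm)

/-- A bilinear map of modules, on sections. -/
structure Pairing {X : Scheme.{u}} (M N P : X.Modules) where
  bil : ∀ U : X.Opens, Γ(M, U) →ₗ[Γ(X, U)] Γ(N, U) →ₗ[Γ(X, U)] Γ(P, U)
  res_bil : ∀ {V U : X.Opens} (h : V ≤ U) (m : Γ(M, U)) (n : Γ(N, U)),
    res P h (bil U m n) = bil V (res M h m) (res N h n)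

namespace Pairing

variable {X : Scheme.{u}} {M N P : X.Modules}

/-- Exchanging the factors. -/
def flip (π : Pairing M N P) : Pairing N M P where
  bil U := (π.bil U).flip
  res_bil h m n := π.res_bil h n m

/-- Generators pair to generators. -/
def KeepsGen (π : Pairing M N P) : Prop :=
  ∀ {U : X.Opens} {a : Γ(M, U)} {b : Γ(N, U)}, IsGen a → IsGen b → IsGen (π.bil U a b)

lemma KeepsGen.flip {π : Pairing M N P} (h : π.KeepsGen) : π.flip.KeepsGen := fun ha hb => h hb ha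

variable (M N) in
/-- The tensor product. -/
def tensor : Pairing M N (CohB1.tensorMod M N) where
  bil U := LinearMap.mk₂ Γ(X, U) (fun m n => tm m n) TMul.tm_add (fun r a n => TMul.smul_tm r a n)
    TMul.add_tm (fun r a n => TMul.tm_smul r a n)
  res_bil h m n := TMul.res_tm h m n

lemma keepsGen_tensor : (tensor M N).KeepsGen := fun ha hb => TMul.isGen_tm ha hb

variable {𝒮 : RelProj.QCGrAlg X} {j : M ⟶ 𝒮.toModule} {𝒮' : RelProj.QCGrAlg X} {j' : P ⟶ 𝒮'.toModule}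

/-- A homomorphism multiplying by a section of `N`. -/
structure IsTwist (π : Pairing M N P) (j : M ⟶ 𝒮.toModule) (j' : P ⟶ 𝒮'.toModule) {U : X.Opens}
    (hU : IsAffineOpen U) (e : Γ(N, U)) (ψ : 𝒮.presheaf.obj (op U) →+* 𝒮'.presheaf.obj (op U)) : Prop where
  str : ∀ r, ψ (strL 𝒮 U r) = strL 𝒮' U r
  map_jL : ∀ m, ψ (jL j U m) = jL j' U (π.bil U m e)
  mem : ∀ {d : ℕ} {a : 𝒮.presheaf.obj (op U)}, a ∈ 𝒮.deg U hU d → ψ a ∈ 𝒮'.deg U hU d

theorem exists_isTwist (π : Pairing M N P) (hM : Coh.IsQCoh M) (hj : RelProj.IsGrSymAlg M 𝒮 j)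
    (hj' : RelProj.IsGrSymAlg P 𝒮' j') {U : X.Opens} (hU : IsAffineOpen U) (e : Γ(N, U)) :
    ∃ ψ, π.IsTwist j j' hU e ψ := by
  haveI : M.IsQuasicoherent := hM
  obtain ⟨γ, hγ, hjγ⟩ := exists_affineIso hM hj.1
  let W : X.AffineZariskiSite := ⟨U, hU⟩
  let eA : 𝒮.presheaf.obj (op U) ≃+* SymmetricAlgebra Γ(X, U) Γ(M, U) :=
    (γ.app (op W)).commRingCatIsoToRingEquiv
  have h1 : ∀ r, eA (strL 𝒮 U r) = algebraMap _ _ r := fun r => congr($(NatTrans.congr_app hγ (op W)) r)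
  have h2 : ∀ m, eA (jL j U m) = SymmetricAlgebra.ι _ _ m := fun m => by
    rw [show jL j U m = eA.symm (SymmetricAlgebra.ι _ _ m) from hjγ W m, RingEquiv.apply_symm_apply]
  let ψ := (symLift (strL 𝒮' U)
    (AddMonoidHom.mk' (fun m => jL j' U (π.bil U m e)) fun m m' => by
      rw [map_add, LinearMap.add_apply]; exact map_add (j'.app U).hom _ _)
    (fun r m => by
      change jL j' U (π.bil U (r • m) e) = _
      rw [map_smul, LinearMap.smul_apply]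
      exact Scheme.Modules.Hom.app_smul j' _ _)).comp eA.toRingHom
  have hs : ∀ r, ψ (strL 𝒮 U r) = strL 𝒮' U r := fun r =>
    (congrArg (symLift _ _ _) (h1 r)).trans (symLift_algebraMap ..)
  have hm : ∀ m, ψ (jL j U m) = jL j' U (π.bil U m e) := fun m =>
    (congrArg (symLift _ _ _) (h2 m)).trans (symLift_ι ..)
  refine ⟨ψ, hs, hm, fun {d a} ha => map_mem_of_gen (𝒮.deg U hU) (𝒮'.deg U hU) ψ
    (SymAlgGen.gen_eq_top hj.1 hU) ?_ ha⟩
  rintro _ (⟨r, rfl⟩ | ⟨m, rfl⟩)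
  · exact ⟨0, 𝒮.str_mem U hU r, (hs r).symm ▸ 𝒮'.str_mem U hU r⟩
  · exact ⟨1, hj.2 U hU m, (hm m).symm ▸ hj'.2 U hU _⟩

end Pairing

variable {X Y : Scheme.{u}} {q : X ⟶ Y}

/-- A section of `q_* L` as a section over the inverse image. -/
abbrev sec {E : Y.Modules} {L : X.Modules} (κ : E ⟶ (Scheme.Modules.pushforward q).obj L) (U : Y.Opens)
    (m : Γ(E, U)) : Γ(L, q ⁻¹ᵁ U) := κ.app U m

/-- `u` extends `κ`. -/
def Extends {E : Y.Modules} {L : X.Modules} {𝒮 : RelProj.QCGrAlg Y} {𝒮L : RelProj.QCGrAlg X}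
    (j : E ⟶ 𝒮.toModule) (jl : L ⟶ 𝒮L.toModule) (κ : E ⟶ (Scheme.Modules.pushforward q).obj L)
    (u : RelProj.QGrHom q 𝒮 𝒮L) : Prop :=
  ∀ (U : Y.Opens), IsAffineOpen U → ∀ m : Γ(E, U),
    (u.app U).hom (j.app U m : 𝒮.presheaf.obj (op U)) = jL jl (q ⁻¹ᵁ U) (κ.app U m)

section Side

variable {L L' L'' : X.Modules} {E E' E'' : Y.Modules}
  {𝒯 : RelProj.QCGrAlg Y} {j : E ⟶ 𝒯.toModule} {𝒯'' : RelProj.QCGrAlg Y} {j'' : E'' ⟶ 𝒯''.toModule}
  {𝒮L : RelProj.QCGrAlg X} {jl : L ⟶ 𝒮L.toModule} {𝒮L'' : RelProj.QCGrAlg X} {jl'' : L'' ⟶ 𝒮L''.toModule}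
  {κ : E ⟶ (Scheme.Modules.pushforward q).obj L} {κ' : E' ⟶ (Scheme.Modules.pushforward q).obj L'}
  {κ'' : E'' ⟶ (Scheme.Modules.pushforward q).obj L''}
  {u : RelProj.QGrHom q 𝒯 𝒮L} {u'' : RelProj.QGrHom q 𝒯'' 𝒮L''}
  (π : Pairing E E' E'') (τ : Pairing L L' L'')
  (hκ : ∀ (U : Y.Opens) (m : Γ(E, U)) (n : Γ(E', U)),
    sec κ'' U (π.bil U m n) = τ.bil (q ⁻¹ᵁ U) (sec κ U m) (sec κ' U n))
  (hE : Coh.IsQCoh E) (hj : RelProj.IsGrSymAlg E 𝒯 j)
  (hLq : Coh.IsQCoh L) (hjl : RelProj.IsGrSymAlg L 𝒮L jl) (hjl'' : RelProj.IsGrSymAlg L'' 𝒮L'' jl'')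
  (hu : Extends j jl κ u) (hu'' : Extends j'' jl'' κ'' u'')
  {U : Y.Opens} {hU : IsAffineOpen U} {e' : Γ(E', U)}
  {ψ : 𝒯.presheaf.obj (op U) →+* 𝒯''.presheaf.obj (op U)} (hψ : π.IsTwist j j'' hU e' ψ)

include hκ hE hj hu hu'' hψ in
theorem appLE_twist {V : X.Opens} (hV : IsAffineOpen V) (h : V ≤ q ⁻¹ᵁ U)
    {Φ : 𝒮L.presheaf.obj (op V) →+* 𝒮L''.presheaf.obj (op V)}
    (hΦ : τ.IsTwist jl jl'' hV (res L' h (sec κ' U e')) Φ) (a : 𝒯.presheaf.obj (op U)) :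
    Φ ((u.appLE U V h).hom a) = (u''.appLE U V h).hom (ψ a) := by
  haveI : E.IsQuasicoherent := hE
  refine RingHom.congr_fun (RingHom.eq_of_eqOn_set_dense (f := Φ.comp (u.appLE U V h).hom)
    (g := (u''.appLE U V h).hom.comp ψ) (SymAlgGen.gen_eq_top hj.1 hU) ?_) a
  rintro _ (⟨r, rfl⟩ | ⟨m, rfl⟩)
  · change Φ ((u.appLE U V h).hom (strL 𝒯 U r)) = (u''.appLE U V h).hom (ψ (strL 𝒯 U r))
    rw [hψ.str, show (u.appLE U V h).hom (strL 𝒯 U r) = strL 𝒮L V ((q.appLE U V h).hom r) from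
      congr(($(u.str_appLE U V h)).hom r), hΦ.str]
    exact (congr(($(u''.str_appLE U V h)).hom r)).symm
  · change Φ ((u.appLE U V h).hom (jL j U m)) = (u''.appLE U V h).hom (ψ (jL j U m))
    rw [appLE_of_app hu hU h, hΦ.map_jL, hψ.map_jL, appLE_of_app hu'' hU h]
    refine congrArg (jL jl'' V) ((τ.res_bil h _ _).symm.trans (congrArg (res L'' h) (hκ U m e').symm))

include hκ hE hj hLq hjl hjl'' hu hu'' hψ in
theorem appLE_twist_triv {V : X.Opens} (hV : IsAffineOpen V) (h : V ≤ q ⁻¹ᵁ U) {n : ℕ}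
    {a : 𝒯.presheaf.obj (op U)} {g : Γ(L, V)} {g' : Γ(L', V)} {C c' : Γ(X, V)}
    (hC : (u.appLE U V h).hom a = strL 𝒮L V C * jL jl V g ^ n)
    (hc' : c' • g' = res L' h (sec κ' U e')) :
    (u''.appLE U V h).hom (ψ a) = strL 𝒮L'' V (C * c' ^ n) * jL jl'' V (τ.bil V g g') ^ n := by
  obtain ⟨Φ, hΦ⟩ := τ.exists_isTwist hLq hjl hjl'' hV (res L' h (sec κ' U e'))
  rw [← appLE_twist π τ hκ hE hj hu hu'' hψ hV h hΦ, hC, map_mul, map_pow, hΦ.str, hΦ.map_jL, ← hc',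
    map_smul, show jL jl'' V (c' • τ.bil V g g') = strL 𝒮L'' V c' * jL jl'' V (τ.bil V g g') from
      Scheme.Modules.Hom.app_smul jl'' c' _, mul_pow, ← map_pow, ← mul_assoc, ← map_mul]

include hκ hE hj hLq hjl hjl'' hu hu'' hψ in
/-- Fractions twist to fractions. -/
theorem frac_twist {O O' : X.Opens} (hO : O ≤ q ⁻¹ᵁ U) (hO' : IsAffineOpen O') (h : O' ≤ O)
    {a s : 𝒯.presheaf.obj (op U)} {x : Γ(X, O)} {k : ℕ}
    (he : strL 𝒮L O x * (u.appLE U O hO).hom a ^ k = (u.appLE U O hO).hom s) :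
    strL 𝒮L'' O' (resO X h x) * (u''.appLE U O' (h.trans hO)).hom (ψ a) ^ k =
      (u''.appLE U O' (h.trans hO)).hom (ψ s) := by
  obtain ⟨Φ, hΦ⟩ := τ.exists_isTwist hLq hjl hjl'' hO' (res L' (h.trans hO) (sec κ' U e'))
  have h0 := congrArg Φ (congrArg (resL 𝒮L h) he)
  rw [map_mul, map_pow, resL_appLE, resL_appLE, resL_strL, map_mul, map_pow, hΦ.str,
    appLE_twist π τ hκ hE hj hu hu'' hψ hO' (h.trans hO) hΦ,
    appLE_twist π τ hκ hE hj hu hu'' hψ hO' (h.trans hO) hΦ] at h0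
  exact h0

include hκ hE hj hu'' hψ in
/-- Ratios of sections of `E'` are fractions. -/
theorem ratio_twist (hj'' : RelProj.IsGrSymAlg E'' 𝒯'' j'') {O' : X.Opens} (h : O' ≤ q ⁻¹ᵁ U)
    {n : ℕ} (hn : 0 < n) {a : 𝒯.presheaf.obj (op U)} (ha : a ∈ 𝒯.deg U hU n) (m : Γ(E', U))
    (ρ : Γ(X, O')) (hρ : ρ • res L' h (sec κ' U e') = res L' h (sec κ' U m)) :
    ∃ s ∈ 𝒯''.deg U hU n,
      strL 𝒮L'' O' ρ * (u''.appLE U O' h).hom (ψ a) = (u''.appLE U O' h).hom s := by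
  classical
  haveI : E.IsQuasicoherent := hE
  let B := (u''.appLE U O' h).hom
  let S : ℕ → 𝒯.presheaf.obj (op U) → Prop := fun d y =>
    ∃ s ∈ 𝒯''.deg U hU d, strL 𝒮L'' O' ρ * B (ψ y) = B s
  have hM : ∀ y ∈ Submonoid.closure
      (Set.range (SymAlgGen.strS 𝒯.toQCAlg U) ∪ Set.range (SymAlgGen.jsec j U)),
      ∃ d, y ∈ 𝒯.deg U hU d ∧ (0 < d → S d y) := fun y hy => by
    induction hy using Submonoid.closure_induction with
    | mem y hy =>
      obtain ⟨c, rfl⟩ | ⟨l, rfl⟩ := hy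
      · exact ⟨0, 𝒯.str_mem U hU c, fun h => absurd h (lt_irrefl 0)⟩
      · refine ⟨1, hj.2 U hU l, fun _ => ⟨jL j'' U (π.bil U l m), hj''.2 U hU _, ?_⟩⟩
        change strL 𝒮L'' O' ρ * B (ψ (jL j U l)) = _
        rw [hψ.map_jL]
        change strL 𝒮L'' O' ρ * (u''.appLE U O' h).hom (jL j'' U (π.bil U l e')) =
          (u''.appLE U O' h).hom (jL j'' U (π.bil U l m))
        rw [appLE_of_app hu'' hU, appLE_of_app hu'' hU]
        refine (Scheme.Modules.Hom.app_smul jl'' ρ _).symm.trans (congrArg (jL jl'' O') ?_)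
        change ρ • res L'' h (sec κ'' U _) = res L'' h (sec κ'' U _)
        rw [hκ, hκ, τ.res_bil, τ.res_bil, ← map_smul, hρ]
    | one => exact ⟨0, SetLike.one_mem_graded _, fun h => absurd h (lt_irrefl 0)⟩
    | mul y z _ _ hy hz =>
      obtain ⟨d, hy, hyS⟩ := hy
      obtain ⟨d', hz, hzS⟩ := hz
      refine ⟨d + d', SetLike.mul_mem_graded hy hz, fun h => ?_⟩
      rcases Nat.eq_zero_or_pos d with hd | hd
      · obtain ⟨s, hs, he⟩ := hzS (by omega)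
        refine ⟨ψ y * s, SetLike.mul_mem_graded (hψ.mem hy) hs, ?_⟩
        rw [map_mul, map_mul, map_mul, ← he]
        ring
      · obtain ⟨s, hs, he⟩ := hyS hd
        refine ⟨s * ψ z, SetLike.mul_mem_graded hs (hψ.mem hz), ?_⟩
        rw [map_mul, map_mul, map_mul, ← he]
        ring
  suffices key : ∀ z, S n (decompose (𝒯.deg U hU) z n : 𝒯.presheaf.obj (op U)) by
    have := key a
    rwa [decompose_of_mem_same _ ha] at this
  intro z
  have hz : z ∈ Subring.closure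
      (Set.range (SymAlgGen.strS 𝒯.toQCAlg U) ∪ Set.range (SymAlgGen.jsec j U)) :=
    (SymAlgGen.gen_eq_top hj.1 hU).ge (Subring.mem_top z)
  rw [Subring.mem_closure_iff] at hz
  have hS0 : S n 0 := ⟨0, zero_mem _, by simp⟩
  induction hz using AddSubgroup.closure_induction with
  | mem y hy =>
    obtain ⟨d, hd, hdS⟩ := hM y hy
    by_cases h : d = n
    · subst h
      rw [decompose_of_mem_same _ hd]
      exact hdS hn
    · rw [decompose_of_mem_ne _ hd h]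
      exact hS0
  | zero => rw [decompose_zero]; exact hS0
  | add y z _ _ hy hz =>
    obtain ⟨s, hs, he⟩ := hy
    obtain ⟨t, ht, he'⟩ := hz
    refine ⟨s + t, add_mem hs ht, ?_⟩
    rw [decompose_add, DirectSum.add_apply, AddMemClass.coe_add, map_add, map_add, map_add, mul_add, he, he']
  | neg y _ hy =>
    obtain ⟨s, hs, he⟩ := hy
    refine ⟨-s, neg_mem hs, ?_⟩
    rw [decompose_neg]
    change strL 𝒮L'' O' ρ * B (ψ (-(decompose (𝒯.deg U hU) y n : 𝒯.presheaf.obj (op U)))) = _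
    rw [map_neg, map_neg, map_neg, mul_neg, he]

end Side

section Gen

variable {L : X.Modules} {E : Y.Modules} {𝒯 : RelProj.QCGrAlg Y} {j : E ⟶ 𝒯.toModule}
  {𝒮L : RelProj.QCGrAlg X} {jl : L ⟶ 𝒮L.toModule} {κ : E ⟶ (Scheme.Modules.pushforward q).obj L}
  {u : RelProj.QGrHom q 𝒯 𝒮L}

/-- A degree-one pair comes from a section of the module. -/
theorem exists_sec_of_pair (hE : Coh.IsQCoh E) (hLq : Coh.IsQCoh L) (hj : RelProj.IsGrSymAlg E 𝒯 j)
    (hjl : RelProj.IsGrSymAlg L 𝒮L jl) (hu : Extends j jl κ u) (c : DegOnePair u jl) :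
    ∃ m : Γ(E, c.U), res L c.le (sec κ c.U m) = c.m := by
  haveI : E.IsQuasicoherent := hE
  obtain ⟨m, hm⟩ := exists_jsec_of_mem_deg_one' hj c.hU c.he
  have h3 : jL jl c.U' (res L c.le (sec κ c.U m)) = jL jl c.U' c.m := by
    rw [← appLE_of_app hu c.hU c.le, show jL j c.U m = c.e from hm]
    exact c.eq
  obtain ⟨a, ha⟩ := exists_smul_eq c.gen (res L c.le (sec κ c.U m))
  rw [← ha, show jL jl c.U' (a • c.m) = strL 𝒮L c.U' a * jL jl c.U' c.m from
    Scheme.Modules.Hom.app_smul jl a _] at h3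
  have h4 := coeff_inj hLq hjl c.hU' c.gen (n := 1) (c := a) (c' := 1)
    (by rw [map_one, one_mul, pow_one]; exact h3)
  exact ⟨m, by rw [← ha, h4, one_smul]⟩

/-- Degree-one pairs everywhere give an epimorphism `q^* E ⟶ L`. -/
theorem epi_of_pairs (hE : Coh.IsQCoh E) (hLq : Coh.IsQCoh L) (hj : RelProj.IsGrSymAlg E 𝒯 j)
    (hjl : RelProj.IsGrSymAlg L 𝒮L jl) (hu : Extends j jl κ u)
    (hp : ∀ x : X, ∃ c : DegOnePair u jl, x ∈ c.U') :
    Epi (((Scheme.Modules.pullbackPushforwardAdjunction q).homEquiv E L).symm κ) := by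
  let adj := Scheme.Modules.pullbackPushforwardAdjunction q
  let φ := (adj.homEquiv E L).symm κ
  refine InvGen.epi_of_locally φ fun U t x hx => ?_
  obtain ⟨c, hxc⟩ := hp x
  obtain ⟨V, hV, hxV, hle⟩ := exists_isAffineOpen_mem_and_subset (U := U ⊓ c.U') (x := x) ⟨hx, hxc⟩
  have h1 : V ≤ U := fun y hy => (hle hy).1
  have h2 : V ≤ c.U' := fun y hy => (hle hy).2
  obtain ⟨m, hm⟩ := exists_sec_of_pair hE hLq hj hjl hu c
  obtain ⟨a, ha⟩ := exists_smul_eq (isGen_res h2 c.gen) (res L h1 t)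
  refine ⟨V, h1, hxV, a • res ((Scheme.Modules.pullback q).obj E) (h2.trans c.le)
    (OmegaSh.pullSect q E c.U m), ?_⟩
  rw [Scheme.Modules.Hom.app_smul, ← ha, ← hm, res_res]
  refine congrArg (a • ·) ((app_res φ _ _).symm.trans (congrArg (res L _) ?_))
  have h5 : (adj.unit.app E ≫ (Scheme.Modules.pushforward q).map φ) = κ :=
    (adj.homEquiv_unit E L φ).symm.trans (Equiv.apply_symm_apply _ _)
  exact congr(($h5).app c.U m)

/-- Over a trivialising affine open a section of `E` is invertible near each point. -/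
theorem exists_sec_unit (hE : Coh.IsQCoh E) (hLq : Coh.IsQCoh L) (hj : RelProj.IsGrSymAlg E 𝒯 j)
    (hjl : RelProj.IsGrSymAlg L 𝒮L jl) (hu : Extends j jl κ u)
    (hp : ∀ x : X, ∃ c : DegOnePair u jl, x ∈ c.U') {U : Y.Opens} (hU : IsAffineOpen U) {W : X.Opens}
    (hW : IsAffineOpen W) (h : W ≤ q ⁻¹ᵁ U) {g : Γ(L, W)} (hg : IsGen g) :
    ∃ c : Γ(E, U) → Γ(X, W), (∀ m, c m • g = res L h (sec κ U m)) ∧ Ideal.span (Set.range c) = ⊤ := by
  haveI := epi_of_pairs hE hLq hj hjl hu hp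
  have htop := span_range_eq_top hE hLq
    (((Scheme.Modules.pullbackPushforwardAdjunction q).homEquiv E L).symm κ) hU hW h
  rw [Equiv.apply_symm_apply] at htop
  choose c hc using fun m : Γ(E, U) => exists_smul_eq hg (res L h (sec κ U m))
  exact ⟨c, hc, span_coeff_eq_top hg _ htop c hc⟩

end Gen

section Main

variable {A B : X.Modules} {EA EB : Y.Modules} {𝒯A 𝒯B : RelProj.QCGrAlg Y}
  {jA : EA ⟶ 𝒯A.toModule} {jB : EB ⟶ 𝒯B.toModule} {𝒮A 𝒮B : RelProj.QCGrAlg X}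
  {jlA : A ⟶ 𝒮A.toModule} {jlB : B ⟶ 𝒮B.toModule}
  {κA : EA ⟶ (Scheme.Modules.pushforward q).obj A} {κB : EB ⟶ (Scheme.Modules.pushforward q).obj B}

/-- Near `x` the pair `(r_A, r_B)` is a closed immersion over a product of `D₊`s. -/
def PairData (uA : RelProj.QGrHom q 𝒯A 𝒮A) (uB : RelProj.QGrHom q 𝒯B 𝒮B) (x : X) : Prop :=
  ∃ (U : Y.Opens) (hU : IsAffineOpen U) (n : ℕ) (a : 𝒯A.presheaf.obj (op U)) (m : ℕ)
    (b : 𝒯B.presheaf.obj (op U)),
    0 < n ∧ 0 < m ∧ a ∈ 𝒯A.deg U hU n ∧ b ∈ 𝒯B.deg U hU m ∧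
      x ∈ Rel.NV uA hU n a ∧ x ∈ Rel.NV uB hU m b ∧
      IsAffineOpen (Rel.NV uA hU n a ⊓ Rel.NV uB hU m b) ∧
      Subring.closure
        (Rel.condSet uA hU n a (Rel.NV uA hU n a ⊓ Rel.NV uB hU m b)
            (inf_le_left.trans (Rel.NV_le uA hU n a)) ∪
          Rel.condSet uB hU m b (Rel.NV uA hU n a ⊓ Rel.NV uB hU m b)
            (inf_le_left.trans (Rel.NV_le uA hU n a))) = ⊤

set_option maxHeartbeats 4000000 in
/-- `A ⊗ B` is very ample when `(r_A, r_B)` is an immersion into the product. -/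
theorem exists_localData_of_pairData (hA : PicF.IsInvertible A) (hB : PicF.IsInvertible B)
    (hEA : Coh.IsQCoh EA) (hjA : RelProj.IsGrSymAlg EA 𝒯A jA) (hjlA : RelProj.IsGrSymAlg A 𝒮A jlA)
    {uA : RelProj.QGrHom q 𝒯A 𝒮A} (huA : Extends jA jlA κA uA)
    (hpA : ∀ x : X, ∃ c : DegOnePair uA jlA, x ∈ c.U')
    (hEB : Coh.IsQCoh EB) (hjB : RelProj.IsGrSymAlg EB 𝒯B jB) (hjlB : RelProj.IsGrSymAlg B 𝒮B jlB)
    {uB : RelProj.QGrHom q 𝒯B 𝒮B} (huB : Extends jB jlB κB uB)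
    (hpB : ∀ x : X, ∃ c : DegOnePair uB jlB, x ∈ c.U')
    (hdata : ∀ x, PairData uA uB x) :
    ∃ (𝒮L : RelProj.QCGrAlg X) (jl : CohB1.tensorMod A B ⟶ 𝒮L.toModule)
      (_ : RelProj.IsGrSymAlg (CohB1.tensorMod A B) 𝒮L jl) (𝒯 : RelProj.QCGrAlg Y)
      (j : CohB1.tensorMod EA EB ⟶ 𝒯.toModule) (_ : RelProj.IsGrSymAlg (CohB1.tensorMod EA EB) 𝒯 j)
      (u : RelProj.QGrHom q 𝒯 𝒮L),
      (∀ x, LocalData u x) ∧ ∀ x : X, ∃ c : DegOnePair u jl, x ∈ c.U' := by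
  classical
  have hAq : Coh.IsQCoh A := TMul.isQCoh_of_isInvertible hA
  have hBq : Coh.IsQCoh B := TMul.isQCoh_of_isInvertible hB
  haveI : EA.IsQuasicoherent := hEA
  haveI : EB.IsQuasicoherent := hEB
  let L'' := CohB1.tensorMod A B
  have hL'' : PicF.IsInvertible L'' := TMul.isInvertible_tensorMod hA hB
  have hL''q : Coh.IsQCoh L'' := TMul.isQCoh_of_isInvertible hL''
  obtain ⟨𝒮'', jl'', hjl''⟩ := exists_isGrSymAlg hL''q
  let E'' := CohB1.tensorMod EA EB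
  have hE'' : Coh.IsQCoh E'' := DQCoh.isQCoh_tensor hEA hEB
  haveI : E''.IsQuasicoherent := hE''
  let κ'' : E'' ⟶ (Scheme.Modules.pushforward q).obj L'' :=
    TMul.lift (P := (Scheme.Modules.pushforward q).obj L'')
      (fun U => LinearMap.mk₂ Γ(Y, U)
        (fun m n => (show Γ((Scheme.Modules.pushforward q).obj L'', U) from tm (sec κA U m) (sec κB U n)))
        (fun a b n => by rw [sec, map_add]; exact TMul.tm_add _ _ _)
        (fun r a n => by rw [sec, Scheme.Modules.Hom.app_smul]; exact TMul.smul_tm _ _ _)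
        (fun a n n' => by simp only [sec, map_add]; exact TMul.add_tm _ _ _)
        (fun r a n => by simp only [sec, Scheme.Modules.Hom.app_smul]; exact TMul.tm_smul _ _ _))
      (fun {V U} h m n => by
        simp only [LinearMap.mk₂_apply, sec]
        rw [← app_res κA h, ← app_res κB h]
        exact TMul.res_tm (q.preimage_mono h) _ _)
  obtain ⟨𝒯'', j'', hj''⟩ := exists_isGrSymAlg hE''
  obtain ⟨u'', hu''⟩ := exists_qGrOfMap hE'' hj'' hjl'' κ''
  let π := Pairing.tensor EA EB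
  let τ := Pairing.tensor A B
  have hτ : τ.KeepsGen := Pairing.keepsGen_tensor
  have hκ : ∀ (U : Y.Opens) (m : Γ(EA, U)) (n : Γ(EB, U)),
      sec κ'' U (π.bil U m n) = τ.bil (q ⁻¹ᵁ U) (sec κA U m) (sec κB U n) :=
    fun U m n => TMul.lift_tm _ _ m n
  have hκ' : ∀ (U : Y.Opens) (m : Γ(EB, U)) (n : Γ(EA, U)),
      sec κ'' U (π.flip.bil U m n) = τ.flip.bil (q ⁻¹ᵁ U) (sec κB U m) (sec κA U n) :=
    fun U m n => hκ U n m
  refine ⟨𝒮'', jl'', hjl'', 𝒯'', j'', hj'', u'', fun x => ?_, fun x => ?_⟩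
  rotate_left
  · -- surjectivity in degree one
    obtain ⟨cA, hxA⟩ := hpA x
    obtain ⟨cB, hxB⟩ := hpB x
    obtain ⟨mA, hmA⟩ := exists_sec_of_pair hEA hAq hjA hjlA huA cA
    obtain ⟨mB, hmB⟩ := exists_sec_of_pair hEB hBq hjB hjlB huB cB
    obtain ⟨U, hU, hxU, hUle⟩ := exists_isAffineOpen_mem_and_subset (U := cA.U ⊓ cB.U) (x := q x)
      ⟨cA.le hxA, cB.le hxB⟩
    have hUA : U ≤ cA.U := fun y hy => (hUle hy).1
    have hUB : U ≤ cB.U := fun y hy => (hUle hy).2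
    obtain ⟨V, hV, hxV, hVle⟩ := exists_isAffineOpen_mem_and_subset (U := cA.U' ⊓ cB.U' ⊓ q ⁻¹ᵁ U)
      (x := x) ⟨⟨hxA, hxB⟩, hxU⟩
    have hVA : V ≤ cA.U' := fun y hy => (hVle hy).1.1
    have hVB : V ≤ cB.U' := fun y hy => (hVle hy).1.2
    have hVU : V ≤ q ⁻¹ᵁ U := fun y hy => (hVle hy).2
    refine ⟨⟨U, hU, V, hV, hVU, jL j'' U (tm (res EA hUA mA) (res EB hUB mB)), hj''.2 U hU _,
      tm (res A hVA cA.m) (res B hVB cB.m), TMul.isGen_tm (isGen_res _ cA.gen) (isGen_res _ cB.gen), ?_⟩, hxV⟩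
    rw [appLE_of_app hu'' hU hVU]
    refine congrArg (jL jl'' V) ?_
    change res L'' hVU (sec κ'' U (π.bil U (res EA hUA mA) (res EB hUB mB))) = _
    rw [hκ, τ.res_bil]
    refine congrArg₂ (fun a b => tm a b) ?_ ?_
    · rw [← hmA, res_res, sec, ← app_res κA hUA]
      exact res_res A hVU (q.preimage_mono hUA) _
    · rw [← hmB, res_res, sec, ← app_res κB hUB]
      exact res_res B hVU (q.preimage_mono hUB) _
  -- closed immersion data
  obtain ⟨U, hU, n, a, m, b, hn, hm, ha, hb, hxa, hxb, hO, hclos⟩ := hdata x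
  let Oa := Rel.NV uA hU n a
  let Ob := Rel.NV uB hU m b
  let O := Oa ⊓ Ob
  have hOU : O ≤ q ⁻¹ᵁ U := inf_le_left.trans (Rel.NV_le uA hU n a)
  obtain ⟨W₁, hW₁, g₁, hxW₁, hW₁O, hg₁⟩ := exists_triv hA (show x ∈ O from ⟨hxa, hxb⟩)
  obtain ⟨W, hW, gB₀, hxW, hW₀, hgB₀⟩ := exists_triv hB hxW₁
  have hWO : W ≤ O := hW₀.trans hW₁O
  have hgA₀ : IsGen (res A hW₀ g₁) := isGen_res hW₀ hg₁
  obtain ⟨cfA, hcfA, htA⟩ := exists_sec_unit hEA hAq hjA hjlA huA hpA hU hW (hWO.trans hOU) hgA₀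
  obtain ⟨cfB, hcfB, htB⟩ := exists_sec_unit hEB hBq hjB hjlB huB hpB hU hW (hWO.trans hOU) hgB₀
  obtain ⟨⟨_, eA, rfl⟩, hxeA⟩ := Opens.mem_iSup.mp ((hW.self_le_iSup_basicOpen_iff).2 htA hxW)
  obtain ⟨⟨_, eB, rfl⟩, hxeB⟩ := Opens.mem_iSup.mp ((hW.self_le_iSup_basicOpen_iff).2 htB hxW)
  obtain ⟨ψA, hψA⟩ := π.exists_isTwist hEA hjA hj'' hU eB
  obtain ⟨ψB, hψB⟩ := π.flip.exists_isTwist hEB hjB hj'' hU eA
  let f := ψA a * ψB b
  have hf : f ∈ 𝒯''.deg U hU (n + m) := SetLike.mul_mem_graded (hψA.mem ha) (hψB.mem hb)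
  let O' := Rel.NV u'' hU (n + m) f
  have hO'U : O' ≤ q ⁻¹ᵁ U := Rel.NV_le u'' hU _ f
  have hloc : ∀ (V : X.Opens) (hV : IsAffineOpen V) (hVU : V ≤ q ⁻¹ᵁ U) (gA : Γ(A, V)) (gB : Γ(B, V))
      (_ : IsGen gA) (_ : IsGen gB) (cA cB : Γ(X, V)),
      cA • gA = res A hVU (sec κA U eA) → cB • gB = res B hVU (sec κB U eB) →
      V ⊓ O' = V ⊓ O ⊓ X.basicOpen (cA * cB) := by
    intro V hV hVU gA gB hgA hgB cA cB hcA' hcB'
    obtain ⟨CA, hCA⟩ := exists_coeff hAq hjlA hV hgA (uA.map_mem U hU V hV hVU ha)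
    obtain ⟨CB, hCB⟩ := exists_coeff hBq hjlB hV hgB (uB.map_mem U hU V hV hVU hb)
    have e1 : V ⊓ Oa = X.basicOpen CA :=
      inter_eq_basicOpen hAq hjlA ((uA.app U).hom a) (fun y => mem_NV_iff uA hU n a y) hV hVU hgA hCA
    have e2 : V ⊓ Ob = X.basicOpen CB :=
      inter_eq_basicOpen hBq hjlB ((uB.app U).hom b) (fun y => mem_NV_iff uB hU m b y) hV hVU hgB hCB
    have hgN : IsGen (τ.bil V gA gB) := hτ hgA hgB
    have e3 : V ⊓ O' = X.basicOpen (CA * cB ^ n * (CB * cA ^ m)) := by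
      refine inter_eq_basicOpen hL''q hjl'' ((u''.app U).hom f) (fun y => mem_NV_iff u'' hU _ f y) hV hVU hgN ?_
      change (u''.appLE U V hVU).hom (ψA a * ψB b) = _
      rw [map_mul, appLE_twist_triv π τ hκ hEA hjA hAq hjlA hjl'' huA hu'' hψA hV hVU hCA hcB',
        appLE_twist_triv π.flip τ.flip hκ' hEB hjB hBq hjlB hjl'' huB hu'' hψB hV hVU hCB hcA']
      change _ * _ * (_ * jL jl'' V (τ.bil V gA gB) ^ m) = _
      simp only [map_mul, map_pow, pow_add]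
      ring
    rw [e3, show V ⊓ O = (V ⊓ Oa) ⊓ (V ⊓ Ob) from inf_inf_distrib_left V Oa Ob, e1, e2]
    simp only [Scheme.basicOpen_mul, Scheme.basicOpen_pow _ _ hn, Scheme.basicOpen_pow _ _ hm]
    ac_rfl
  have hO'O : O' ≤ O := fun y hy => by
    obtain ⟨V₁, hV₁, gA, hyV₁, hV₁U, hgA⟩ := exists_triv hA (show y ∈ q ⁻¹ᵁ U from hO'U hy)
    obtain ⟨V, hV, gB, hyV, hVV₁, hgB⟩ := exists_triv hB hyV₁
    have hVU := hVV₁.trans hV₁U
    obtain ⟨cA, hcA'⟩ := exists_smul_eq (isGen_res hVV₁ hgA) (res A hVU (sec κA U eA))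
    obtain ⟨cB, hcB'⟩ := exists_smul_eq hgB (res B hVU (sec κB U eB))
    exact ((hloc V hV hVU _ gB (isGen_res hVV₁ hgA) hgB cA cB hcA' hcB').le ⟨hyV, hy⟩).1.2
  -- trivialising basic opens of `O`
  have hcovO : ∀ y : O, ∃ (r : Γ(X, O)) (gA : Γ(A, X.basicOpen r)) (gB : Γ(B, X.basicOpen r))
      (cA cB : Γ(X, X.basicOpen r)),
      y.1 ∈ X.basicOpen r ∧ IsGen gA ∧ IsGen gB ∧
      cA • gA = res A ((X.basicOpen_le r).trans hOU) (sec κA U eA) ∧
      cB • gB = res B ((X.basicOpen_le r).trans hOU) (sec κB U eB) := fun y => by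
    obtain ⟨V₁, hV₁, gA, hyV₁, hV₁O, hgA⟩ := exists_triv hA y.2
    obtain ⟨V, hV, gB, hyV, hVV₁, hgB⟩ := exists_triv hB hyV₁
    obtain ⟨r, hr, hyr⟩ := hO.exists_basicOpen_le (⟨y.1, hyV⟩ : V) y.2
    obtain ⟨cA, hcA'⟩ := exists_smul_eq (isGen_res (hr.trans hVV₁) hgA)
      (res A ((X.basicOpen_le r).trans hOU) (sec κA U eA))
    obtain ⟨cB, hcB'⟩ := exists_smul_eq (isGen_res hr hgB)
      (res B ((X.basicOpen_le r).trans hOU) (sec κB U eB))
    exact ⟨r, _, _, cA, cB, hyr, isGen_res (hr.trans hVV₁) hgA, isGen_res hr hgB, hcA', hcB'⟩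
  choose r gA gB cA cB hyr hgA hgB hcA' hcB' using hcovO
  have hDO : ∀ y : O, X.basicOpen (r y) ⊓ O' = X.basicOpen (cA y * cB y) := fun y => by
    rw [hloc _ (hO.basicOpen (r y)) ((X.basicOpen_le _).trans hOU) (gA y) (gB y) (hgA y) (hgB y) _ _
      (hcA' y) (hcB' y), inf_eq_left.mpr (X.basicOpen_le (r y)), inf_eq_right.mpr (X.basicOpen_le _)]
  have hr1 : Ideal.span (Set.range r) = ⊤ :=
    hO.self_le_iSup_basicOpen_iff.1 fun y hy =>
      Opens.mem_iSup.mpr ⟨⟨_, ⟨y, hy⟩, rfl⟩, hyr ⟨y, hy⟩⟩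
  have hrbo : ∀ y, X.basicOpen (resO X hO'O (r y)) = X.basicOpen (cA y * cB y) := fun y => by
    rw [← hDO y, show X.basicOpen (resO X hO'O (r y)) = O' ⊓ X.basicOpen (r y) from X.basicOpen_res _ _,
      inf_comm]
  have hO' : IsAffineOpen O' := by
    refine isAffineOpen_of_isAffineOpen_basicOpen O' (resO X hO'O '' Set.range r) ?_ ?_
    · rw [← Ideal.map_span, hr1, Ideal.map_top]
    · rintro _ ⟨_, ⟨y, rfl⟩, rfl⟩
      rw [hrbo]
      exact (hO.basicOpen (r y)).basicOpen _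
  have hxO' : x ∈ O' := by
    have hxO : x ∈ O := ⟨hxa, hxb⟩
    refine ((hloc W hW (hWO.trans hOU) _ _ hgA₀ hgB₀ _ _ (hcfA eA) (hcfB eB)).ge ⟨⟨hxW, hxO⟩, ?_⟩).2
    rw [Scheme.basicOpen_mul]
    exact ⟨hxeA, hxeB⟩
  -- the two sections generate on `O'`
  have hεgen : ∀ {M : X.Modules} {E : Y.Modules} (κ : E ⟶ (Scheme.Modules.pushforward q).obj M) (e : Γ(E, U))
      (g : ∀ y : O, Γ(M, X.basicOpen (r y))) (c : ∀ y : O, Γ(X, X.basicOpen (r y))),
      (∀ y, IsGen (g y)) → (∀ y, c y • g y = res M ((X.basicOpen_le (r y)).trans hOU) (sec κ U e)) →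
      (∀ y, X.basicOpen (r y) ⊓ O' ≤ X.basicOpen (c y)) → IsGen (res M hO'U (sec κ U e)) := by
    intro M E κ e g c hg hc hle V hV
    refine RelTilde.isGen_of_cover _ (fun y : O => X.basicOpen (c y)) (fun z hz => ?_)
      (fun y V' hV' hV'D => ?_) V hV
    · exact Opens.mem_iSup.mpr ⟨⟨z, hO'O hz⟩, hle _ ⟨hyr _, hz⟩⟩
    · have := TMul.isGen_smul (isGen_res (X.basicOpen_le (c y)) (hg y))
        (RingedSpace.isUnit_res_basicOpen _ (c y)) V' hV'D
      change Function.Bijective fun k => k • res M hV'D (resO X (X.basicOpen_le (c y)) (c y) •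
        res M (X.basicOpen_le (c y)) (g y)) at this
      rw [← res_smul, hc, res_res, res_res] at this
      rw [res_res]
      exact this
  have hεA := hεgen κA eA gA cA hgA hcA' fun y => (hDO y).le.trans (by
    rw [Scheme.basicOpen_mul]; exact inf_le_left)
  have hεB := hεgen κB eB gB cB hgB hcB' fun y => (hDO y).le.trans (by
    rw [Scheme.basicOpen_mul]; exact inf_le_right)
  refine ⟨U, hU, n + m, f, Nat.add_pos_left hn m, hf, hxO', hO', ?_⟩
  let R := Rel.condSubring u'' hU (n := n + m) (f := f) hf hO'U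
  have hR1 : ∀ z : Γ(X, O), resO X hO'O z ∈ R := fun z => by
    have hz : z ∈ (⊤ : Subring Γ(X, O)) := trivial
    rw [← hclos] at hz
    refine (Subring.closure_le (t := R.comap (resO X hO'O))).mpr ?_ hz
    rintro w (⟨k, hk, s, hs, he⟩ | ⟨k, hk, s, hs, he⟩)
    · refine ⟨k, hk, ψA s * ψB b ^ k, ?_, ?_⟩
      · have h2 := SetLike.mul_mem_graded (hψA.mem hs) (SetLike.pow_mem_graded k (hψB.mem hb))
        rwa [smul_eq_mul, ← mul_add] at h2
      · have h0 := frac_twist π τ hκ hEA hjA hAq hjlA hjl'' huA hu'' hψA hOU hO' hO'O he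
        rw [map_mul, map_mul, map_pow, mul_pow, ← mul_assoc, h0]
    · refine ⟨k, hk, ψA a ^ k * ψB s, ?_, ?_⟩
      · have h2 := SetLike.mul_mem_graded (SetLike.pow_mem_graded k (hψA.mem ha)) (hψB.mem hs)
        rwa [smul_eq_mul, ← mul_add] at h2
      · have h0 := frac_twist π.flip τ.flip hκ' hEB hjB hBq hjlB hjl'' huB hu'' hψB hOU hO' hO'O he
        rw [map_mul, map_mul, map_pow, mul_pow, ← h0]
        ring
  have hRB : ∀ (e : Γ(EB, U)) (ρ : Γ(X, O')),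
      ρ • res B hO'U (sec κB U eB) = res B hO'U (sec κB U e) → ρ ∈ R := fun e ρ hρ => by
    obtain ⟨s, hs, he⟩ := ratio_twist π τ hκ hEA hjA hu'' hψA hj'' hO'U hn ha e ρ hρ
    refine ⟨1, one_pos, s * ψB b, ?_, ?_⟩
    · rw [one_mul]; exact SetLike.mul_mem_graded hs (hψB.mem hb)
    · rw [pow_one, map_mul, map_mul, ← mul_assoc, he]
  have hRA : ∀ (e : Γ(EA, U)) (ρ : Γ(X, O')),
      ρ • res A hO'U (sec κA U eA) = res A hO'U (sec κA U e) → ρ ∈ R := fun e ρ hρ => by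
    obtain ⟨s, hs, he⟩ := ratio_twist π.flip τ.flip hκ' hEB hjB hu'' hψB hj'' hO'U hm hb e ρ hρ
    refine ⟨1, one_pos, ψA a * s, ?_, ?_⟩
    · rw [one_mul]; exact SetLike.mul_mem_graded (hψA.mem ha) hs
    · rw [pow_one, map_mul, map_mul, ← he]; ring
  intro t
  change t ∈ R
  letI := (X.presheaf.map (homOfLE hO'O).op).hom.toAlgebra
  let M : Submodule Γ(X, O) Γ(X, O') :=
    { carrier := R
      add_mem' := R.add_mem
      zero_mem' := R.zero_mem
      smul_mem' := fun z w hw => R.mul_mem (hR1 z) hw }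
  refine Submodule.mem_of_span_eq_top_of_smul_pow_mem M (Set.range r) hr1 t ?_
  rintro ⟨_, y, rfl⟩
  let D := X.basicOpen (r y)
  have hD : IsAffineOpen D := hO.basicOpen (r y)
  let V' := X.basicOpen (cA y * cB y)
  have hV'O' : V' ≤ O' := (hDO y).ge.trans inf_le_right
  have hV'D : V' ≤ D := X.basicOpen_le (cA y * cB y)
  let R' : Subring Γ(X, V') :=
    { carrier := {w | ∃ (K : ℕ) (z : Γ(X, O')), z ∈ R ∧ resO X hV'O' (resO X hO'O (r y)) ^ K * w = resO X hV'O' z}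
      one_mem' := ⟨0, 1, R.one_mem, by rw [pow_zero, one_mul, map_one]⟩
      zero_mem' := ⟨0, 0, R.zero_mem, by rw [mul_zero, map_zero]⟩
      add_mem' := by
        rintro p p' ⟨K, z, hz, he⟩ ⟨K', z', hz', he'⟩
        refine ⟨K + K', resO X hO'O (r y) ^ K' * z + resO X hO'O (r y) ^ K * z',
          R.add_mem (R.mul_mem (R.pow_mem (hR1 _) _) hz) (R.mul_mem (R.pow_mem (hR1 _) _) hz'), ?_⟩
        rw [map_add, map_mul, map_mul, map_pow, map_pow, ← he, ← he', pow_add]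
        ring
      neg_mem' := by
        rintro p ⟨K, z, hz, he⟩
        exact ⟨K, -z, R.neg_mem hz, by rw [map_neg, ← he, mul_neg]⟩
      mul_mem' := by
        rintro p p' ⟨K, z, hz, he⟩ ⟨K', z', hz', he'⟩
        refine ⟨K + K', z * z', R.mul_mem hz hz', ?_⟩
        rw [map_mul, ← he, ← he', pow_add]
        ring }
  have hR'1 : ∀ w : Γ(X, D), resO X hV'D w ∈ R' := fun w => by
    haveI := hO.isLocalization_basicOpen (r y)
    obtain ⟨K, z, hz⟩ := IsLocalization.Away.surj (r y) w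
    refine ⟨K, resO X hO'O z, hR1 z, ?_⟩
    have h0 : w * resO X (X.basicOpen_le (r y)) (r y) ^ K = resO X (X.basicOpen_le (r y)) z := hz
    have h1 := congrArg (resO X hV'D) h0
    rw [map_mul, map_pow, QC.resO_resO, QC.resO_resO] at h1
    rw [QC.resO_resO, QC.resO_resO, mul_comm]
    exact h1
  -- inverses of the coefficients
  have hinv : ∀ {M : X.Modules} {E : Y.Modules} (κ : E ⟶ (Scheme.Modules.pushforward q).obj M) (e : Γ(E, U))
      (g : Γ(M, D)) (c : Γ(X, D)) (cm : Γ(E, U) → Γ(X, D)),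
      IsGen g → IsGen (res M hO'U (sec κ U e)) →
      c • g = res M ((X.basicOpen_le (r y)).trans hOU) (sec κ U e) →
      (∀ k, cm k • g = res M ((X.basicOpen_le (r y)).trans hOU) (sec κ U k)) →
      Ideal.span (Set.range cm) = ⊤ →
      (∀ (k : Γ(E, U)) (ρ : Γ(X, O')),
        ρ • res M hO'U (sec κ U e) = res M hO'U (sec κ U k) → ρ ∈ R) →
      ∃ i ∈ R', i * resO X hV'D c = 1 := by
    intro M E κ e g c cm hg hε hc hcm hspan hR2
    choose ρ hρ using fun k : Γ(E, U) => exists_smul_eq hε (res M hO'U (sec κ U k))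
    have hρc : ∀ k, resO X hV'O' (ρ k) * resO X hV'D c = resO X hV'D (cm k) := fun k => by
      refine (isGen_res hV'D hg V' le_rfl).1 ?_
      simp only [res_self]
      rw [mul_smul, ← res_smul, ← res_smul, hc, hcm, res_res, res_res,
        ← res_res M hV'O' hO'U, ← res_smul, hρ, res_res]
    suffices h : ∀ w ∈ Ideal.span (Set.range cm), ∃ i ∈ R', i * resO X hV'D c = resO X hV'D w by
      obtain ⟨i, hi, he⟩ := h 1 ((Ideal.eq_top_iff_one _).1 hspan)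
      exact ⟨i, hi, by rwa [map_one] at he⟩
    intro w hw
    induction hw using Submodule.span_induction with
    | mem w hw =>
      obtain ⟨k, rfl⟩ := hw
      exact ⟨_, ⟨0, ρ k, hR2 k _ (hρ k), by rw [pow_zero, one_mul]⟩, hρc k⟩
    | zero => exact ⟨0, R'.zero_mem, by rw [zero_mul, map_zero]⟩
    | add w w' _ _ hw hw' =>
      obtain ⟨i, hi, he⟩ := hw
      obtain ⟨i', hi', he'⟩ := hw'
      exact ⟨i + i', R'.add_mem hi hi', by rw [add_mul, he, he', map_add]⟩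
    | smul β w _ hw =>
      obtain ⟨i, hi, he⟩ := hw
      exact ⟨resO X hV'D β * i, R'.mul_mem (hR'1 β) hi, by rw [smul_eq_mul, mul_assoc, he, map_mul]⟩
  obtain ⟨cmA, hcmA, hspA⟩ := exists_sec_unit hEA hAq hjA hjlA huA hpA hU hD
    ((X.basicOpen_le (r y)).trans hOU) (hgA y)
  obtain ⟨cmB, hcmB, hspB⟩ := exists_sec_unit hEB hBq hjB hjlB huB hpB hU hD
    ((X.basicOpen_le (r y)).trans hOU) (hgB y)
  obtain ⟨iA, hiA, hicA⟩ := hinv κA eA (gA y) (cA y) cmA (hgA y) hεA (hcA' y) hcmA hspA hRA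
  obtain ⟨iB, hiB, hicB⟩ := hinv κB eB (gB y) (cB y) cmB (hgB y) hεB (hcB' y) hcmB hspB hRB
  have ht : resO X hV'O' t ∈ R' := by
    haveI := hD.isLocalization_basicOpen (cA y * cB y)
    obtain ⟨N, z, hz⟩ := IsLocalization.Away.surj (cA y * cB y) (resO X hV'O' t)
    have h0 : resO X hV'O' t * resO X hV'D (cA y * cB y) ^ N = resO X hV'D z := hz
    have hone : resO X hV'D (cA y * cB y) * (iA * iB) = 1 := by
      rw [map_mul]; linear_combination (iB * resO X hV'D (cB y)) * hicA + hicB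
    have h1 : resO X hV'O' t = resO X hV'D z * (iA * iB) ^ N := by
      rw [← h0, mul_assoc, ← mul_pow, hone, one_pow, mul_one]
    rw [h1]
    exact R'.mul_mem (hR'1 z) (R'.pow_mem (R'.mul_mem hiA hiB) N)
  obtain ⟨K, z, hz, he⟩ := ht
  obtain ⟨K', hK'⟩ : ∃ K' : ℕ, resO X hO'O (r y) ^ K' * (resO X hO'O (r y) ^ K * t - z) = 0 := by
    haveI := hO'.isLocalization_basicOpen (resO X hO'O (r y))
    obtain ⟨⟨_, K', rfl⟩, h⟩ := (IsLocalization.map_eq_zero_iff (Submonoid.powers (resO X hO'O (r y)))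
      Γ(X, X.basicOpen (resO X hO'O (r y))) (resO X hO'O (r y) ^ K * t - z)).1 (by
        change resO X (X.basicOpen_le _) _ = 0
        rw [← QC.resO_resO (hrbo y).le hV'O', map_sub, map_mul, map_pow, he, sub_self, map_zero])
    exact ⟨K', h⟩
  refine ⟨K' + K, ?_⟩
  change resO X hO'O (r y ^ (K' + K)) * t ∈ R
  rw [map_pow, pow_add, mul_assoc, show resO X hO'O (r y) ^ K' * (resO X hO'O (r y) ^ K * t) =
    resO X hO'O (r y) ^ K' * z by linear_combination hK']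
  exact R.mul_mem (R.pow_mem (hR1 _) _) hz

/-- The tensor product of two very ample modules is very ample, from pairs of data. -/
theorem isRelVeryAmple_of_pairData (hA : PicF.IsInvertible A) (hB : PicF.IsInvertible B)
    (hEA : Coh.IsQCoh EA) (hjA : RelProj.IsGrSymAlg EA 𝒯A jA) (hjlA : RelProj.IsGrSymAlg A 𝒮A jlA)
    {uA : RelProj.QGrHom q 𝒯A 𝒮A} (huA : Extends jA jlA κA uA)
    (hpA : ∀ x : X, ∃ c : DegOnePair uA jlA, x ∈ c.U')
    (hEB : Coh.IsQCoh EB) (hjB : RelProj.IsGrSymAlg EB 𝒯B jB) (hjlB : RelProj.IsGrSymAlg B 𝒮B jlB)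
    {uB : RelProj.QGrHom q 𝒯B 𝒮B} (huB : Extends jB jlB κB uB)
    (hpB : ∀ x : X, ∃ c : DegOnePair uB jlB, x ∈ c.U')
    (hdata : ∀ x, PairData uA uB x) :
    RelProj.IsRelVeryAmple q (CohB1.tensorMod A B) := by
  obtain ⟨𝒮'', jl'', hjl'', 𝒯'', j'', hj'', u'', hd, hs⟩ :=
    exists_localData_of_pairData hA hB hEA hjA hjlA huA hpA hEB hjB hjlB huB hpB hdata
  haveI : EA.IsQuasicoherent := hEA
  haveI : EB.IsQuasicoherent := hEB
  haveI : (CohB1.tensorMod EA EB).IsQuasicoherent := DQCoh.isQCoh_tensor hEA hEB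
  have hL'' := TMul.isInvertible_tensorMod hA hB
  exact isRelVeryAmple_of_localData hL'' (TMul.isQCoh_of_isInvertible hL'') hjl'' (isGenDegOne_sym hj'') hd hs

end Main

end Groth.Agent.SymAlg
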