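import Groth.Agent.SymAlg.VAmpleData
import Groth.Agent.DQCoh.Tensor
import Groth.Agent.QC.Closure

/-!
The tensor product of a very ample module with a module generated by a quasi-coherent module of the
base is very ample.
-/

set_option autoImplicit false
set_option backward.isDefEq.respectTransparency false
set_option linter.style.haveILetI false
set_option linter.unusedSectionVars false

universe u

open CategoryTheory CategoryTheory.Limits DirectSum AlgebraicGeometry TopologicalSpace Opposite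
open scoped HomogeneousIdeal
open Groth.Agent.QC (res resO res_res res_self res_smul app_res)

noncomputable section

namespace Groth.Agent.SymAlg

open Groth.Agent
open TMul (IsGen tm)

section Twist

variable {Y : Scheme.{u}} {E E' : Y.Modules} {𝒯 : RelProj.QCGrAlg Y} {j : E ⟶ 𝒯.toModule}
  {𝒯' : RelProj.QCGrAlg Y} {j' : CohB1.tensorMod E E' ⟶ 𝒯'.toModule}

/-- Multiplying by a section: `Sym E ⟶ Sym (E ⊗ E')` over an affine open. -/
theorem exists_twistHom (hE : Coh.IsQCoh E) (hj : RelProj.IsGrSymAlg E 𝒯 j)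
    (hj' : RelProj.IsGrSymAlg (CohB1.tensorMod E E') 𝒯' j') {U : Y.Opens} (hU : IsAffineOpen U)
    (e' : Γ(E', U)) :
    ∃ ψ : 𝒯.presheaf.obj (op U) →+* 𝒯'.presheaf.obj (op U),
      (∀ r, ψ (strL 𝒯 U r) = strL 𝒯' U r) ∧
      (∀ m, ψ (jL j U m) = jL j' U (tm m e')) ∧
      ∀ (d : ℕ) (a : 𝒯.presheaf.obj (op U)), a ∈ 𝒯.deg U hU d → ψ a ∈ 𝒯'.deg U hU d := by
  haveI : E.IsQuasicoherent := hE
  obtain ⟨γ, hγ, hjγ⟩ := exists_affineIso hE hj.1
  let W : Y.AffineZariskiSite := ⟨U, hU⟩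
  let eA : 𝒯.presheaf.obj (op U) ≃+* SymmetricAlgebra Γ(Y, U) Γ(E, U) :=
    (γ.app (op W)).commRingCatIsoToRingEquiv
  have h1 : ∀ r, eA (strL 𝒯 U r) = algebraMap _ _ r := fun r => congr($(NatTrans.congr_app hγ (op W)) r)
  have h2 : ∀ m, eA (jL j U m) = SymmetricAlgebra.ι _ _ m := fun m => by
    rw [show jL j U m = eA.symm (SymmetricAlgebra.ι _ _ m) from hjγ W m, RingEquiv.apply_symm_apply]
  let ψ := (symLift (strL 𝒯' U)
    (AddMonoidHom.mk' (fun m => jL j' U (tm m e')) fun m m' => by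
      rw [TMul.tm_add]; exact map_add (j'.app U).hom _ _)
    (fun r m => by
      change jL j' U (tm (r • m) e') = _
      rw [TMul.smul_tm]
      exact Scheme.Modules.Hom.app_smul j' _ _)).comp eA.toRingHom
  have hs : ∀ r, ψ (strL 𝒯 U r) = strL 𝒯' U r := fun r =>
    (congrArg (symLift _ _ _) (h1 r)).trans (symLift_algebraMap ..)
  have hm : ∀ m, ψ (jL j U m) = jL j' U (tm m e') := fun m =>
    (congrArg (symLift _ _ _) (h2 m)).trans (symLift_ι ..)
  refine ⟨ψ, hs, hm, fun d a ha => map_mem_of_gen (𝒯.deg U hU) (𝒯'.deg U hU) ψ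
    (SymAlgGen.gen_eq_top hj.1 hU) ?_ ha⟩
  rintro _ (⟨r, rfl⟩ | ⟨m, rfl⟩)
  · exact ⟨0, 𝒯.str_mem U hU r, (hs r).symm ▸ 𝒯'.str_mem U hU r⟩
  · exact ⟨1, hj.2 U hU m, (hm m).symm ▸ hj'.2 U hU _⟩

end Twist

section Map

variable {X Y : Scheme.{u}} {q : X ⟶ Y} {L : X.Modules} {E : Y.Modules} {𝒮 : RelProj.QCGrAlg Y}
  {j : E ⟶ 𝒮.toModule} {𝒮L : RelProj.QCGrAlg X} {jl : L ⟶ 𝒮L.toModule}

/-- The graded morphism `Sym E ⟶ q_* Sym L` of `E ⟶ q_* L`. -/
theorem exists_qGrOfMap (hE : Coh.IsQCoh E) (hj : RelProj.IsGrSymAlg E 𝒮 j)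
    (hjl : RelProj.IsGrSymAlg L 𝒮L jl) (κ : E ⟶ (Scheme.Modules.pushforward q).obj L) :
    ∃ u : RelProj.QGrHom q 𝒮 𝒮L, ∀ (U : Y.Opens), IsAffineOpen U → ∀ m : Γ(E, U),
      (u.app U).hom (j.app U m : 𝒮.presheaf.obj (op U)) = jL jl (q ⁻¹ᵁ U) (κ.app U m) := by
  haveI : E.IsQuasicoherent := hE
  let adj := Scheme.Modules.pullbackPushforwardAdjunction q
  let ν := (adj.homEquiv E L).symm κ
  have hν : ∀ (W : Y.Opens) (m : Γ(E, W)),
      ν.app (q ⁻¹ᵁ W) (OmegaSh.pullSect q E W m) = κ.app W m := fun W m => by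
    have h1 : (adj.unit.app E ≫ (Scheme.Modules.pushforward q).map ν) = κ :=
      (adj.homEquiv_unit E L ν).symm.trans (Equiv.apply_symm_apply _ _)
    exact congr(($h1).app W m)
  obtain ⟨u, hu⟩ := exists_qHom q (ν ≫ jl) hE hj.1
  have hu' : ∀ (U : Y.Opens), IsAffineOpen U → ∀ m : Γ(E, U),
      (u.app U).hom (j.app U m : 𝒮.presheaf.obj (op U)) = jL jl (q ⁻¹ᵁ U) (κ.app U m) := fun U hU m =>
    (hu U hU m).trans (congrArg (jL jl (q ⁻¹ᵁ U)) (hν U m))
  refine ⟨{ toQHom := u, map_mem := fun U hU U' hU' hle {d x} hx => ?_ }, hu'⟩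
  refine map_mem_of_gen (𝒮.deg U hU) (𝒮L.deg U' hU') (u.appLE U U' hle).hom
    (SymAlgGen.gen_eq_top hj.1 hU) ?_ hx
  rintro _ (⟨r, rfl⟩ | ⟨m, rfl⟩)
  · refine ⟨0, 𝒮.str_mem U hU r, ?_⟩
    have h : (u.appLE U U' hle).hom ((𝒮.str.app (op U)).hom r) =
        (𝒮L.str.app (op U')).hom ((q.appLE U U' hle).hom r) :=
      congr(($(u.str_appLE U U' hle)).hom r)
    change (u.appLE U U' hle).hom ((𝒮.str.app (op U)).hom r) ∈ _
    rw [h]
    exact 𝒮L.str_mem U' hU' _
  · refine ⟨1, hj.2 U hU m, ?_⟩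
    have h : (u.appLE U U' hle).hom (SymAlgGen.jsec j U m) = jL jl U' (res L hle (κ.app U m)) := by
      rw [RelSpec.QHom.appLE_eq, CommRingCat.hom_comp, RingHom.comp_apply]
      exact (congrArg _ (hu' U hU m)).trans (resL_jL hle _)
    rw [h]
    exact jL_mem hjl hU' _

/-- The formula on a pair of opens. -/
lemma appLE_of_app {u : RelProj.QGrHom q 𝒮 𝒮L} {κ : E ⟶ (Scheme.Modules.pushforward q).obj L}
    (hu : ∀ (U : Y.Opens), IsAffineOpen U → ∀ m : Γ(E, U),
      (u.app U).hom (j.app U m : 𝒮.presheaf.obj (op U)) = jL jl (q ⁻¹ᵁ U) (κ.app U m))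
    {U : Y.Opens} (hU : IsAffineOpen U) {V : X.Opens} (h : V ≤ q ⁻¹ᵁ U) (m : Γ(E, U)) :
    (u.appLE U V h).hom (jL j U m) = jL jl V (res L h (κ.app U m)) := by
  rw [RelSpec.QHom.appLE_eq, CommRingCat.hom_comp, RingHom.comp_apply]
  exact (congrArg _ (hu U hU m)).trans (resL_jL h _)

end Map

section Span

variable {X Y : Scheme.{u}} {q : X ⟶ Y} {L' : X.Modules} {E' : Y.Modules}

/-- An epimorphism from a pull-back generates over affine opens. -/
theorem span_range_eq_top (hE' : Coh.IsQCoh E') (hL'q : Coh.IsQCoh L')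
    (φ : (Scheme.Modules.pullback q).obj E' ⟶ L') [Epi φ] {U : Y.Opens} (hU : IsAffineOpen U)
    {W : X.Opens} (hW : IsAffineOpen W) (h : W ≤ q ⁻¹ᵁ U) :
    Submodule.span Γ(X, W) (Set.range fun m : Γ(E', U) =>
      res L' h (((Scheme.Modules.pullbackPushforwardAdjunction q).homEquiv E' L' φ).app U m)) = ⊤ := by
  let η := (Scheme.Modules.pullbackPushforwardAdjunction q).unit.app E'
  let M := (Scheme.Modules.pullback q).obj E'
  have hbc : RelTilde.IsBC q η h := RelTilde.isBC_unit q hE' hU hW h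
  let N : Submodule Γ(X, W) Γ(M, W) := Submodule.span _ (Set.range (RelTilde.resθ q η h))
  have hN : N.mkQ = 0 := by
    refine (hbc _ 0).unique (fun m => ?_) (fun m => rfl)
    exact (Submodule.Quotient.mk_eq_zero N).2 (Submodule.subset_span ⟨m, rfl⟩)
  have hN' : N = ⊤ := eq_top_iff.2 fun x _ => by
    rw [← Submodule.Quotient.mk_eq_zero N]
    exact LinearMap.congr_fun hN x
  have hs := QC.app_surjective_of_epi hW (QC.isQCoh_pullback q hE') hL'q φ
  rw [eq_top_iff]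
  rintro y -
  obtain ⟨z, rfl⟩ := hs y
  have hz : z ∈ N := hN'.ge trivial
  induction hz using Submodule.span_induction with
  | mem z hz =>
    obtain ⟨m, rfl⟩ := hz
    refine Submodule.subset_span ⟨m, ?_⟩
    change res L' h _ = φ.app W (res M h (η.app U m))
    refine Eq.trans ?_ (app_res φ h _)
    refine congrArg (res L' h) ?_
    rw [Adjunction.homEquiv_unit]
    rfl
  | zero => rw [map_zero]; exact zero_mem _
  | add a b _ _ ha hb => rw [map_add]; exact add_mem ha hb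
  | smul c a _ ha => rw [Scheme.Modules.Hom.app_smul]; exact Submodule.smul_mem _ _ ha

/-- Coefficients of generating sections generate the unit ideal. -/
theorem span_coeff_eq_top {W : X.Opens} {g : Γ(L', W)} (hg : IsGen g) {ι : Type u} (s : ι → Γ(L', W))
    (hs : Submodule.span Γ(X, W) (Set.range s) = ⊤) (c : ι → Γ(X, W)) (hc : ∀ i, c i • g = s i) :
    Ideal.span (Set.range c) = ⊤ := by
  have hle : Submodule.span Γ(X, W) (Set.range s) ≤
      Submodule.map (LinearMap.toSpanSingleton Γ(X, W) Γ(L', W) g) (Ideal.span (Set.range c)) := by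
    refine Submodule.span_le.mpr ?_
    rintro _ ⟨i, rfl⟩
    exact ⟨c i, Ideal.subset_span ⟨i, rfl⟩, hc i⟩
  obtain ⟨b, hb, hbg⟩ := hle (hs ▸ (Submodule.mem_top : g ∈ (⊤ : Submodule Γ(X, W) Γ(L', W))))
  have : b = 1 := (hg W le_rfl).1 (by simpa [res_self] using hbg)
  exact (Ideal.eq_top_iff_one _).mpr (this ▸ hb)

/-- The coefficient of a section in a generator. -/
lemma exists_smul_eq {W : X.Opens} {g : Γ(L', W)} (hg : IsGen g) (s : Γ(L', W)) :
    ∃ c : Γ(X, W), c • g = s := by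
  obtain ⟨c, hc⟩ := (hg W le_rfl).2 s
  exact ⟨c, by simpa [res_self] using hc⟩

end Span

section Main

variable {X Y : Scheme.{u}} {q : X ⟶ Y} {L L' : X.Modules}

set_option maxHeartbeats 4000000 in
/-- Very ample tensor globally generated relative to the base is very ample. -/
theorem isRelVeryAmple_tensor_of_epi (hL : PicF.IsInvertible L) (hva : RelProj.IsRelVeryAmple q L)
    (hL' : PicF.IsInvertible L') (E' : Y.Modules) (hE' : Coh.IsQCoh E')
    (φ : (Scheme.Modules.pullback q).obj E' ⟶ L') [Epi φ] :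
    RelProj.IsRelVeryAmple q (CohB1.tensorMod L L') := by
  classical
  have hLq : Coh.IsQCoh L := TMul.isQCoh_of_isInvertible hL
  have hL'q : Coh.IsQCoh L' := TMul.isQCoh_of_isInvertible hL'
  let L'' := CohB1.tensorMod L L'
  have hL'' : PicF.IsInvertible L'' := TMul.isInvertible_tensorMod hL hL'
  have hL''q : Coh.IsQCoh L'' := TMul.isQCoh_of_isInvertible hL''
  obtain ⟨𝒮L, jl, hjl⟩ := exists_isGrSymAlg hLq
  obtain ⟨𝒮L'', jl'', hjl''⟩ := exists_isGrSymAlg hL''q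
  obtain ⟨E, hE, κ, 𝒯, j, hj, u, hu, hdata, hpair⟩ := exists_localData hL hLq hjl hva
  haveI : E.IsQuasicoherent := hE
  let κ' := (Scheme.Modules.pullbackPushforwardAdjunction q).homEquiv E' L' φ
  let E'' := CohB1.tensorMod E E'
  have hE'' : Coh.IsQCoh E'' := DQCoh.isQCoh_tensor hE hE'
  haveI : E''.IsQuasicoherent := hE''
  let κ'' : E'' ⟶ (Scheme.Modules.pushforward q).obj L'' :=
    TMul.lift (P := (Scheme.Modules.pushforward q).obj L'')
      (fun U => LinearMap.mk₂ Γ(Y, U)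
        (fun m n => (show Γ((Scheme.Modules.pushforward q).obj L'', U) from
          tm (show Γ(L, q ⁻¹ᵁ U) from κ.app U m) (show Γ(L', q ⁻¹ᵁ U) from κ'.app U n)))
        (fun a b n => by rw [map_add]; exact TMul.tm_add _ _ _)
        (fun r a n => by rw [Scheme.Modules.Hom.app_smul]; exact TMul.smul_tm _ _ _)
        (fun a n n' => by rw [map_add]; exact TMul.add_tm _ _ _)
        (fun r a n => by rw [Scheme.Modules.Hom.app_smul]; exact TMul.tm_smul _ _ _))
      (fun {V U} h m n => by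
        simp only [LinearMap.mk₂_apply]
        rw [← app_res κ h, ← app_res κ' h]
        exact TMul.res_tm (q.preimage_mono h) _ _)
  have hκ'' : ∀ (U : Y.Opens) m n, κ''.app U (tm m n) =
      (show Γ((Scheme.Modules.pushforward q).obj L'', U) from
        tm (show Γ(L, q ⁻¹ᵁ U) from κ.app U m) (show Γ(L', q ⁻¹ᵁ U) from κ'.app U n)) :=
    fun U m n => TMul.lift_tm _ _ m n
  obtain ⟨𝒯'', j'', hj''⟩ := exists_isGrSymAlg hE''
  obtain ⟨u'', hu''⟩ := exists_qGrOfMap hE'' hj'' hjl'' κ''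
  -- twisting by a section of `E'`
  have htw : ∀ {U : Y.Opens} (hU : IsAffineOpen U) (e' : Γ(E', U)),
      ∃ ψ : 𝒯.presheaf.obj (op U) →+* 𝒯''.presheaf.obj (op U),
      (∀ r, ψ (strL 𝒯 U r) = strL 𝒯'' U r) ∧
      (∀ m, ψ (jL j U m) = jL j'' U (tm m e')) ∧
      (∀ (d : ℕ) (a : 𝒯.presheaf.obj (op U)), a ∈ 𝒯.deg U hU d → ψ a ∈ 𝒯''.deg U hU d) ∧
      ∀ (V : X.Opens) (hV : IsAffineOpen V) (h : V ≤ q ⁻¹ᵁ U),
        ∃ Φ : 𝒮L.presheaf.obj (op V) →+* 𝒮L''.presheaf.obj (op V),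
          (∀ c, Φ (strL 𝒮L V c) = strL 𝒮L'' V c) ∧
          (∀ l, Φ (jL jl V l) = jL jl'' V (tm l (res L' h (κ'.app U e')))) ∧
          ∀ a, Φ ((u.appLE U V h).hom a) = (u''.appLE U V h).hom (ψ a) := by
    intro U hU e'
    obtain ⟨ψ, h1, h2, h3⟩ := exists_twistHom hE hj hj'' hU e'
    refine ⟨ψ, h1, h2, h3, fun V hV h => ?_⟩
    obtain ⟨Φ, k1, k2, -⟩ := exists_twistHom hLq hjl hjl'' hV (res L' h (κ'.app U e'))
    refine ⟨Φ, k1, k2, RingHom.congr_fun (RingHom.eq_of_eqOn_set_dense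
      (f := Φ.comp (u.appLE U V h).hom) (g := (u''.appLE U V h).hom.comp ψ)
      (SymAlgGen.gen_eq_top hj.1 hU) ?_)⟩
    rintro _ (⟨r, rfl⟩ | ⟨m, rfl⟩)
    · change Φ ((u.appLE U V h).hom (strL 𝒯 U r)) = (u''.appLE U V h).hom (ψ (strL 𝒯 U r))
      rw [h1, show (u.appLE U V h).hom (strL 𝒯 U r) = strL 𝒮L V ((q.appLE U V h).hom r) from
        congr(($(u.str_appLE U V h)).hom r), k1]
      exact (congr(($(u''.str_appLE U V h)).hom r)).symm
    · change Φ ((u.appLE U V h).hom (jL j U m)) = (u''.appLE U V h).hom (ψ (jL j U m))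
      rw [appLE_of_app hu hU h, k2, h2, appLE_of_app hu'' hU h, hκ'']
      exact congrArg (jL jl'' V) (TMul.res_tm h _ _).symm
  -- a section of `E'` generating at a point
  have hgenE : ∀ {U : Y.Opens} (hU : IsAffineOpen U) {W : X.Opens} (hW : IsAffineOpen W)
      (h : W ≤ q ⁻¹ᵁ U) {g : Γ(L', W)} (hg : IsGen g) {x : X} (hx : x ∈ W),
      ∃ (e' : Γ(E', U)) (c : Γ(X, W)), c • g = res L' h (κ'.app U e') ∧ x ∈ X.basicOpen c := by
    intro U hU W hW h g hg x hx
    choose c hc using fun m : Γ(E', U) => exists_smul_eq hg (res L' h (κ'.app U m))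
    have htop := span_coeff_eq_top hg _ (span_range_eq_top hE' hL'q φ hU hW h) c hc
    have := (hW.self_le_iSup_basicOpen_iff).2 htop hx
    obtain ⟨⟨_, m, rfl⟩, hm⟩ := Opens.mem_iSup.mp this
    exact ⟨m, c m, hc m, hm⟩
  refine isRelVeryAmple_of_localData hL'' hL''q hjl'' (isGenDegOne_sym hj'') (u := u'') (fun x => ?_) fun x => ?_
  rotate_left
  · -- surjectivity in degree one
    obtain ⟨c, hxc⟩ := hpair x
    obtain ⟨W, hW, g, hxW, hWc, hg⟩ := exists_triv hL' hxc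
    obtain ⟨e', b, hb, hxb⟩ := hgenE c.hU hW (hWc.trans c.le) hg hxW
    obtain ⟨ψ, -, -, hψ, hΦ⟩ := htw c.hU e'
    have hWb : X.basicOpen b ≤ c.U' := (X.basicOpen_le b).trans hWc
    obtain ⟨Φ, -, k2, k3⟩ := hΦ (X.basicOpen b) (hW.basicOpen b) (hWb.trans c.le)
    have hgen : IsGen (res L' (hWb.trans c.le) (κ'.app c.U e')) := by
      rw [← res_res L' (X.basicOpen_le b) (hWc.trans c.le), ← hb, res_smul]
      exact TMul.isGen_smul (isGen_res _ hg) (RingedSpace.isUnit_res_basicOpen _ b)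
    refine ⟨⟨c.U, c.hU, X.basicOpen b, hW.basicOpen b, hWb.trans c.le, ψ c.e, hψ 1 _ c.he,
      tm (res L hWb c.m) (res L' (hWb.trans c.le) (κ'.app c.U e')),
      TMul.isGen_tm (isGen_res _ c.gen) hgen, ?_⟩, hxb⟩
    rw [← k3, ← resL_appLE u hWb c.le, c.eq, resL_jL, k2]
  -- closed immersion data
  obtain ⟨U, hU, n, a, hn, ha, hxO, hO, hcond⟩ := hdata x
  let O := Rel.NV u hU n a
  have hOU : O ≤ q ⁻¹ᵁ U := Rel.NV_le u hU n a
  obtain ⟨W₀, hW₀, g₀, hxW₀, hW₀O, hg₀⟩ := exists_triv hL' (show x ∈ O from hxO)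
  obtain ⟨e', b₀, hb₀, hxb₀⟩ := hgenE hU hW₀ (hW₀O.trans hOU) hg₀ hxW₀
  obtain ⟨ψ, hψs, hψj, hψ, hΦ⟩ := htw hU e'
  let a'' := ψ a
  let O' := Rel.NV u'' hU n a''
  have hO'U : O' ≤ q ⁻¹ᵁ U := Rel.NV_le u'' hU n a''
  have hloc : ∀ (V : X.Opens) (hV : IsAffineOpen V) (hVU : V ≤ q ⁻¹ᵁ U) (g : Γ(L, V)) (g' : Γ(L', V))
      (_ : IsGen g) (_ : IsGen g') (C c' : Γ(X, V)),
      (u.appLE U V hVU).hom a = strL 𝒮L V C * jL jl V g ^ n → c' • g' = res L' hVU (κ'.app U e') →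
      V ⊓ O = X.basicOpen C ∧ V ⊓ O' = X.basicOpen (C * c' ^ n) := by
    intro V hV hVU g g' hg hg' C c' hC hc'
    refine ⟨inter_eq_basicOpen hLq hjl ((u.app U).hom a) (fun y => mem_NV_iff u hU n a y) hV hVU hg hC, ?_⟩
    obtain ⟨Φ, k1, k2, k3⟩ := hΦ V hV hVU
    refine inter_eq_basicOpen hL''q hjl'' ((u''.app U).hom a'') (fun y => mem_NV_iff u'' hU n a'' y) hV hVU
      (TMul.isGen_tm hg hg') ?_
    change (u''.appLE U V hVU).hom (ψ a) = _
    rw [← k3, hC, map_mul, map_pow, k1, k2, ← hc', TMul.tm_smul,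
      show jL jl'' V (c' • tm g g') = strL 𝒮L'' V c' * jL jl'' V (tm g g') from
        Scheme.Modules.Hom.app_smul jl'' c' _, mul_pow, ← map_pow, ← mul_assoc, ← map_mul]
  have htriv : ∀ y : X, y ∈ q ⁻¹ᵁ U → ∃ (V : X.Opens) (_ : IsAffineOpen V) (hVU : V ≤ q ⁻¹ᵁ U) (g : Γ(L, V))
      (g' : Γ(L', V)) (C c' : Γ(X, V)), y ∈ V ∧ IsGen g ∧ IsGen g' ∧
      (u.appLE U V hVU).hom a = strL 𝒮L V C * jL jl V g ^ n ∧ c' • g' = res L' hVU (κ'.app U e') := by
    intro y hy
    obtain ⟨V₁, hV₁, g₁, hyV₁, hV₁U, hg₁⟩ := exists_triv hL hy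
    obtain ⟨V, hV, g', hyV, hVV₁, hg'⟩ := exists_triv hL' hyV₁
    have hVU : V ≤ q ⁻¹ᵁ U := hVV₁.trans hV₁U
    obtain ⟨C, hC⟩ := exists_coeff hLq hjl hV (isGen_res hVV₁ hg₁) (u.map_mem U hU V hV hVU ha)
    obtain ⟨c', hc'⟩ := exists_smul_eq hg' (res L' hVU (κ'.app U e'))
    exact ⟨V, hV, hVU, res L hVV₁ g₁, g', C, c', hyV, isGen_res hVV₁ hg₁, hg', hC, hc'⟩
  have hO'O : O' ≤ O := fun y hy => by
    obtain ⟨V, hV, hVU, g, g', C, c', hyV, hg, hg', hC, hc'⟩ := htriv y (hO'U hy)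
    obtain ⟨e1, e2⟩ := hloc V hV hVU g g' hg hg' C c' hC hc'
    have := e2.le ⟨hyV, hy⟩
    rw [Scheme.basicOpen_mul] at this
    exact (e1.ge this.1).2
  have hVO : ∀ (V : X.Opens) (hV : IsAffineOpen V) (hV' : V ≤ O) (g' : Γ(L', V)) (_ : IsGen g') (c' : Γ(X, V)),
      c' • g' = res L' (hV'.trans hOU) (κ'.app U e') → V ⊓ O' = X.basicOpen c' := by
    intro V hV hV' g' hg' c' hc'
    refine le_antisymm (fun y hy => ?_) fun y hy => ⟨X.basicOpen_le _ hy, ?_⟩
    all_goals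
      have hyV : y ∈ V := by first | exact hy.1 | exact X.basicOpen_le _ hy
      obtain ⟨V₂, hV₂, g, hyV₂, hV₂V, hg⟩ := exists_triv hL hyV
      have hV₂U : V₂ ≤ q ⁻¹ᵁ U := hV₂V.trans (hV'.trans hOU)
      obtain ⟨C, hC⟩ := exists_coeff hLq hjl hV₂ hg (u.map_mem U hU V₂ hV₂ hV₂U ha)
      have hc₂ : resO X hV₂V c' • res L' hV₂V g' = res L' hV₂U (κ'.app U e') := by
        rw [← res_smul, hc', res_res]
      obtain ⟨e1, e2⟩ := hloc V₂ hV₂ hV₂U g _ hg (isGen_res hV₂V hg') C _ hC hc₂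
      have hCy : y ∈ X.basicOpen C := e1.le ⟨hyV₂, hV' (hV₂V hyV₂)⟩
    · have h3 := e2.le ⟨hyV₂, hy.2⟩
      rw [Scheme.basicOpen_mul, Scheme.basicOpen_pow _ _ hn] at h3
      have h4 : y ∈ X.basicOpen (resO X hV₂V c') := h3.2
      rw [show X.basicOpen (resO X hV₂V c') = V₂ ⊓ X.basicOpen c' from X.basicOpen_res c' _] at h4
      exact h4.2
    · refine (e2.ge ?_).2
      rw [Scheme.basicOpen_mul, Scheme.basicOpen_pow _ _ hn]
      refine ⟨hCy, ?_⟩
      rw [show X.basicOpen (resO X hV₂V c') = V₂ ⊓ X.basicOpen c' from X.basicOpen_res c' _]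
      exact ⟨hyV₂, hy⟩
  have hxO' : x ∈ O' := ((hVO W₀ hW₀ hW₀O g₀ hg₀ b₀ hb₀).ge hxb₀).2
  -- a cover of `O` by trivialising basic opens
  have hcovO : ∀ y : O, ∃ (r : Γ(X, O)) (g' : Γ(L', X.basicOpen r)) (c' : Γ(X, X.basicOpen r)),
      y.1 ∈ X.basicOpen r ∧ IsGen g' ∧
      c' • g' = res L' ((X.basicOpen_le r).trans hOU) (κ'.app U e') := fun y => by
    obtain ⟨r, g', hyr, hg'⟩ := exists_triv_basic hL' hO y.2
    obtain ⟨c', hc'⟩ := exists_smul_eq hg' (res L' ((X.basicOpen_le r).trans hOU) (κ'.app U e'))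
    exact ⟨r, g', c', hyr, hg', hc'⟩
  choose r g' c' hyr hg' hc' using hcovO
  have hDO : ∀ y : O, X.basicOpen (r y) ⊓ O' = X.basicOpen (c' y) := fun y =>
    hVO _ (hO.basicOpen (r y)) (X.basicOpen_le _) (g' y) (hg' y) (c' y) (hc' y)
  have hr1 : Ideal.span (Set.range r) = ⊤ :=
    hO.self_le_iSup_basicOpen_iff.1 fun y hy =>
      Opens.mem_iSup.mpr ⟨⟨_, ⟨y, hy⟩, rfl⟩, hyr ⟨y, hy⟩⟩
  have hrbo : ∀ y, X.basicOpen (resO X hO'O (r y)) = X.basicOpen (c' y) := fun y => by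
    rw [← hDO y, show X.basicOpen (resO X hO'O (r y)) = O' ⊓ X.basicOpen (r y) from X.basicOpen_res _ _,
      inf_comm]
  have hO' : IsAffineOpen O' := by
    refine isAffineOpen_of_isAffineOpen_basicOpen O' (resO X hO'O '' Set.range r) ?_ ?_
    · rw [← Ideal.map_span, hr1, Ideal.map_top]
    · rintro _ ⟨_, ⟨y, rfl⟩, rfl⟩
      rw [hrbo]
      exact (hO.basicOpen (r y)).basicOpen _
  obtain ⟨Φ, k1, k2, k3⟩ := hΦ O' hO' hO'U
  let ε : Γ(L', O') := res L' hO'U (κ'.app U e')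
  have hε : IsGen ε := by
    intro V hV
    refine RelTilde.isGen_of_cover ε (fun y : O => X.basicOpen (c' y)) (fun z hz => ?_) (fun y V' hV' hV'D => ?_) V hV
    · exact Opens.mem_iSup.mpr ⟨⟨z, hO'O hz⟩, (hDO _).le ⟨hyr _, hz⟩⟩
    · have := TMul.isGen_smul (isGen_res (X.basicOpen_le (c' y)) (hg' y))
        (RingedSpace.isUnit_res_basicOpen _ (c' y)) V' hV'D
      change Function.Bijective fun c => c • res L' hV'D (resO X (X.basicOpen_le (c' y)) (c' y) •
        res L' (X.basicOpen_le (c' y)) (g' y)) at this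
      rw [← res_smul, hc', res_res, res_res] at this
      rw [show res L' hV' ε = res L' (hV'.trans hO'U) (κ'.app U e') from res_res L' hV' hO'U _]
      exact this
  refine ⟨U, hU, n, a'', hn, hψ n a ha, hxO', hO', ?_⟩
  let R := Rel.condSubring u'' hU (n := n) (f := a'') (hψ n a ha) hO'U
  have hR1 : ∀ z : Γ(X, O), resO X hO'O z ∈ R := fun z => by
    obtain ⟨k, hk, s, hs, he⟩ := hcond z
    refine ⟨k, hk, ψ s, hψ _ s hs, ?_⟩
    have h0 := congrArg Φ (congrArg (resL 𝒮L hO'O) he)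
    rw [map_mul, map_pow, resL_appLE, resL_appLE, resL_strL, map_mul, map_pow, k1, k3, k3] at h0
    exact h0
  have hR2 : ∀ (m : Γ(E', U)) (ρ : Γ(X, O')), ρ • ε = res L' hO'U (κ'.app U m) → ρ ∈ R := by
    intro m ρ hρ
    let B := (u''.appLE U O' hO'U).hom
    let S : ℕ → 𝒯.presheaf.obj (op U) → Prop := fun d y =>
      ∃ s ∈ 𝒯''.deg U hU d, strL 𝒮L'' O' ρ * B (ψ y) = B s
    have hM : ∀ y ∈ Submonoid.closure
        (Set.range (SymAlgGen.strS 𝒯.toQCAlg U) ∪ Set.range (SymAlgGen.jsec j U)),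
        ∃ d, y ∈ 𝒯.deg U hU d ∧ (0 < d → S d y) := fun y hy => by
      induction hy using Submonoid.closure_induction with
      | mem y hy =>
        obtain ⟨c, rfl⟩ | ⟨l, rfl⟩ := hy
        · exact ⟨0, 𝒯.str_mem U hU c, fun h => absurd h (lt_irrefl 0)⟩
        · refine ⟨1, hj.2 U hU l, fun _ => ⟨jL j'' U (tm l m), hj''.2 U hU _, ?_⟩⟩
          change strL 𝒮L'' O' ρ * B (ψ (jL j U l)) = _
          rw [hψj]
          change strL 𝒮L'' O' ρ * (u''.appLE U O' hO'U).hom (jL j'' U (tm l e')) =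
            (u''.appLE U O' hO'U).hom (jL j'' U (tm l m))
          rw [appLE_of_app hu'' hU, appLE_of_app hu'' hU, hκ'', hκ'']
          refine (Scheme.Modules.Hom.app_smul jl'' ρ _).symm.trans (congrArg (jL jl'' O') ?_)
          refine (congrArg (ρ • ·) (TMul.res_tm hO'U _ _)).trans (Eq.trans ?_ (TMul.res_tm hO'U _ _).symm)
          rw [← TMul.tm_smul]
          exact congrArg _ hρ
      | one => exact ⟨0, SetLike.one_mem_graded _, fun h => absurd h (lt_irrefl 0)⟩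
      | mul y z _ _ hy hz =>
        obtain ⟨d, hy, hyS⟩ := hy
        obtain ⟨d', hz, hzS⟩ := hz
        refine ⟨d + d', SetLike.mul_mem_graded hy hz, fun h => ?_⟩
        rcases Nat.eq_zero_or_pos d with hd | hd
        · obtain ⟨s, hs, he⟩ := hzS (by omega)
          refine ⟨ψ y * s, SetLike.mul_mem_graded (hψ d y hy) hs, ?_⟩
          rw [map_mul, map_mul, map_mul, ← he]
          ring
        · obtain ⟨s, hs, he⟩ := hyS hd
          refine ⟨s * ψ z, SetLike.mul_mem_graded hs (hψ d' z hz), ?_⟩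
          rw [map_mul, map_mul, map_mul, ← he]
          ring
    suffices key : ∀ z, S n (decompose (𝒯.deg U hU) z n : 𝒯.presheaf.obj (op U)) by
      obtain ⟨s, hs, he⟩ := key a
      rw [decompose_of_mem_same _ ha] at he
      exact ⟨1, one_pos, s, by rwa [one_mul], by rw [pow_one]; exact he⟩
    intro z
    have hz : z ∈ Subring.closure
        (Set.range (SymAlgGen.strS 𝒯.toQCAlg U) ∪ Set.range (SymAlgGen.jsec j U)) :=
      (SymAlgGen.gen_eq_top hj.1 hU).ge (Subring.mem_top z)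
    rw [Subring.mem_closure_iff] at hz
    have hS0 : S n 0 := ⟨0, zero_mem _, by simp⟩
    induction hz using AddSubgroup.closure_induction with
    | mem y hy =>
      obtain ⟨d, hd, hdS⟩ := hM y hy
      by_cases h : d = n
      · subst h
        rw [decompose_of_mem_same _ hd]
        exact hdS hn
      · rw [decompose_of_mem_ne _ hd h]
        exact hS0
    | zero => rw [decompose_zero]; exact hS0
    | add y z _ _ hy hz =>
      obtain ⟨s, hs, he⟩ := hy
      obtain ⟨t, ht, he'⟩ := hz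
      refine ⟨s + t, add_mem hs ht, ?_⟩
      rw [decompose_add, DirectSum.add_apply, AddMemClass.coe_add, map_add, map_add, map_add, mul_add, he, he']
    | neg y _ hy =>
      obtain ⟨s, hs, he⟩ := hy
      refine ⟨-s, neg_mem hs, ?_⟩
      rw [decompose_neg]
      change strL 𝒮L'' O' ρ * B (ψ (-(decompose (𝒯.deg U hU) y n : 𝒯.presheaf.obj (op U)))) = _
      rw [map_neg, map_neg, map_neg, mul_neg, he]
  intro t
  change t ∈ R
  letI := (X.presheaf.map (homOfLE hO'O).op).hom.toAlgebra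
  let M : Submodule Γ(X, O) Γ(X, O') :=
    { carrier := R
      add_mem' := R.add_mem
      zero_mem' := R.zero_mem
      smul_mem' := fun z w hw => R.mul_mem (hR1 z) hw }
  refine Submodule.mem_of_span_eq_top_of_smul_pow_mem M (Set.range r) hr1 t ?_
  rintro ⟨_, y, rfl⟩
  let D := X.basicOpen (r y)
  have hD : IsAffineOpen D := hO.basicOpen (r y)
  let V' := X.basicOpen (c' y)
  have hV'O' : V' ≤ O' := (hDO y).ge.trans inf_le_right
  have hV'D : V' ≤ D := X.basicOpen_le (c' y)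
  let R' : Subring Γ(X, V') :=
    { carrier := {w | ∃ (K : ℕ) (z : Γ(X, O')), z ∈ R ∧ resO X hV'O' (resO X hO'O (r y)) ^ K * w = resO X hV'O' z}
      one_mem' := ⟨0, 1, R.one_mem, by rw [pow_zero, one_mul, map_one]⟩
      zero_mem' := ⟨0, 0, R.zero_mem, by rw [mul_zero, map_zero]⟩
      add_mem' := by
        rintro p p' ⟨K, z, hz, he⟩ ⟨K', z', hz', he'⟩
        refine ⟨K + K', resO X hO'O (r y) ^ K' * z + resO X hO'O (r y) ^ K * z',
          R.add_mem (R.mul_mem (R.pow_mem (hR1 _) _) hz) (R.mul_mem (R.pow_mem (hR1 _) _) hz'), ?_⟩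
        rw [map_add, map_mul, map_mul, map_pow, map_pow, ← he, ← he', pow_add]
        ring
      neg_mem' := by
        rintro p ⟨K, z, hz, he⟩
        exact ⟨K, -z, R.neg_mem hz, by rw [map_neg, ← he, mul_neg]⟩
      mul_mem' := by
        rintro p p' ⟨K, z, hz, he⟩ ⟨K', z', hz', he'⟩
        refine ⟨K + K', z * z', R.mul_mem hz hz', ?_⟩
        rw [map_mul, ← he, ← he', pow_add]
        ring }
  have hR'1 : ∀ w : Γ(X, D), resO X hV'D w ∈ R' := fun w => by
    haveI := hO.isLocalization_basicOpen (r y)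
    obtain ⟨K, z, hz⟩ := IsLocalization.Away.surj (r y) w
    refine ⟨K, resO X hO'O z, hR1 z, ?_⟩
    have h0 : w * resO X (X.basicOpen_le (r y)) (r y) ^ K = resO X (X.basicOpen_le (r y)) z := hz
    have h1 := congrArg (resO X hV'D) h0
    rw [map_mul, map_pow, QC.resO_resO, QC.resO_resO] at h1
    rw [QC.resO_resO, QC.resO_resO, mul_comm]
    exact h1
  -- the inverse of `c'`
  have hinv : ∃ i ∈ R', i * resO X hV'D (c' y) = 1 := by
    choose cm hcm using fun m : Γ(E', U) =>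
      exists_smul_eq (hg' y) (res L' ((X.basicOpen_le _).trans hOU) (κ'.app U m))
    have hone := (Ideal.eq_top_iff_one _).1
      (span_coeff_eq_top (hg' y) _ (span_range_eq_top hE' hL'q φ hU hD ((X.basicOpen_le _).trans hOU)) cm hcm)
    choose ρ hρ using fun m : Γ(E', U) => exists_smul_eq hε (res L' hO'U (κ'.app U m))
    have hρc : ∀ m, resO X hV'O' (ρ m) * resO X hV'D (c' y) = resO X hV'D (cm m) := fun m => by
      refine (isGen_res hV'D (hg' y) V' le_rfl).1 ?_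
      simp only [res_self]
      rw [mul_smul, ← res_smul, ← res_smul, hc', hcm, res_res, res_res,
        ← res_res L' hV'O' hO'U, ← res_smul, hρ, res_res]
    suffices h : ∀ w ∈ Ideal.span (Set.range cm), ∃ i ∈ R', i * resO X hV'D (c' y) = resO X hV'D w by
      obtain ⟨i, hi, he⟩ := h 1 hone
      exact ⟨i, hi, by rwa [map_one] at he⟩
    intro w hw
    induction hw using Submodule.span_induction with
    | mem w hw =>
      obtain ⟨m, rfl⟩ := hw
      exact ⟨_, ⟨0, ρ m, hR2 m _ (hρ m), by rw [pow_zero, one_mul]⟩, hρc m⟩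
    | zero => exact ⟨0, R'.zero_mem, by rw [zero_mul, map_zero]⟩
    | add w w' _ _ hw hw' =>
      obtain ⟨i, hi, he⟩ := hw
      obtain ⟨i', hi', he'⟩ := hw'
      exact ⟨i + i', R'.add_mem hi hi', by rw [add_mul, he, he', map_add]⟩
    | smul β w _ hw =>
      obtain ⟨i, hi, he⟩ := hw
      exact ⟨resO X hV'D β * i, R'.mul_mem (hR'1 β) hi, by rw [smul_eq_mul, mul_assoc, he, map_mul]⟩
  obtain ⟨i, hi, hic⟩ := hinv
  have ht : resO X hV'O' t ∈ R' := by
    haveI := hD.isLocalization_basicOpen (c' y)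
    obtain ⟨N, z, hz⟩ := IsLocalization.Away.surj (c' y) (resO X hV'O' t)
    have h0 : resO X hV'O' t * resO X hV'D (c' y) ^ N = resO X hV'D z := hz
    have h1 : resO X hV'O' t = resO X hV'D z * i ^ N := by
      rw [← h0, mul_assoc, ← mul_pow, mul_comm _ i, hic, one_pow, mul_one]
    rw [h1]
    exact R'.mul_mem (hR'1 z) (R'.pow_mem hi N)
  obtain ⟨K, z, hz, he⟩ := ht
  obtain ⟨K', hK'⟩ : ∃ K' : ℕ, resO X hO'O (r y) ^ K' * (resO X hO'O (r y) ^ K * t - z) = 0 := by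
    haveI := hO'.isLocalization_basicOpen (resO X hO'O (r y))
    obtain ⟨⟨_, K', rfl⟩, h⟩ := (IsLocalization.map_eq_zero_iff (Submonoid.powers (resO X hO'O (r y)))
      Γ(X, X.basicOpen (resO X hO'O (r y))) (resO X hO'O (r y) ^ K * t - z)).1 (by
        change resO X (X.basicOpen_le _) _ = 0
        rw [← QC.resO_resO (hrbo y).le hV'O', map_sub, map_mul, map_pow, he, sub_self, map_zero])
    exact ⟨K', h⟩
  refine ⟨K' + K, ?_⟩
  change resO X hO'O (r y ^ (K' + K)) * t ∈ R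
  rw [map_pow, pow_add, mul_assoc, show resO X hO'O (r y) ^ K' * (resO X hO'O (r y) ^ K * t) =
    resO X hO'O (r y) ^ K' * z by linear_combination hK']
  exact R.mul_mem (R.pow_mem (hR1 _) _) hz

end Main

end Groth.Agent.SymAlg
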